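import Groth.Agent.HensPoint.Hull
import Groth.Prelude.Def_Hensel
import Mathlib.FieldTheory.IsSepClosed
import Mathlib.RingTheory.Polynomial.Basic

/-!
Strict henselization of a local ring.
-/

set_option autoImplicit false

noncomputable section

open IsLocalRing Polynomial

namespace Groth.Agent.HensPoint.Strict

universe u

variable (R : Type u) [CommRing R] [IsLocalRing R]

/-- a separable closure of the residue field -/
abbrev Ksep : Type u := SeparableClosure (ResidueField R)

/-- the strict henselization -/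
abbrev Sh : Type u := Hull.H R (Ksep R)

theorem algebraMap_eq (r : R) :
    algebraMap R (Ksep R) r = algebraMap (ResidueField R) (Ksep R) (residue R r) := by
  rw [IsScalarTower.algebraMap_apply R (ResidueField R) (Ksep R)]; rfl

theorem ker_algebraMap : RingHom.ker (algebraMap R (Ksep R)) = maximalIdeal R := by
  ext r
  rw [RingHom.mem_ker, algebraMap_eq, map_eq_zero, residue_eq_zero_iff]

instance : IsLocalHom (algebraMap R (Sh R)) :=
  ((local_hom_TFAE (algebraMap R (Sh R))).out 0 2).mpr
    (le_of_eq (ker_algebraMap R ▸ Hull.map_ker_eq (R := R) (Ω := Ksep R)))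

theorem π_surjective : Function.Surjective (Hull.π R (Ksep R)) := fun a => by
  have hsep : IsSeparable (ResidueField R) a := Algebra.IsSeparable.isSeparable _ a
  obtain ⟨f, hmap, -, hf⟩ := Polynomial.lifts_and_degree_eq_and_monic
    (f := residue R) ((Polynomial.mem_lifts _).mpr
      (Polynomial.map_surjective _ residue_surjective _)) (minpoly.monic hsep.isIntegral)
  have hmap' : f.map (algebraMap R (ResidueField R)) = minpoly (ResidueField R) a := hmap
  refine Hull.mem_range_π f hf a ?_ ?_
  · rw [← aeval_map_algebraMap (ResidueField R), hmap', minpoly.aeval]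
  · rw [← aeval_map_algebraMap (ResidueField R), ← derivative_map, hmap']
    exact hsep.aeval_derivative_ne_zero (minpoly.aeval _ a)

/-- the residue field -/
def residueEquiv : ResidueField (Sh R) ≃ₐ[ResidueField R] Ksep R :=
  AlgEquiv.ofBijective
    (AlgHom.mk (Ideal.Quotient.lift (maximalIdeal (Sh R)) (Hull.π R (Ksep R)).toRingHom
      fun x hx => (Hull.mem_maximalIdeal_iff x).mp hx) fun z => by
        obtain ⟨r, rfl⟩ := residue_surjective z
        exact ((Hull.π R (Ksep R)).commutes r).trans (algebraMap_eq R r))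
    ⟨RingHom.injective _, fun a => by
      obtain ⟨x, hx⟩ := π_surjective R a
      exact ⟨residue _ x, hx⟩⟩

theorem isSepClosure : IsSepClosure (ResidueField R) (ResidueField (Sh R)) := by
  let e := residueEquiv R
  refine ⟨IsSepClosed.of_exists_root _ fun p hm hirr hsep => ?_,
    AlgEquiv.Algebra.isSeparable e.symm⟩
  obtain ⟨x, hx⟩ := IsSepClosed.exists_root (p.map e.toAlgHom.toRingHom)
    (by rw [degree_map]; exact hirr.degree_pos.ne') hsep.map
  refine ⟨e.symm x, e.injective ?_⟩
  rw [map_zero]
  refine (eval_map_apply e.toAlgHom.toRingHom _).symm.trans ?_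
  show (p.map e.toAlgHom.toRingHom).eval (e (e.symm x)) = 0
  rw [e.apply_symm_apply]
  exact hx

theorem isStrictHenselization : Hensel.IsStrictHenselization R (Sh R) := by
  refine ⟨Hull.henselian, isSepClosure R, fun T _ _ f hf τ hτ => ?_⟩
  let : Algebra R T := f.toAlgebra
  have hτ' : ∀ r, τ (residue _ (algebraMap R (Sh R) r)) = residue T (algebraMap R T r) := fun r => by
    have := RingHom.congr_fun hτ (residue R r)
    rwa [RingHom.comp_apply, ResidueField.map_residue, ResidueField.map_residue] at this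
  obtain ⟨g, hg, hu⟩ := Hull.existsUnique_algHom T τ hτ'
  refine ⟨g.toRingHom, ⟨g.comp_algebraMap, hg⟩, fun g' hg' => ?_⟩
  exact congrArg AlgHom.toRingHom (hu ⟨g', fun r => RingHom.congr_fun hg'.1 r⟩ hg'.2)

variable {R}

variable {S : Type u} [CommRing S] [IsLocalRing S] [Algebra R S] [IsLocalHom (algebraMap R S)]
  [hS : Hensel.IsStrictHenselization R S]

theorem exists_equiv : Nonempty (S ≃ₐ[R] Sh R) := by
  have hH := isStrictHenselization R
  have := hS.henselian
  have := hH.henselian
  have := hS.isSepClosure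
  have := isSepClosure R
  let e : ResidueField S ≃ₐ[ResidueField R] ResidueField (Sh R) := IsSepClosure.equiv _ _ _
  have he : e.toAlgHom.toRingHom.comp (ResidueField.map (algebraMap R S)) =
      ResidueField.map (algebraMap R (Sh R)) := e.toAlgHom.comp_algebraMap
  have he' : e.symm.toAlgHom.toRingHom.comp (ResidueField.map (algebraMap R (Sh R))) =
      ResidueField.map (algebraMap R S) := e.symm.toAlgHom.comp_algebraMap
  obtain ⟨g, ⟨hg, hg'⟩, -⟩ := hS.universal (Sh R) (algebraMap R (Sh R)) e.toAlgHom.toRingHom he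
  obtain ⟨g₂, ⟨hg₂, hg₂'⟩, -⟩ := hH.universal S (algebraMap R S) e.symm.toAlgHom.toRingHom he'
  have h1 : g₂.comp g = RingHom.id S :=
    (hS.universal S (algebraMap R S) (RingHom.id _) (RingHom.id_comp _)).unique
      ⟨by rw [RingHom.comp_assoc, hg, hg₂], fun x => by
        rw [RingHom.comp_apply, hg₂', hg']
        exact e.symm_apply_apply _⟩
      ⟨RingHom.id_comp _, fun x => rfl⟩
  have h2 : g.comp g₂ = RingHom.id (Sh R) :=
    (hH.universal (Sh R) (algebraMap R (Sh R)) (RingHom.id _) (RingHom.id_comp _)).unique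
      ⟨by rw [RingHom.comp_assoc, hg₂, hg], fun x => by
        rw [RingHom.comp_apply, hg', hg₂']
        exact e.apply_symm_apply _⟩
      ⟨RingHom.id_comp _, fun x => rfl⟩
  exact ⟨AlgEquiv.ofRingEquiv (f := RingEquiv.ofRingHom g g₂ h2 h1) fun r => RingHom.congr_fun hg r⟩

theorem map_maximalIdeal : (maximalIdeal R).map (algebraMap R S) = maximalIdeal S := by
  obtain ⟨e⟩ := exists_equiv (R := R) (S := S)
  have h : (maximalIdeal R).map (algebraMap R (Sh R)) = maximalIdeal (Sh R) := by
    conv_lhs => rw [← ker_algebraMap R]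
    exact Hull.map_ker_eq
  have h2 := congrArg (Ideal.map e.symm.toAlgHom.toRingHom) h
  rw [Ideal.map_map, AlgHom.toRingHom_eq_coe, AlgHom.comp_algebraMap] at h2
  exact h2.trans (map_maximalIdeal_of_surjective _ e.symm.surjective)

theorem flat : Module.Flat R S := by
  obtain ⟨e⟩ := exists_equiv (R := R) (S := S)
  have := Hull.flat (R := R) (Ω := Ksep R)
  exact Module.Flat.of_linearEquiv e.toLinearEquiv

theorem faithfullyFlat : Module.FaithfullyFlat R S :=
  have := flat (R := R) (S := S)
  Module.FaithfullyFlat.of_flat_of_isLocalHom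

theorem exists_rep {κ : Type*} [Finite κ] (x : κ → S) :
    ∃ (A' : Type u) (_ : CommRing A') (_ : Algebra R A') (_ : Algebra.Etale R A')
      (φ : A' →ₐ[R] S), ∀ k, ∃ r, φ r = x k := by
  obtain ⟨e⟩ := exists_equiv (R := R) (S := S)
  obtain ⟨A', _, _, h, φ, hr⟩ := Hull.exists_rep fun k => e (x k)
  refine ⟨A', inferInstance, inferInstance, h, e.symm.toAlgHom.comp φ, fun k => ?_⟩
  obtain ⟨r, hr⟩ := hr k
  exact ⟨r, by simp [hr]⟩

theorem exists_kill {A' : Type u} [CommRing A'] [Algebra R A'] [Algebra.Etale R A']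
    (φ : A' →ₐ[R] S) {κ : Type*} [Finite κ] (s : κ → A') (hs : ∀ k, φ (s k) = 0) :
    ∃ (A'' : Type u) (_ : CommRing A'') (_ : Algebra R A'') (_ : Algebra.Etale R A'')
      (χ : A'' →ₐ[R] S) (ψ : A' →ₐ[R] A''), χ.comp ψ = φ ∧ ∀ k, ψ (s k) = 0 := by
  obtain ⟨e⟩ := exists_equiv (R := R) (S := S)
  obtain ⟨A'', _, _, h, χ, ψ, hc, hψ⟩ :=
    Hull.exists_kill (e.toAlgHom.comp φ) s fun k => by simp [hs k]
  refine ⟨A'', inferInstance, inferInstance, h, e.symm.toAlgHom.comp χ, ψ, ?_, hψ⟩
  rw [AlgHom.comp_assoc, hc, ← AlgHom.comp_assoc]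
  ext x; simp

theorem formallyEtale : Algebra.FormallyEtale R S := by
  obtain ⟨e⟩ := exists_equiv (R := R) (S := S)
  have := Hull.formallyEtale (R := R) (Ω := Ksep R)
  exact Algebra.FormallyEtale.of_equiv e.symm

end Groth.Agent.HensPoint.Strict
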