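import Groth.Agent.HensPoint.EtColim
import Groth.Agent.Flat.WeaklyEtale
import Mathlib.RingTheory.Etale.Weakly

/-!
Colimits of etale algebras are weakly etale.
-/

set_option autoImplicit false

noncomputable section

open scoped TensorProduct

namespace Groth.Agent.HensPoint.WeaklyEtale

universe u

variable {A B : Type u} [CommRing A] [CommRing B] [Algebra A B]

theorem flat_of_flat_base (hB : EtColim.IsEtColim A B) (M : Type u) [AddCommGroup M] [Module A M]
    [Module B M] [IsScalarTower A B M] [Module.Flat A M] : Module.Flat B M := by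
  refine Module.Flat.iff_forall_isTrivialRelation.mpr fun {l f x} hfx => ?_
  obtain ⟨A', _, _, _, φ, hr⟩ := hB.rep f
  choose r hr using hr
  let : Module A' M := Module.compHom M φ.toRingHom
  have hsmul : ∀ (a : A') (m : M), a • m = φ a • m := fun _ _ => rfl
  have : IsScalarTower A A' M := IsScalarTower.of_algebraMap_smul fun a m => by
    rw [hsmul, φ.commutes, algebraMap_smul]
  have := Flat.WeaklyEtale.flat_of_flat_base A A' M
  have hr' : ∑ i, r i • x i = 0 := by simpa only [hsmul, hr] using hfx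
  obtain ⟨n, a, y, hy, ha⟩ := Module.Flat.iff_forall_isTrivialRelation.mp this hr'
  refine ⟨n, fun i j => φ (a i j), y, fun i => ?_, fun j => ?_⟩
  · rw [hy i]; rfl
  · simp only [← hr, ← map_mul, ← map_sum, ha, map_zero]

theorem weaklyEtale (hB : EtColim.IsEtColim A B) : Algebra.WeaklyEtale A B := by
  classical
  have := hB.flat
  refine ⟨this, ?_⟩
  let μ : B ⊗[A] B →ₐ[A] B := Algebra.TensorProduct.lmul' A
  let algμ : Algebra (B ⊗[A] B) B := μ.toRingHom.toAlgebra
  show Module.Flat (B ⊗[A] B) B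
  refine Module.Flat.iff_forall_isTrivialRelation.mpr fun {l f x} hfx => ?_
  choose T hT using fun i => TensorProduct.exists_finset (f i)
  obtain ⟨A', _, _, _, φ, hr⟩ := hB.rep
    (fun t : (Σ i, T i) × Bool => if t.2 then t.1.2.1.1 else t.1.2.1.2)
  choose r hr using hr
  let φφ : A' ⊗[A] A' →ₐ[A] B ⊗[A] B := Algebra.TensorProduct.map φ φ
  have hg : ∀ i, ∃ g, φφ g = f i := fun i =>
    ⟨∑ t : T i, r (⟨i, t⟩, true) ⊗ₜ r (⟨i, t⟩, false), by
      rw [map_sum, hT i, ← Finset.sum_coe_sort (T i)]
      refine Finset.sum_congr rfl fun t _ => ?_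
      rw [Algebra.TensorProduct.map_tmul, hr, hr]
      rfl⟩
  choose g hg using hg
  let μ' : A' ⊗[A] A' →ₐ[A] A' := Algebra.TensorProduct.lmul' A
  let : Algebra A' B := φ.toRingHom.toAlgebra
  have : IsScalarTower A A' B := IsScalarTower.of_algebraMap_eq fun a => (φ.commutes a).symm
  have hA'B : Module.Flat A' B := Flat.WeaklyEtale.flat_of_flat_base A A' B
  have hflat : (φ.toRingHom.comp μ'.toRingHom).Flat :=
    RingHom.Flat.comp (Algebra.WeaklyEtale.flat_lmul' A A') hA'B
  let alg' : Algebra (A' ⊗[A] A') B := (φ.toRingHom.comp μ'.toRingHom).toAlgebra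
  have hflat' : Module.Flat (A' ⊗[A] A') B := hflat
  have hcomm : ∀ z, μ (φφ z) = φ (μ' z) := by
    intro z
    have : μ.comp φφ = φ.comp μ' := by
      apply Algebra.TensorProduct.ext' fun a b => ?_
      simp [μ, φφ, μ']
    exact DFunLike.congr_fun this z
  have hr' : ∑ i, g i • x i = 0 := by
    refine Eq.trans (Finset.sum_congr rfl fun i _ => ?_) hfx
    show φ (μ' (g i)) * x i = μ (f i) * x i
    rw [← hcomm, hg]
  obtain ⟨n, a, y, hy, ha⟩ := Module.Flat.iff_forall_isTrivialRelation.mp hflat' hr'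
  refine ⟨n, fun i j => φφ (a i j), y, fun i => ?_, fun j => ?_⟩
  · rw [hy i]
    refine Finset.sum_congr rfl fun j _ => ?_
    show φ (μ' (a i j)) * y j = μ (φφ (a i j)) * y j
    rw [hcomm]
  · simp only [← hg, ← map_mul, ← map_sum, ha, map_zero]

end Groth.Agent.HensPoint.WeaklyEtale
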