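import Groth.Agent.HensPoint.EtColim
import Mathlib.RingTheory.Flat.FaithfullyFlat.Algebra
import Mathlib.RingTheory.FinitePresentation
import Mathlib.Order.Directed

/-!
Directed colimits of algebras given by a cocone which is surjective and exact.
-/

set_option autoImplicit false

noncomputable section

namespace Groth.Agent.HensPoint.DirColim

universe u v w

section general

variable {R : Type w} {A : Type u} [CommRing R] [CommRing A] [Algebra R A] {J : Type v} [Preorder J]
  [IsDirectedOrder J] [Nonempty J] {B : J → Type u} [∀ j, CommRing (B j)] [∀ j, Algebra R (B j)]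
  {g : ∀ i j, i ≤ j → B i →ₐ[R] B j} {c : ∀ j, B j →ₐ[R] A}
  (hc : ∀ i j (h : i ≤ j) (x : B i), c j (g i j h x) = c i x)
  (hsurj : ∀ a : A, ∃ j x, c j x = a)
  (hzero : ∀ i (x : B i), c i x = 0 → ∃ j, ∃ h : i ≤ j, g i j h x = 0)

include hc hsurj in
theorem exists_lift {κ : Type*} [Finite κ] (i : J) (a : κ → A) :
    ∃ (n : J) (x : κ → B n), i ≤ n ∧ ∀ k, c n (x k) = a k := by
  choose j x hx using fun k => hsurj (a k)
  obtain ⟨m, hm⟩ := Finite.exists_le j
  obtain ⟨n, hmn, hin⟩ := exists_ge_ge m i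
  exact ⟨n, fun k => g (j k) n ((hm k).trans hmn) (x k), hin, fun k => by rw [hc, hx]⟩

include hc hzero in
theorem exists_kill {i : J} (s : Finset (B i)) (hs : ∀ x ∈ s, c i x = 0) :
    ∃ (n : J) (ρ : B i →ₐ[R] B n), i ≤ n ∧ (c n).comp ρ = c i ∧ ∀ x ∈ s, ρ x = 0 := by
  classical
  induction s using Finset.induction_on with
  | empty => exact ⟨i, AlgHom.id R _, le_rfl, AlgHom.comp_id _, by simp⟩
  | insert a s has ih =>
    obtain ⟨n, ρ, hin, hρ, hρs⟩ := ih fun x hx => hs x (Finset.mem_insert_of_mem hx)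
    obtain ⟨m, hnm, hm⟩ := hzero n (ρ a) (by
      rw [← AlgHom.comp_apply, hρ]; exact hs a (Finset.mem_insert_self a s))
    refine ⟨m, (g n m hnm).comp ρ, hin.trans hnm, AlgHom.ext fun z => ?_, fun x hx => ?_⟩
    · rw [AlgHom.comp_apply, AlgHom.comp_apply, hc, ← AlgHom.comp_apply, hρ]
    · rcases Finset.mem_insert.mp hx with rfl | hx
      · exact hm
      · rw [AlgHom.comp_apply, hρs x hx, map_zero]

include hc hsurj hzero in
/-- maps from finitely presented algebras factor through a stage -/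
theorem exists_factor {P : Type u} [CommRing P] [Algebra R P] [Algebra.FinitePresentation R P]
    (φ : P →ₐ[R] A) : ∃ (n : J) (ψ : P →ₐ[R] B n), (c n).comp ψ = φ := by
  classical
  obtain ⟨N, π, hπ, hker⟩ := (inferInstance : Algebra.FinitePresentation R P).out
  obtain ⟨s, hs⟩ := hker
  obtain ⟨i, x, -, hx⟩ := exists_lift hc hsurj (Classical.arbitrary J) fun k : Fin N => φ (π (MvPolynomial.X k))
  have hev : (c i).comp (MvPolynomial.aeval x) = φ.comp π :=
    MvPolynomial.algHom_ext fun k => by simp [hx]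
  obtain ⟨n, ρ, -, hρ, hρs⟩ := exists_kill hc hzero (s.image (MvPolynomial.aeval x)) fun y hy => by
    obtain ⟨p, hp, rfl⟩ := Finset.mem_image.mp hy
    have hp0 : π p = 0 := show p ∈ RingHom.ker π.toRingHom from hs ▸ Ideal.subset_span hp
    rw [← AlgHom.comp_apply, hev, AlgHom.comp_apply, hp0, map_zero]
  let τ : MvPolynomial (Fin N) R →ₐ[R] B n := ρ.comp (MvPolynomial.aeval x)
  have hle : RingHom.ker π.toRingHom ≤ RingHom.ker τ.toRingHom := by
    rw [← hs]
    exact Ideal.span_le.mpr fun p hp => hρs _ (Finset.mem_image_of_mem _ hp)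
  let e := Ideal.quotientKerAlgEquivOfSurjective hπ
  let ψ : P →ₐ[R] B n := (Ideal.Quotient.liftₐ _ τ fun p hp => hle hp).comp e.symm.toAlgHom
  refine ⟨n, ψ, AlgHom.ext fun y => ?_⟩
  obtain ⟨p, rfl⟩ := hπ y
  have : e.symm (π p) = Ideal.Quotient.mk _ p := e.injective (by
    rw [AlgEquiv.apply_symm_apply]; rfl)
  have hψ : ψ (π p) = τ p :=
    (congrArg (Ideal.Quotient.liftₐ _ τ fun p hp => hle hp) this).trans (Ideal.Quotient.lift_mk _ _ _)
  rw [AlgHom.comp_apply, hψ]
  exact (DFunLike.congr_fun hρ _).trans (DFunLike.congr_fun hev p)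

include hc hsurj hzero in
theorem exists_map_eq_top {i : J} (I : Ideal (B i)) (h : I.map (c i) = ⊤) :
    ∃ (n : J) (ρ : B i →ₐ[R] B n), (c n).comp ρ = c i ∧ I.map ρ = ⊤ := by
  classical
  obtain ⟨W, hW, h1⟩ := Submodule.mem_span_finite_of_mem_span
    (show (1 : A) ∈ I.map (c i) by rw [h]; exact Submodule.mem_top)
  obtain ⟨r, -, hr⟩ := Submodule.mem_span_finset.mp h1
  choose y hy hyw using fun w : W => hW w.2
  obtain ⟨j, x, hij, hx⟩ := exists_lift hc hsurj i fun w : W => r w
  obtain ⟨n, ρ, hjn, hρ, hρs⟩ := exists_kill hc hzero {∑ w : W, x w * g i j hij (y w) - 1} fun z hz => by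
    rw [Finset.mem_singleton.mp hz, map_sub, map_sum, map_one, sub_eq_zero, ← hr, ← Finset.sum_coe_sort W]
    exact Finset.sum_congr rfl fun w _ => by rw [map_mul, hx, hc, hyw, smul_eq_mul]
  refine ⟨n, ρ.comp (g i j hij), AlgHom.ext fun z => by
    rw [AlgHom.comp_apply, AlgHom.comp_apply, ← AlgHom.comp_apply (c n), hρ, hc], ?_⟩
  rw [Ideal.eq_top_iff_one]
  have := hρs _ (Finset.mem_singleton_self _)
  rw [map_sub, map_one, sub_eq_zero, map_sum] at this
  rw [← this]
  exact sum_mem fun w _ => by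
    rw [map_mul]
    exact Ideal.mul_mem_left _ _ (Ideal.mem_map_of_mem (ρ.comp (g i j hij)) (hy w))

end general

variable {R A : Type u} [CommRing R] [CommRing A] [Algebra R A] {J : Type v} [Preorder J]
  [IsDirectedOrder J] [Nonempty J] {B : J → Type u} [∀ j, CommRing (B j)] [∀ j, Algebra R (B j)]
  {g : ∀ i j, i ≤ j → B i →ₐ[R] B j} {c : ∀ j, B j →ₐ[R] A}
  (hc : ∀ i j (h : i ≤ j) (x : B i), c j (g i j h x) = c i x)
  (hsurj : ∀ a : A, ∃ j x, c j x = a)
  (hzero : ∀ i (x : B i), c i x = 0 → ∃ j, ∃ h : i ≤ j, g i j h x = 0)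

include hc hsurj hzero in
/-- a colimit of colimits of etale algebras -/
theorem isEtColim (hB : ∀ j, EtColim.IsEtColim R (B j)) : EtColim.IsEtColim R A := by
  classical
  refine ⟨fun {n} x => ?_, fun {A'} _ _ _ φ {n} s hs => ?_⟩
  · obtain ⟨j, y, -, hy⟩ := exists_lift hc hsurj (Classical.arbitrary J) x
    obtain ⟨A', _, _, _, φ, hr⟩ := (hB j).rep' y
    refine ⟨A', inferInstance, inferInstance, inferInstance, (c j).comp φ, fun k => ?_⟩
    obtain ⟨r, hr⟩ := hr k
    exact ⟨r, by rw [AlgHom.comp_apply, hr, hy]⟩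
  · obtain ⟨i, φi, hφi⟩ := exists_factor hc hsurj hzero φ
    obtain ⟨m, ρ, -, hρ, hρs⟩ := exists_kill hc hzero (Finset.univ.image fun k => φi (s k)) fun y hy => by
      obtain ⟨k, -, rfl⟩ := Finset.mem_image.mp hy
      rw [← AlgHom.comp_apply, hφi, hs]
    obtain ⟨A'', _, _, _, χ, ψ, hψ, hz⟩ := (hB m).kill' (ρ.comp φi) s fun k =>
      hρs _ (Finset.mem_image_of_mem _ (Finset.mem_univ k))
    exact ⟨A'', inferInstance, inferInstance, inferInstance, (c m).comp χ, ψ,
      by rw [AlgHom.comp_assoc, hψ, ← AlgHom.comp_assoc, hρ, hφi], hz⟩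

include hc hsurj hzero in
theorem faithfullyFlat [Module.Flat R A] (hB : ∀ j, Module.FaithfullyFlat R (B j)) :
    Module.FaithfullyFlat R A := by
  refine ⟨fun m hm h => ?_⟩
  obtain ⟨i⟩ := ‹Nonempty J›
  rw [Ideal.smul_top_eq_map, Submodule.restrictScalars_eq_top_iff] at h
  obtain ⟨n, ρ, -, hρ⟩ := exists_map_eq_top hc hsurj hzero (i := i) (m.map (algebraMap R (B i))) (by
    rw [← Ideal.map_coe (c i), Ideal.map_map]
    rw [show (RingHomClass.toRingHom (c i)).comp (algebraMap R (B i)) = algebraMap R A from (c i).comp_algebraMap]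
    exact h)
  rw [← Ideal.map_coe ρ, Ideal.map_map,
    show (RingHomClass.toRingHom ρ).comp (algebraMap R (B i)) = algebraMap R (B n) from ρ.comp_algebraMap] at hρ
  refine (hB n).submodule_ne_top hm ?_
  rw [Ideal.smul_top_eq_map, hρ, Submodule.restrictScalars_top]

theorem isEtColim_self {R E : Type u} [CommRing R] [CommRing E] [Algebra R E] [Algebra.Etale R E] :
    EtColim.IsEtColim R E := by
  refine ⟨fun x => ⟨E, inferInstance, inferInstance, inferInstance, AlgHom.id R E, fun k => ⟨x k, rfl⟩⟩,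
    fun {A'} _ _ _ φ {n} s hs => ⟨E, inferInstance, inferInstance, inferInstance, AlgHom.id R E, φ,
      AlgHom.id_comp φ, hs⟩⟩

end Groth.Agent.HensPoint.DirColim
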