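import Groth.Agent.HensPoint.DirColim
import Mathlib.RingTheory.Localization.Away.Basic
import Mathlib.RingTheory.Etale.Basic

/-!
Localizations are colimits of etale algebras.
-/

set_option autoImplicit false

noncomputable section

namespace Groth.Agent.HensPoint.EtColimLoc

universe u

theorem isEtColim_localization {T : Type u} [CommRing T] (M : Submonoid T) :
    EtColim.IsEtColim T (Localization M) := by
  classical
  let d : Finset M → T := fun s => ∏ m ∈ s, (m : T)
  have hdM : ∀ s, d s ∈ M := fun s => Submonoid.prod_mem _ fun m _ => m.2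
  have hu : ∀ s t : Finset M, s ≤ t → IsUnit (algebraMap T (Localization.Away (d t)) (d s)) :=
    fun s t h => isUnit_of_dvd_unit (map_dvd _ (Finset.prod_dvd_prod_of_subset _ _ _ h))
      (IsLocalization.Away.algebraMap_isUnit (d t))
  let g : ∀ s t : Finset M, s ≤ t → Localization.Away (d s) →ₐ[T] Localization.Away (d t) :=
    fun s t h => IsLocalization.liftAlgHom (M := Submonoid.powers (d s))
      (f := Algebra.ofId T (Localization.Away (d t))) (by
        rintro ⟨_, n, rfl⟩
        rw [map_pow]
        exact (hu s t h).pow n)
  let c : ∀ s : Finset M, Localization.Away (d s) →ₐ[T] Localization M := fun s =>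
    IsLocalization.liftAlgHom (M := Submonoid.powers (d s)) (f := Algebra.ofId T (Localization M)) (by
      rintro ⟨_, n, rfl⟩
      rw [map_pow]
      exact (IsLocalization.map_units (Localization M) (⟨_, hdM s⟩ : M)).pow n)
  refine DirColim.isEtColim (J := Finset M) (g := g) (c := c) (fun i j h x => ?_) (fun a => ?_)
    (fun i x hx => ?_) fun s => ?_
  · have : (c j).comp (g i j h) = c i :=
      IsLocalization.algHom_ext (Submonoid.powers (d i)) (Subsingleton.elim _ _)
    exact DFunLike.congr_fun this x
  · obtain ⟨⟨b, m⟩, hb⟩ := IsLocalization.surj M a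
    obtain ⟨v, hv⟩ := (IsLocalization.Away.algebraMap_isUnit (S := Localization.Away (d {m})) (d {m})).exists_right_inv
    refine ⟨{m}, algebraMap T _ b * v, ?_⟩
    have h1 := congrArg (c {m}) hv
    rw [map_mul, AlgHom.commutes, map_one] at h1
    have hd : d {m} = (m : T) := Finset.prod_singleton _ _
    rw [show algebraMap T (Localization M) (d {m}) = algebraMap T (Localization M) (m : T) from
      congrArg _ hd] at h1
    rw [map_mul, AlgHom.commutes, ← hb, mul_assoc, h1, mul_one]
  · obtain ⟨⟨b, ⟨_, n, rfl⟩⟩, hb⟩ := IsLocalization.surj (Submonoid.powers (d i)) x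
    have h1 := congrArg (c i) hb
    rw [map_mul, hx, zero_mul, AlgHom.commutes] at h1
    obtain ⟨m, hm⟩ := (IsLocalization.map_eq_zero_iff M (Localization M) b).mp h1.symm
    refine ⟨insert m i, Finset.subset_insert _ _, ?_⟩
    have hmu : IsUnit (algebraMap T (Localization.Away (d (insert m i))) (m : T)) :=
      isUnit_of_dvd_unit (map_dvd _ (Finset.dvd_prod_of_mem (fun m : M => (m : T)) (Finset.mem_insert_self m i)))
        (IsLocalization.Away.algebraMap_isUnit (d (insert m i)))
    have hb0 : algebraMap T (Localization.Away (d (insert m i))) b = 0 :=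
      hmu.mul_right_eq_zero.mp (by rw [← map_mul, hm, map_zero])
    have h2 := congrArg (g i (insert m i) (Finset.subset_insert _ _)) hb
    rw [map_mul, AlgHom.commutes, AlgHom.commutes, hb0] at h2
    have hu' : IsUnit (algebraMap T (Localization.Away (d (insert m i))) (d i ^ n)) := by
      rw [map_pow]; exact (hu i _ (Finset.subset_insert _ _)).pow n
    exact hu'.mul_left_eq_zero.mp h2
  · have : Algebra.Etale T (Localization.Away (d s)) := Algebra.Etale.of_isLocalizationAway (d s)
    exact DirColim.isEtColim_self

end Groth.Agent.HensPoint.EtColimLoc
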