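import Groth.Agent.HensPoint.EtColim
import Groth.Agent.HensPair.Basic

/-!
Colimits of etale algebras lift uniquely along henselian pairs.
-/

set_option autoImplicit false

open scoped TensorProduct

namespace Groth.Agent.HensPoint.Lifting

universe u

variable {A B C : Type u} [CommRing A] [CommRing B] [Algebra A B] [CommRing C] [Algebra A C]
  {J : Ideal C}

theorem existsUnique_algHom [HenselianRing C J] (hB : EtColim.IsEtColim A B) (σ : B →ₐ[A] C ⧸ J) :
    ∃! τ : B →ₐ[A] C, (Ideal.Quotient.mkₐ A J).comp τ = σ := by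
  classical
  have lift : ∀ (A' : Type u) [CommRing A'] [Algebra A A'] [Algebra.Etale A A'] (φ : A' →ₐ[A] B),
      ∃! τ : A' →ₐ[A] C, (Ideal.Quotient.mkₐ A J).comp τ = σ.comp φ := fun A' _ _ _ φ =>
    HensPair.Basic.existsUnique_lift A' (σ.comp φ)
  have compat : ∀ {A₁ A₂ : Type u} [CommRing A₁] [Algebra A A₁] [Algebra.Etale A A₁]
      [CommRing A₂] [Algebra A A₂] [Algebra.Etale A A₂] (φ₁ : A₁ →ₐ[A] B) (φ₂ : A₂ →ₐ[A] B)
      (r₁ : A₁) (r₂ : A₂), φ₁ r₁ = φ₂ r₂ →
      (lift A₁ φ₁).choose r₁ = (lift A₂ φ₂).choose r₂ := by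
    intro A₁ A₂ _ _ _ _ _ _ φ₁ φ₂ r₁ r₂ h
    have : Algebra.Etale A (A₁ ⊗[A] A₂) := Algebra.Etale.comp A A₁ _
    obtain ⟨A₃, _, _, _, χ, ψ, hχ, hψ⟩ := hB.kill
      (Algebra.TensorProduct.lift φ₁ φ₂ fun _ _ => Commute.all _ _)
      (fun _ : Unit => r₁ ⊗ₜ[A] (1 : A₂) - (1 : A₁) ⊗ₜ[A] r₂) (fun _ => by simp [h])
    have h₁ : (lift A₃ χ).choose.comp (ψ.comp Algebra.TensorProduct.includeLeft) =
        (lift A₁ φ₁).choose := by
      refine (lift A₁ φ₁).choose_spec.2 _ ?_
      show (Ideal.Quotient.mkₐ A J).comp _ = _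
      rw [← AlgHom.comp_assoc, (lift A₃ χ).choose_spec.1, AlgHom.comp_assoc,
        ← AlgHom.comp_assoc χ, hχ, Algebra.TensorProduct.lift_comp_includeLeft]
    have h₂ : (lift A₃ χ).choose.comp (ψ.comp Algebra.TensorProduct.includeRight) =
        (lift A₂ φ₂).choose := by
      refine (lift A₂ φ₂).choose_spec.2 _ ?_
      show (Ideal.Quotient.mkₐ A J).comp _ = _
      rw [← AlgHom.comp_assoc, (lift A₃ χ).choose_spec.1, AlgHom.comp_assoc,
        ← AlgHom.comp_assoc χ, hχ, Algebra.TensorProduct.lift_comp_includeRight']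
    rw [← h₁, ← h₂]
    have h3 := hψ ()
    rw [map_sub, sub_eq_zero] at h3
    exact congrArg (lift A₃ χ).choose h3
  choose Ax iC iA iE φx hφx using fun x : B => hB.rep fun _ : Unit => x
  choose rx hrx using fun x => hφx x ()
  let g : B → C := fun x => (lift (Ax x) (φx x)).choose (rx x)
  have hg : ∀ {A' : Type u} [CommRing A'] [Algebra A A'] [Algebra.Etale A A'] (φ : A' →ₐ[A] B)
      (r : A'), g (φ r) = (lift A' φ).choose r := fun φ r =>
    compat (φx (φ r)) φ _ r (hrx (φ r))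
  let τ : B →ₐ[A] C :=
    { toFun := g
      map_one' := by
        obtain ⟨A', _, _, _, φ, -⟩ := hB.rep fun e : Empty => e.elim
        rw [← map_one φ, hg, map_one]
      map_mul' := fun x y => by
        obtain ⟨A', _, _, _, φ, hr⟩ := hB.rep fun b : Bool => if b then x else y
        obtain ⟨r, hr1⟩ := hr true
        obtain ⟨s, hs1⟩ := hr false
        simp only [if_true] at hr1
        simp only [Bool.false_eq_true, if_false] at hs1
        rw [← hr1, ← hs1, ← map_mul, hg, hg, hg, map_mul]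
      map_zero' := by
        obtain ⟨A', _, _, _, φ, -⟩ := hB.rep fun e : Empty => e.elim
        rw [← map_zero φ, hg, map_zero]
      map_add' := fun x y => by
        obtain ⟨A', _, _, _, φ, hr⟩ := hB.rep fun b : Bool => if b then x else y
        obtain ⟨r, hr1⟩ := hr true
        obtain ⟨s, hs1⟩ := hr false
        simp only [if_true] at hr1
        simp only [Bool.false_eq_true, if_false] at hs1
        rw [← hr1, ← hs1, ← map_add, hg, hg, hg, map_add]
      commutes' := fun a => by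
        obtain ⟨A', _, _, _, φ, -⟩ := hB.rep fun e : Empty => e.elim
        rw [← φ.commutes a, hg, AlgHom.commutes] }
  refine ⟨τ, AlgHom.ext fun x => ?_, fun τ' hτ' => AlgHom.ext fun x => ?_⟩
  · show Ideal.Quotient.mkₐ A J (g x) = σ x
    conv_rhs => rw [← hrx x]
    exact DFunLike.congr_fun (lift (Ax x) (φx x)).choose_spec.1 (rx x)
  · obtain ⟨A', _, _, _, φ, hr⟩ := hB.rep fun _ : Unit => x
    obtain ⟨r, rfl⟩ := hr ()
    show τ' (φ r) = g (φ r)
    rw [hg, ← (lift A' φ).choose_spec.2 (τ'.comp φ) (show (Ideal.Quotient.mkₐ A J).comp _ = _ by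
      rw [← AlgHom.comp_assoc, hτ'])]
    rfl

theorem algHom_ext [HenselianRing C J] (hB : EtColim.IsEtColim A B) {τ₁ τ₂ : B →ₐ[A] C}
    (h : ∀ x, τ₁ x - τ₂ x ∈ J) : τ₁ = τ₂ :=
  (existsUnique_algHom hB ((Ideal.Quotient.mkₐ A J).comp τ₁)).unique rfl
    (AlgHom.ext fun x => (Ideal.Quotient.eq.mpr (h x)).symm)

end Groth.Agent.HensPoint.Lifting
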