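import Groth.Agent.HensPair.BranchUnibranch
import Groth.Agent.HensPair.Local
import Groth.Agent.HensPoint.Lifting
import Groth.Agent.HensPoint.EtColimLoc
import Groth.Agent.HensPoint.Strict
import Groth.Agent.HensPoint.DirColim
import Mathlib.RingTheory.Unramified.LocalStructure
import Mathlib.RingTheory.Unramified.LocalRing
import Mathlib.FieldTheory.IsSepClosed

/-!
Etale and unramified algebras over geometrically unibranch local domains.
-/

set_option autoImplicit false

noncomputable section

open IsLocalRing

namespace Groth.Agent.HensPoint.GeomUniEtale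

universe u

variable {R S T : Type u} [CommRing R] [IsLocalRing R] [CommRing S] [IsLocalRing S] [CommRing T]
  [IsLocalRing T] [Algebra R S] [IsLocalHom (algebraMap R S)] [Algebra R T] [IsLocalHom (algebraMap R T)]

/-- the strict henselization is also one of each local intermediate colimit of etale algebras -/
theorem isStrictHenselization_over [hS : Hensel.IsStrictHenselization R S] (hT : EtColim.IsEtColim R T)
    [Algebra T S] [IsScalarTower R T S] [IsLocalHom (algebraMap T S)] :
    Hensel.IsStrictHenselization T S := by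
  have := hS.isSepClosure
  have h1 : IsSepClosed (ResidueField S) := this.1
  have h2 : Algebra.IsSeparable (ResidueField R) (ResidueField S) := this.2
  have : IsScalarTower (ResidueField R) (ResidueField T) (ResidueField S) :=
    IsScalarTower.of_algebraMap_eq fun x => by
      obtain ⟨r, rfl⟩ := residue_surjective x
      show ResidueField.map (algebraMap R S) (residue R r) =
        ResidueField.map (algebraMap T S) (ResidueField.map (algebraMap R T) (residue R r))
      rw [ResidueField.map_residue, ResidueField.map_residue, ResidueField.map_residue,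
        ← IsScalarTower.algebraMap_apply]
  have h3 : Algebra.IsSeparable (ResidueField T) (ResidueField S) :=
    Algebra.isSeparable_tower_top_of_isSeparable (ResidueField R) _ _
  refine ⟨hS.henselian, ⟨h1, h3⟩, fun U _ _ f _ τ hτ => ?_⟩
  let f0 : R →+* U := f.comp (algebraMap R T)
  have : IsLocalHom f0 := RingHom.isLocalHom_comp _ _
  have hτ0 : τ.comp (ResidueField.map (algebraMap R S)) = ResidueField.map f0 := by
    refine RingHom.ext fun x => ?_
    obtain ⟨r, rfl⟩ := residue_surjective x
    have := RingHom.congr_fun hτ (residue T (algebraMap R T r))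
    simp only [RingHom.comp_apply, ResidueField.map_residue] at this ⊢
    rw [IsScalarTower.algebraMap_apply R T S, this]
    rfl
  obtain ⟨g, ⟨hg, hgτ⟩, huniq⟩ := hS.universal U f0 τ hτ0
  have hgf : g.comp (algebraMap T S) = f := by
    let : Algebra R U := f0.toAlgebra
    let g1 : T →ₐ[R] U := ⟨g.comp (algebraMap T S), fun r => by
      show g (algebraMap T S (algebraMap R T r)) = f0 r
      rw [← IsScalarTower.algebraMap_apply, ← hg]
      rfl⟩
    let g2 : T →ₐ[R] U := ⟨f, fun r => rfl⟩
    have : g1 = g2 := Lifting.algHom_ext (J := maximalIdeal U) hT fun t => by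
      refine Ideal.Quotient.eq.mp (?_ : residue U (g1 t) = residue U (g2 t))
      show residue U (g (algebraMap T S t)) = residue U (f t)
      rw [hgτ, ← ResidueField.map_residue (algebraMap T S), ← ResidueField.map_residue f]
      exact RingHom.congr_fun hτ _
    exact RingHom.ext fun t => DFunLike.congr_fun this t
  refine ⟨g, ⟨hgf, hgτ⟩, fun g' ⟨h, h'⟩ => huniq g' ⟨?_, h'⟩⟩
  show g'.comp (algebraMap R S) = f.comp (algebraMap R T)
  rw [IsScalarTower.algebraMap_eq R T S, ← RingHom.comp_assoc, h]

omit [IsLocalHom (algebraMap R S)] [Algebra R S] [Algebra R T] [IsLocalHom (algebraMap R T)] [CommRing T] [IsLocalRing T] [CommRing S] [IsLocalRing S] in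
theorem isDomain_strictHens [IsReduced R] (hR : CAlg2.IsGeomUnibranch R) : IsDomain (Strict.Sh R) := by
  have := Strict.isStrictHenselization (R := R)
  have hS : EtColim.IsEtColim R (Strict.Sh R) := StrictProps.strict
  refine (HensPair.BranchUnibranch.isDomain_iff _).mpr ⟨hS.isReduced,
    (HensPair.BranchUnibranch.card_eq_one_iff _).mp ?_⟩
  rw [HensPair.Branches.card_minimalPrimes_strict R (Strict.Sh R)]
  exact (HensPair.BranchUnibranch.numGeomBranches_eq_one_iff R).mpr hR

omit [Algebra R S] [IsLocalHom (algebraMap R S)] [CommRing S] [IsLocalRing S] in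
/-- local colimits of etale algebras with separable residue field over a geometrically unibranch
ring are geometrically unibranch -/
theorem geomUnibranch_of_isEtColim (hR : CAlg2.IsGeomUnibranch R) (hT : EtColim.IsEtColim R T)
    [Algebra.IsSeparable (ResidueField R) (ResidueField T)] :
    CAlg2.IsGeomUnibranch T ∧ ∃ τ : T →ₐ[R] Strict.Sh R, IsLocalHom τ.toRingHom := by
  let Sh := Strict.Sh R
  have hSh := Strict.isStrictHenselization (R := R)
  have := hSh.henselian
  have := hSh.isSepClosure
  have : IsSepClosed (ResidueField Sh) := this.1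
  let ι : ResidueField T →ₐ[ResidueField R] ResidueField Sh := IsSepClosed.lift
  let σ : T →ₐ[R] Sh ⧸ maximalIdeal Sh :=
    { toRingHom := ι.toRingHom.comp (residue T)
      commutes' := fun r => by
        show ι (residue T (algebraMap R T r)) = residue Sh (algebraMap R Sh r)
        rw [← ResidueField.map_residue (algebraMap R T), ← ResidueField.map_residue (algebraMap R Sh)]
        exact ι.commutes (residue R r) }
  obtain ⟨τ, hτ, -⟩ := Lifting.existsUnique_algHom (J := maximalIdeal Sh) hT σ
  let : Algebra T Sh := τ.toRingHom.toAlgebra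
  have : IsScalarTower R T Sh := IsScalarTower.of_algebraMap_eq fun r => (τ.commutes r).symm
  have hloc : IsLocalHom (algebraMap T Sh) := ⟨fun t ht => by
    by_contra h
    have h0 : σ t = 0 := by
      show ι (residue T t) = 0
      rw [(residue_eq_zero_iff t).mpr ((mem_maximalIdeal t).mpr h), map_zero]
    rw [← hτ] at h0
    exact ((mem_maximalIdeal _).mp (Ideal.Quotient.eq_zero_iff_mem.mp h0)) ht⟩
  refine ⟨(HensPair.BranchUnibranch.numGeomBranches_eq_one_iff T).mp ?_, τ, hloc⟩
  have := isStrictHenselization_over (R := R) (S := Sh) hT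
  rw [← HensPair.Branches.card_minimalPrimes_strict T Sh, HensPair.Branches.card_minimalPrimes_strict R Sh]
  exact (HensPair.BranchUnibranch.numGeomBranches_eq_one_iff R).mpr hR

omit [Algebra R S] [IsLocalHom (algebraMap R S)] [CommRing S] [IsLocalRing S] in
theorem domain_geomUnibranch [IsReduced R] (hR : CAlg2.IsGeomUnibranch R) (hT : EtColim.IsEtColim R T)
    [Algebra.IsSeparable (ResidueField R) (ResidueField T)] :
    IsDomain T ∧ CAlg2.IsGeomUnibranch T := by
  obtain ⟨hg, τ, hloc⟩ := geomUnibranch_of_isEtColim hR hT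
  have := hT.isReduced
  refine ⟨(HensPair.BranchUnibranch.isDomain_iff T).mpr ⟨inferInstance, ?_⟩, hg⟩
  have := hg.1.1
  have hN : (nilradical T).IsPrime := (Ideal.Quotient.isDomain_iff_prime _).mp this
  exact ⟨nilradical T, ⟨⟨hN, bot_le⟩, fun J ⟨hJ, _⟩ _ => nilradical_le_prime J⟩,
    fun J hJ => le_antisymm (hJ.2 ⟨hN, bot_le⟩ (haveI := hJ.1.1; nilradical_le_prime J)) (haveI := hJ.1.1; nilradical_le_prime J)⟩

/-- ideals with zero contraction vanish in domains which are colimits of etale algebras -/
theorem eq_bot_of_comap {A B : Type u} [CommRing A] [IsDomain A] [CommRing B] [IsDomain B] [Algebra A B]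
    (hB : EtColim.IsEtColim A B) (hinj : Function.Injective (algebraMap A B)) (J : Ideal B)
    (hJ : J.comap (algebraMap A B) = ⊥) : J = ⊥ := by
  obtain ⟨P, hP, hJP, hd⟩ := Ideal.exists_le_prime_disjoint J ((nonZeroDivisors A).map (algebraMap A B))
    (Set.disjoint_left.mpr fun x hx hx' => by
      obtain ⟨a, ha, rfl⟩ := hx'
      exact nonZeroDivisors.ne_zero ha (by rw [← Ideal.mem_bot, ← hJ]; exact hx))
  have h : (⊥ : Ideal B).comap (algebraMap A B) = P.comap (algebraMap A B) := by
    refine le_antisymm (Ideal.comap_mono bot_le) fun a ha => ?_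
    by_contra hc
    exact Set.disjoint_left.mp hd ha ⟨a, mem_nonZeroDivisors_of_ne_zero fun h0 => hc (by simp [h0]), rfl⟩
  have : (⊥ : Ideal B).IsPrime := Ideal.isPrime_bot
  have := hB.eq_of_le_of_under_eq (bot_le : (⊥ : Ideal B) ≤ P) h
  exact le_bot_iff.mp (hJP.trans this.ge)

section stalk

variable {A E : Type u} [CommRing A] [CommRing E] [Algebra A E] [Algebra.Etale A E]
  (p : Ideal A) [p.IsPrime] (Q : Ideal E) [Q.IsPrime] [Q.LiesOver p]
  [Algebra (Localization.AtPrime p) (Localization.AtPrime Q)]
  [IsScalarTower A (Localization.AtPrime p) (Localization.AtPrime Q)]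

theorem stalk_facts :
    EtColim.IsEtColim (Localization.AtPrime p) (Localization.AtPrime Q) ∧
    ∃ _ : IsLocalHom (algebraMap (Localization.AtPrime p) (Localization.AtPrime Q)),
      Algebra.IsSeparable (ResidueField (Localization.AtPrime p)) (ResidueField (Localization.AtPrime Q)) := by
  let R := Localization.AtPrime p
  let S := Localization.AtPrime Q
  have hloc : IsLocalHom (algebraMap R S) := ⟨fun a ha => by
    obtain ⟨b, s, rfl⟩ := IsLocalization.exists_mk'_eq p.primeCompl a
    rw [IsLocalization.AtPrime.isUnit_mk'_iff R p]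
    intro hb
    have h1 : IsUnit (algebraMap A S b) := by
      rw [IsScalarTower.algebraMap_apply A R S, ← IsLocalization.mk'_spec R b s, map_mul]
      exact ha.mul ((IsLocalization.map_units R s).map _)
    rw [IsScalarTower.algebraMap_apply A E S, IsLocalization.AtPrime.isUnit_to_map_iff S Q] at h1
    exact h1 ((Ideal.mem_of_liesOver Q p b).mp hb)⟩
  have hAS : EtColim.IsEtColim A S :=
    Trans.trans (DirColim.isEtColim_self (R := A) (E := E)) (EtColimLoc.isEtColim_localization Q.primeCompl)
  refine ⟨Trans.cancel (EtColimLoc.isEtColim_localization p.primeCompl) hAS, hloc, ?_⟩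
  have : Algebra.FormallyUnramified A S := Algebra.FormallyUnramified.comp A E S
  have : Algebra.FormallyUnramified R S := Algebra.FormallyUnramified.of_restrictScalars A R S
  have : Algebra.EssFiniteType A S := Algebra.EssFiniteType.comp A E S
  have : Algebra.EssFiniteType R S := Algebra.EssFiniteType.of_comp A R S
  exact inferInstance

theorem stalk_domain [IsReduced (Localization.AtPrime p)] (hA : CAlg2.IsGeomUnibranch (Localization.AtPrime p)) :
    IsDomain (Localization.AtPrime Q) ∧ CAlg2.IsGeomUnibranch (Localization.AtPrime Q) := by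
  obtain ⟨h, hloc, hsep⟩ := stalk_facts p Q
  exact domain_geomUnibranch hA h

end stalk

section unramified

variable {A B : Type u} [CommRing A] [CommRing B] [Algebra A B] [Algebra.FiniteType A B]
  (q : Ideal B) [q.IsPrime] (p : Ideal A) [p.IsPrime] [q.LiesOver p] [Algebra.IsUnramifiedAt A q]
  [IsDomain (Localization.AtPrime p)]

/-- unramified + injective over geometrically unibranch domain: same local ring as an etale algebra -/
theorem exists_etale_bijective (hA : CAlg2.IsGeomUnibranch (Localization.AtPrime p))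
    (hinj : Function.Injective (Localization.localRingHom p q (algebraMap A B) (q.over_def p))) :
    ∃ (g : B) (_ : g ∉ q) (E : Type u) (_ : CommRing E) (_ : Algebra A E) (_ : Algebra.Etale A E)
      (π : E →ₐ[A] Localization.Away g) (_ : Function.Surjective π) (Q : Ideal E) (hQ : Q.IsPrime)
      (e : Localization.AtPrime Q ≃ₐ[A] Localization.AtPrime q),
      (∀ (x : E), π x = 0 → algebraMap E (Localization.AtPrime Q) x = 0) ∧ IsDomain (Localization.AtPrime Q) ∧
      (∀ x, ¬ x ∈ Q → ∀ (b : B) (n : ℕ), π x * algebraMap B _ g ^ n = algebraMap B _ b → b ∉ q) := by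
  obtain ⟨g, hgq, P, π, hπ⟩ := Algebra.IsUnramifiedAt.exists_hasStandardEtaleSurjectionOn (R := A) q
  let Bg := Localization.Away g
  let E := P.Ring
  have hgu : IsUnit (algebraMap B (Localization.AtPrime q) g) :=
    IsLocalization.map_units (Localization.AtPrime q) (⟨g, hgq⟩ : q.primeCompl)
  let ρ : Bg →ₐ[A] Localization.AtPrime q :=
    IsLocalization.Away.liftAlgHom g (f := IsScalarTower.toAlgHom A B (Localization.AtPrime q)) hgu
  have hρB : ∀ b : B, ρ (algebraMap B Bg b) = algebraMap B (Localization.AtPrime q) b := fun b => by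
    simp [ρ]
  let φ : E →ₐ[A] Localization.AtPrime q := ρ.comp π
  let Q : Ideal E := (maximalIdeal (Localization.AtPrime q)).comap φ.toRingHom
  have hQ : Q.IsPrime := Ideal.IsPrime.comap _
  have hu : ∀ y : Q.primeCompl, IsUnit (φ y) := fun y => notMem_maximalIdeal.mp y.2
  let χ : Localization.AtPrime Q →ₐ[A] Localization.AtPrime q :=
    IsLocalization.liftAlgHom (M := Q.primeCompl) (f := φ) hu
  have hχ : ∀ x : E, χ (algebraMap E _ x) = φ x := fun x => IsLocalization.lift_eq hu x
  have hsurj : Function.Surjective χ := by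
    intro z
    obtain ⟨b, s, rfl⟩ := IsLocalization.exists_mk'_eq q.primeCompl z
    obtain ⟨x, hx⟩ := hπ (algebraMap B Bg b)
    obtain ⟨y, hy⟩ := hπ (algebraMap B Bg s)
    have hyQ : y ∈ Q.primeCompl := by
      refine notMem_maximalIdeal.mpr ?_
      show IsUnit (ρ (π y))
      rw [hy, hρB]
      exact IsLocalization.map_units _ s
    refine ⟨IsLocalization.mk' _ x (⟨y, hyQ⟩ : Q.primeCompl), ?_⟩
    rw [eq_comm, IsLocalization.mk'_eq_iff_eq_mul, ← hρB s, ← hy, ← hρB b, ← hx]
    show φ x = _ * φ y
    rw [← hχ x, ← hχ y, ← map_mul, IsLocalization.mk'_spec]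
  have : Q.LiesOver p := ⟨by
    show p = Q.comap (algebraMap A E)
    rw [Ideal.comap_comap, AlgHom.toRingHom_eq_coe, AlgHom.comp_algebraMap,
      IsScalarTower.algebraMap_eq A B (Localization.AtPrime q), ← Ideal.comap_comap]
    exact (q.over_def p).trans (congrArg _ (IsLocalization.AtPrime.comap_maximalIdeal (Localization.AtPrime q) q).symm)⟩
  let : Algebra (Localization.AtPrime p) (Localization.AtPrime Q) := Localization.AtPrime.algebraOfLiesOver p Q
  obtain ⟨hEt, hloc, hsep⟩ := stalk_facts p Q
  obtain ⟨hd, -⟩ := domain_geomUnibranch hA hEt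
  have hcomp : χ.toRingHom.comp (algebraMap (Localization.AtPrime p) (Localization.AtPrime Q)) =
      Localization.localRingHom p q (algebraMap A B) (q.over_def p) := by
    refine IsLocalization.ringHom_ext p.primeCompl (RingHom.ext fun a => ?_)
    simp only [RingHom.comp_apply, AlgHom.toRingHom_eq_coe, RingHom.coe_coe]
    rw [← IsScalarTower.algebraMap_apply A (Localization.AtPrime p) (Localization.AtPrime Q),
      Localization.localRingHom_to_map, χ.commutes, ← IsScalarTower.algebraMap_apply]
  have hker : RingHom.ker χ.toRingHom = ⊥ := by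
    refine eq_bot_of_comap hEt ?_ _ ?_
    · intro x y h
      exact hinj (by rw [← hcomp, RingHom.comp_apply, RingHom.comp_apply, h])
    · rw [RingHom.comap_ker, hcomp]
      exact (RingHom.injective_iff_ker_eq_bot _).mp hinj
  refine ⟨g, hgq, E, inferInstance, inferInstance, inferInstance, π, hπ, Q, hQ,
    AlgEquiv.ofBijective χ ⟨(RingHom.injective_iff_ker_eq_bot χ.toRingHom).mpr hker, hsurj⟩, fun x hx => ?_, hd,
    fun x hx b n hb hbq => hx ?_⟩
  · refine (RingHom.injective_iff_ker_eq_bot χ.toRingHom).mpr hker ?_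
    show χ (algebraMap E _ x) = χ.toRingHom 0
    rw [hχ, map_zero]
    show ρ (π x) = 0
    rw [hx, map_zero]
  · have h1 := congrArg ρ hb
    rw [map_mul, map_pow, hρB, hρB] at h1
    have h2 : algebraMap B (Localization.AtPrime q) b ∈ maximalIdeal (Localization.AtPrime q) :=
      (IsLocalization.AtPrime.to_map_mem_maximal_iff _ q b).mpr hbq
    rw [← h1] at h2
    exact ((maximalIdeal.isMaximal (Localization.AtPrime q)).isPrime.mem_or_mem h2).resolve_right
      (notMem_maximalIdeal.mpr (hgu.pow n))

theorem flat_stalk (hA : CAlg2.IsGeomUnibranch (Localization.AtPrime p))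
    (hinj : Function.Injective (Localization.localRingHom p q (algebraMap A B) (q.over_def p))) :
    Module.Flat A (Localization.AtPrime q) := by
  obtain ⟨g, -, E, _, _, _, π, -, Q, hQ, e, -⟩ := exists_etale_bijective q p hA hinj
  have : Module.Flat A (Localization.AtPrime Q) := Module.Flat.trans A E _
  exact Module.Flat.of_linearEquiv e.symm.toLinearEquiv

theorem exists_etale [IsDomain A] (hA : CAlg2.IsGeomUnibranch (Localization.AtPrime p))
    (hinj : Function.Injective (Localization.localRingHom p q (algebraMap A B) (q.over_def p))) :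
    ∃ g : B, g ∉ q ∧ Algebra.Etale A (Localization.Away g) := by
  classical
  obtain ⟨g, hgq, E, _, _, _, π, hπ, Q, hQ, e, hker, hd, hnot⟩ := exists_etale_bijective q p hA hinj
  have hred : IsReduced E := (DirColim.isEtColim_self (R := A) (E := E)).isReduced
  -- finitely many minimal primes
  have hmin : ∀ P ∈ minimalPrimes E, P ∈ (⊥ : Ideal A).primesOver E := by
    intro P hP
    have := hP.1.1
    refine ⟨this, ⟨?_⟩⟩
    symm
    rw [eq_bot_iff]
    intro a ha
    by_contra hne
    have hne' : a ≠ 0 := fun h => hne (by simp [h])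
    refine Set.disjoint_left.mp (Ideal.disjoint_nonZeroDivisors_of_mem_minimalPrimes hP) ha ?_
    refine mem_nonZeroDivisors_iff_right.mpr fun z hz => ?_
    have : Module.IsTorsionFree A E := inferInstance
    exact (smul_eq_zero.mp (show a • z = 0 by rw [Algebra.smul_def, mul_comm, hz])).resolve_left hne'
  have hfin : (minimalPrimes E).Finite := (Algebra.QuasiFinite.finite_primesOver (⊥ : Ideal A)).subset hmin
  have hone : ∀ P ∈ minimalPrimes E, ∀ P' ∈ minimalPrimes E, P ≤ Q → P' ≤ Q → P = P' := by
    intro P hP P' hP' hle hle'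
    let K : Ideal E := RingHom.ker (algebraMap E (Localization.AtPrime Q))
    have hKp : K.IsPrime := RingHom.ker_isPrime _
    have hK : ∀ {P : Ideal E}, P ∈ minimalPrimes E → P ≤ Q → P = K := fun {P} hP hle => by
      have hKP : K ≤ P := fun x hx => by
        obtain ⟨s, hs⟩ := (IsLocalization.map_eq_zero_iff Q.primeCompl _ x).mp hx
        exact (hP.1.1.mem_or_mem (show (s : E) * x ∈ P from hs ▸ zero_mem _)).resolve_left fun h => s.2 (hle h)
      exact le_antisymm (hP.2 ⟨hKp, bot_le⟩ hKP) hKP
    rw [hK hP hle, hK hP' hle']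
  have ht : ∀ P : hfin.toFinset, ∃ t : E, t ∉ Q ∧ (¬ P.1 ≤ Q → t ∈ P.1) := fun P => by
    by_cases h : P.1 ≤ Q
    · exact ⟨1, (Ideal.ne_top_iff_one Q).mp hQ.ne_top, fun h' => absurd h h'⟩
    · obtain ⟨t, ht, ht'⟩ := SetLike.not_le_iff_exists.mp h
      exact ⟨t, ht', fun _ => ht⟩
  choose t ht1 ht2 using ht
  let h : E := ∏ P ∈ hfin.toFinset.attach, t P
  have hh : h ∉ Q := fun hc => by
    obtain ⟨P, -, hP⟩ := hQ.prod_mem_iff.mp hc
    exact ht1 P hP
  have hkill : ∀ x : E, algebraMap E (Localization.AtPrime Q) x = 0 → h * x = 0 := by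
    intro x hx
    refine IsNilpotent.eq_zero (mem_nilradical.mp ?_)
    rw [nilradical_eq_sInf, Ideal.mem_sInf]
    intro J hJ
    have : J.IsPrime := hJ
    obtain ⟨P, hP, hPJ⟩ := Ideal.exists_minimalPrimes_le (I := ⊥) (J := J) bot_le
    refine hPJ ?_
    by_cases hle : P ≤ Q
    · refine P.mul_mem_left _ ?_
      obtain ⟨s, hs⟩ := (IsLocalization.map_eq_zero_iff Q.primeCompl _ x).mp hx
      exact (hP.1.1.mem_or_mem (show (s : E) * x ∈ P from hs ▸ zero_mem _)).resolve_left fun h => s.2 (hle h)
    · exact P.mul_mem_right _ (P.mem_of_dvd (Finset.dvd_prod_of_mem t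
        (Finset.mem_attach _ ⟨P, hfin.mem_toFinset.mpr hP⟩)) (ht2 ⟨P, hfin.mem_toFinset.mpr hP⟩ hle))
  let Bg := Localization.Away g
  obtain ⟨⟨b, ⟨_, n, rfl⟩⟩, hb⟩ := IsLocalization.surj (Submonoid.powers g) (π h)
  replace hb : π h * algebraMap B Bg g ^ n = algebraMap B Bg b := by rw [← map_pow]; exact hb
  refine ⟨g * b, Ideal.IsPrime.mul_notMem inferInstance hgq (hnot h hh b n hb), ?_⟩
  have hassoc : Associated (π h) (algebraMap B Bg b) :=
    ⟨((IsLocalization.Away.algebraMap_isUnit g).pow n).unit, hb⟩
  let D := Localization.Away (π h)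
  have : IsLocalization.Away (algebraMap B Bg b) D := IsLocalization.Away.of_associated hassoc
  have : IsLocalization.Away (g * b) D := IsLocalization.Away.mul' Bg D g b
  let ψ : E →ₐ[A] D := (IsScalarTower.toAlgHom A Bg D).comp π
  have hψh : IsUnit (ψ h) := IsLocalization.Away.algebraMap_isUnit (π h)
  let Ψ : Localization.Away h →ₐ[A] D := IsLocalization.Away.liftAlgHom h (f := ψ) hψh
  have hΨ : ∀ x : E, Ψ (algebraMap E _ x) = ψ x := fun x => by simp [Ψ]
  have hΨs : Function.Surjective Ψ := by
    intro z
    obtain ⟨⟨c, ⟨_, m, rfl⟩⟩, hc⟩ := IsLocalization.surj (Submonoid.powers (π h)) z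
    obtain ⟨x, rfl⟩ := hπ c
    obtain ⟨v, hv⟩ := ((IsLocalization.Away.algebraMap_isUnit (S := Localization.Away h) h).pow m).exists_right_inv
    refine ⟨algebraMap E _ x * v, ?_⟩
    have hv' := congrArg Ψ hv
    rw [map_mul, map_pow, hΨ, map_one] at hv'
    rw [map_mul, hΨ]
    have hc' : z * ψ h ^ m = ψ x := by
      rw [← map_pow]
      show z * algebraMap Bg D (π (h ^ m)) = algebraMap Bg D (π x)
      rw [map_pow]
      exact hc
    linear_combination z * hv' - (Ψ v) * hc'
  have hΨi : Function.Injective Ψ := by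
    rw [injective_iff_map_eq_zero]
    intro z hz
    obtain ⟨⟨x, ⟨_, m, rfl⟩⟩, hx⟩ := IsLocalization.surj (Submonoid.powers h) z
    have h1 := congrArg Ψ hx
    rw [map_mul, hz, zero_mul, hΨ] at h1
    obtain ⟨⟨_, k, rfl⟩, hk⟩ := (IsLocalization.map_eq_zero_iff (Submonoid.powers (π h)) D (π x)).mp h1.symm
    have h2 : h * (h ^ k * x) = 0 := hkill _ (hker _ (by rw [map_mul, map_pow]; exact hk))
    have h3 : algebraMap E (Localization.Away h) x = 0 :=
      (IsLocalization.map_eq_zero_iff (Submonoid.powers h) _ x).mpr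
        ⟨⟨h ^ (k + 1), k + 1, rfl⟩, by show h ^ (k + 1) * x = 0; rw [pow_succ', mul_assoc, h2]⟩
    rw [h3] at hx
    exact ((IsLocalization.map_units (Localization.Away h) (⟨h ^ m, m, rfl⟩ : Submonoid.powers h)).mul_left_eq_zero).mp hx
  have : Algebra.Etale A (Localization.Away h) := Algebra.Etale.comp A E _
  have : Algebra.Etale A D := Algebra.Etale.of_equiv (AlgEquiv.ofBijective Ψ ⟨hΨi, hΨs⟩)
  exact Algebra.Etale.of_equiv ((IsLocalization.algEquiv (Submonoid.powers (g * b)) D (Localization.Away (g * b))).restrictScalars A)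

end unramified

end Groth.Agent.HensPoint.GeomUniEtale
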