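import Groth.Agent.HensPoint.Trans
import Mathlib.LinearAlgebra.TensorProduct.Vanishing
import Mathlib.RingTheory.Flat.Basic

/-!
Colimits of etale algebras are stable under base change.
-/

set_option autoImplicit false

open scoped TensorProduct

namespace Groth.Agent.HensPoint.EtColimBC

universe u

variable {A S : Type u} [CommRing A] [CommRing S] [Algebra A S] {C : Type u} [CommRing C] [Algebra A C]

theorem exists_kill (hS : EtColim.IsEtColim A S) {A₁ : Type u} [CommRing A₁] [Algebra A A₁]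
    [Algebra.Etale A A₁] (φ₁ : A₁ →ₐ[A] S) {κ : Type*} [Finite κ] (t : κ → C ⊗[A] A₁)
    (ht : ∀ k, Algebra.TensorProduct.map (AlgHom.id C C) φ₁ (t k) = 0) :
    ∃ (A₂ : Type u) (_ : CommRing A₂) (_ : Algebra A A₂) (_ : Algebra.Etale A A₂) (φ₂ : A₂ →ₐ[A] S)
      (j : A₁ →ₐ[A] A₂), φ₂.comp j = φ₁ ∧
        ∀ k, Algebra.TensorProduct.map (AlgHom.id C C) j (t k) = 0 := by
  classical
  have := hS.flat
  choose F hF using fun k => TensorProduct.exists_finset (t k)
  have hv : ∀ k, TensorProduct.VanishesTrivially A (fun i : F k => i.1.1) (fun i : F k => φ₁ i.1.2) := by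
    intro k
    refine TensorProduct.vanishesTrivially_of_sum_tmul_eq_zero_of_rTensor_injective A
      (Module.Flat.rTensor_preserves_injective_linearMap _ (Submodule.injective_subtype _)) ?_
    have h := ht k
    rw [hF k, map_sum, ← Finset.sum_coe_sort] at h
    exact h
  choose n a y hy ha using hv
  obtain ⟨Ab, _, _, _, φb, hr⟩ := hS.rep fun p : (k : κ) × Fin (n k) => y p.1 p.2
  choose r hr using hr
  have : Algebra.Etale A (A₁ ⊗[A] Ab) := Algebra.Etale.comp A A₁ _
  let φ₂ : A₁ ⊗[A] Ab →ₐ[A] S := Algebra.TensorProduct.lift φ₁ φb fun _ _ => Commute.all _ _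
  let d : ((k : κ) × F k) → A₁ ⊗[A] Ab := fun p =>
    p.2.1.2 ⊗ₜ[A] 1 - ∑ j, a p.1 p.2 j • ((1 : A₁) ⊗ₜ[A] r ⟨p.1, j⟩)
  obtain ⟨A₃, _, _, _, φ₃, ψ, hψ, hz⟩ := hS.kill φ₂ d fun p => by
    simp only [d, map_sub, map_sum, map_smul, φ₂, Algebra.TensorProduct.lift_tmul, map_one, mul_one,
      one_mul, hr]
    rw [sub_eq_zero]
    exact hy p.1 p.2
  refine ⟨A₃, inferInstance, inferInstance, inferInstance, φ₃,
    ψ.comp Algebra.TensorProduct.includeLeft, ?_, fun k => ?_⟩
  · rw [← AlgHom.comp_assoc, hψ]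
    ext x
    simp [φ₂]
  · rw [hF k, map_sum, ← Finset.sum_coe_sort]
    have hrew : ∀ i : F k, ψ (i.1.2 ⊗ₜ[A] 1) = ∑ j, a k i j • ψ ((1 : A₁) ⊗ₜ[A] r ⟨k, j⟩) := fun i => by
      have := hz ⟨k, i⟩
      simp only [d, map_sub, map_sum, map_smul, sub_eq_zero] at this
      exact this
    simp only [Algebra.TensorProduct.map_tmul, AlgHom.coe_id, id_eq, AlgHom.comp_apply,
      Algebra.TensorProduct.includeLeft_apply, hrew, TensorProduct.tmul_sum, ← TensorProduct.smul_tmul]
    rw [Finset.sum_comm]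
    refine Finset.sum_eq_zero fun j _ => ?_
    rw [← TensorProduct.sum_tmul, ha k j, TensorProduct.zero_tmul]

/-- base change of a colimit of etale algebras -/
theorem baseChange (hS : EtColim.IsEtColim A S) : EtColim.IsEtColim C (C ⊗[A] S) := by
  classical
  have hrep : ∀ {κ : Type u} [Finite κ] (x : κ → C ⊗[A] S), ∃ (A' : Type u) (_ : CommRing A')
      (_ : Algebra A A') (_ : Algebra.Etale A A') (φ : A' →ₐ[A] S),
      ∀ k, ∃ r, Algebra.TensorProduct.map (AlgHom.id C C) φ r = x k := by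
    intro κ _ x
    choose F hF using fun k => TensorProduct.exists_finset (x k)
    obtain ⟨A', _, _, _, φ, hr⟩ := hS.rep fun p : (k : κ) × F k => p.2.1.2
    choose r hr using hr
    refine ⟨A', inferInstance, inferInstance, inferInstance, φ,
      fun k => ⟨∑ i : F k, i.1.1 ⊗ₜ r ⟨k, i⟩, ?_⟩⟩
    rw [hF k, map_sum, ← Finset.sum_coe_sort (F k) (fun i => i.1 ⊗ₜ[A] i.2)]
    exact Finset.sum_congr rfl fun i _ => by simp [hr]
  refine ⟨fun {n} x => ?_, fun {C'} _ _ _ φ {n} s hs => ?_⟩
  · obtain ⟨A', _, _, _, φ, hr⟩ := hrep (fun k : ULift.{u} (Fin n) => x k.down)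
    exact ⟨C ⊗[A] A', inferInstance, inferInstance, inferInstance,
      Algebra.TensorProduct.map (AlgHom.id C C) φ, fun k => hr ⟨k⟩⟩
  · obtain ⟨m, π, hπ, hker⟩ := (inferInstance : Algebra.FinitePresentation C C').out
    obtain ⟨N, G, hG⟩ := Submodule.fg_iff_exists_fin_generating_family.mp hker
    obtain ⟨A₁, _, _, _, φ₁, hw⟩ := hrep (fun i : ULift.{u} (Fin m) => φ (π (MvPolynomial.X i.down)))
    choose w hw using hw
    let ev : MvPolynomial (Fin m) C →ₐ[C] C ⊗[A] A₁ := MvPolynomial.aeval fun i => w ⟨i⟩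
    have hev : (Algebra.TensorProduct.map (AlgHom.id C C) φ₁).comp ev = φ.comp π :=
      MvPolynomial.algHom_ext fun i => by simp [ev, hw]
    choose t' ht' using fun k => hπ (s k)
    obtain ⟨A₂, _, _, _, φ₂, j, hj, hkill⟩ := exists_kill hS φ₁
      (Sum.elim (fun l : Fin N => ev (G l)) (fun k : Fin n => ev (t' k))) (by
        rintro (l | k)
        · have h0 : π (G l) = 0 := by
            have : G l ∈ Submodule.span (MvPolynomial (Fin m) C) (Set.range G) :=
              Submodule.subset_span ⟨l, rfl⟩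
            rw [hG] at this
            exact this
          show ((Algebra.TensorProduct.map (AlgHom.id C C) φ₁).comp ev) (G l) = 0
          rw [hev, AlgHom.comp_apply, h0, map_zero]
        · show ((Algebra.TensorProduct.map (AlgHom.id C C) φ₁).comp ev) (t' k) = 0
          rw [hev, AlgHom.comp_apply, ht', hs])
    let J : MvPolynomial (Fin m) C →ₐ[C] C ⊗[A] A₂ := (Algebra.TensorProduct.map (AlgHom.id C C) j).comp ev
    have hle : RingHom.ker π ≤ RingHom.ker J := by
      have : (RingHom.ker π.toRingHom : Ideal _) = Ideal.span (Set.range G) := hG.symm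
      refine this.le.trans (Ideal.span_le.mpr ?_)
      rintro _ ⟨l, rfl⟩
      exact hkill (Sum.inl l)
    let ψ : C' →ₐ[C] C ⊗[A] A₂ :=
      (Ideal.Quotient.liftₐ _ J hle).comp (Ideal.quotientKerAlgEquivOfSurjective hπ).symm.toAlgHom
    have hψ : ∀ p, ψ (π p) = J p := fun p => by
      show Ideal.Quotient.liftₐ _ J hle ((Ideal.quotientKerAlgEquivOfSurjective hπ).symm (π p)) = J p
      rw [show (Ideal.quotientKerAlgEquivOfSurjective hπ).symm (π p) = Ideal.Quotient.mk _ p from
        (AlgEquiv.symm_apply_eq _).mpr (by simp)]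
      rfl
    refine ⟨C ⊗[A] A₂, inferInstance, inferInstance, inferInstance,
      Algebra.TensorProduct.map (AlgHom.id C C) φ₂, ψ, ?_, fun k => ?_⟩
    · ext x
      obtain ⟨p, rfl⟩ := hπ x
      rw [AlgHom.comp_apply, hψ]
      show Algebra.TensorProduct.map (AlgHom.id C C) φ₂
        (Algebra.TensorProduct.map (AlgHom.id C C) j (ev p)) = _
      rw [← AlgHom.comp_apply, ← Algebra.TensorProduct.map_id_comp, hj]
      exact DFunLike.congr_fun hev p
    · rw [← ht' k, hψ]
      exact hkill (Sum.inr k)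

end Groth.Agent.HensPoint.EtColimBC
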