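import Groth.Agent.HensPoint.EtColim
import Mathlib.RingTheory.Smooth.IntegralClosure
import Mathlib.RingTheory.Polynomial.ScaleRoots
import Mathlib.RingTheory.IntegralClosure.IntegrallyClosed

/-!
A local colimit of etale algebras over a normal domain is a normal domain.
-/

set_option autoImplicit false

noncomputable section

open Polynomial
open scoped TensorProduct

namespace Groth.Agent.HensPoint.Normal

universe u

variable {A B : Type u} [CommRing A] [IsDomain A] [CommRing B] [Algebra A B]

theorem isAbsFlat_tensor (A' : Type u) [CommRing A'] [Algebra A A'] [Algebra.Etale A A'] :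
    FlatMor.AbsFlat.IsAbsFlat (FractionRing A ⊗[A] A') :=
  FlatMor.AbsFlat.isAbsFlat_of_weaklyEtale (FlatMor.AbsFlat.isAbsFlat_of_field (FractionRing A))

theorem includeLeft_injective (A' : Type u) [CommRing A'] [Algebra A A'] [Module.Flat A A'] :
    Function.Injective (fun x : A' => x ⊗ₜ[A] (1 : FractionRing A)) := by
  have h := Module.Flat.lTensor_preserves_injective_linearMap (M := A')
    (Algebra.linearMap A (FractionRing A)) (IsFractionRing.injective A (FractionRing A))
  intro x y hxy
  have : LinearMap.lTensor A' (Algebra.linearMap A (FractionRing A)) (x ⊗ₜ 1) =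
      LinearMap.lTensor A' (Algebra.linearMap A (FractionRing A)) (y ⊗ₜ 1) := by simpa using hxy
  simpa using congrArg (TensorProduct.rid A A') (h this)

/-- `A` is integrally closed in `B` after inverting nonzero elements of `A` -/
theorem exists_mul_eq [IsIntegrallyClosed A] [Nontrivial B] (hB : EtColim.IsEtColim A B) {a : A}
    (ha : a ≠ 0) {b : B} {p : B[X]} (hp : p.Monic)
    (h : (p.scaleRoots (algebraMap A B a)).eval b = 0) : ∃ w, algebraMap A B a * w = b := by
  classical
  let K := FractionRing A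
  obtain ⟨A', _, _, _, φ, hr⟩ := hB.rep fun k : Option (Fin p.natDegree) =>
    Option.elim k b fun j => p.coeff j
  choose r hr using hr
  let q : A'[X] := X ^ p.natDegree + ∑ j : Fin p.natDegree, C (r (some j)) * X ^ (j : ℕ)
  have hq : q.Monic := monic_X_pow_add (degree_sum_fin_lt _)
  have hφq : q.map φ.toRingHom = p := by
    conv_rhs => rw [hp.as_sum]
    simp only [q, Polynomial.map_add, Polynomial.map_pow, Polynomial.map_X, Polynomial.map_sum,
      Polynomial.map_mul, Polynomial.map_C, AlgHom.toRingHom_eq_coe, AlgHom.coe_toRingHom, hr,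
      Option.elim_some]
    rw [← Fin.sum_univ_eq_sum_range fun j => C (p.coeff j) * X ^ j]
  have hφ0 : φ ((q.scaleRoots (algebraMap A A' a)).eval (r none)) = 0 := by
    refine (eval_map_apply (p := q.scaleRoots (algebraMap A A' a)) φ.toRingHom _).symm.trans ?_
    rw [map_scaleRoots _ _ _ (by rw [hq.leadingCoeff, map_one]; exact one_ne_zero), hφq]
    show (p.scaleRoots (φ (algebraMap A A' a))).eval (φ (r none)) = 0
    rw [φ.commutes, hr]
    exact h
  obtain ⟨A'', _, _, _, χ, ψ, hχ, hψ⟩ := hB.kill φ
    (fun _ : Unit => (q.scaleRoots (algebraMap A A' a)).eval (r none)) fun _ => hφ0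
  let L : A'' →+* A'' ⊗[A] K := (Algebra.TensorProduct.includeLeft : A'' →ₐ[A] A'' ⊗[A] K).toRingHom
  let g : A' →+* A'' ⊗[A] K := L.comp ψ.toRingHom
  have haK : algebraMap A K a ≠ 0 :=
    (map_ne_zero_iff _ (IsFractionRing.injective A K)).mpr ha
  let u : A'' ⊗[A] K := 1 ⊗ₜ (algebraMap A K a)⁻¹
  have hLa : L (algebraMap A A'' a) = 1 ⊗ₜ algebraMap A K a := by
    show (algebraMap A A'' a) ⊗ₜ[A] (1 : K) = _
    rw [Algebra.algebraMap_eq_smul_one, TensorProduct.smul_tmul, Algebra.algebraMap_eq_smul_one]
  have hau : L (algebraMap A A'' a) * u = 1 := by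
    rw [hLa, Algebra.TensorProduct.tmul_mul_tmul, mul_one, mul_inv_cancel₀ haK]
    rfl
  let z := g (r none) * u
  have hgz : g (r none) = g (algebraMap A A' a) * z := by
    show g (r none) = L (ψ (algebraMap A A' a)) * (g (r none) * u)
    rw [ψ.commutes, mul_left_comm, hau, mul_one]
  have hz : q.eval₂ g z = 0 := by
    have h1 : eval₂ g (g (algebraMap A A' a) * z) (q.scaleRoots (algebraMap A A' a)) =
        g (algebraMap A A' a) ^ q.natDegree * eval₂ g z q := scaleRoots_eval₂_mul g z _
    rw [← hgz, eval₂_at_apply] at h1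
    have h0 : g ((q.scaleRoots (algebraMap A A' a)).eval (r none)) = 0 := by
      show L (ψ _) = 0
      rw [hψ (), map_zero]
    rw [h0] at h1
    have hunit : IsUnit (g (algebraMap A A' a)) := by
      show IsUnit (L (ψ (algebraMap A A' a)))
      rw [ψ.commutes]
      exact IsUnit.of_mul_eq_one _ hau
    exact (hunit.pow _).mul_right_eq_zero.mp h1.symm
  have hint : IsIntegral A'' z := by
    refine ⟨q.map ψ.toRingHom, hq.map _, ?_⟩
    rw [eval₂_map]
    exact hz
  obtain ⟨t, ht⟩ := (TensorProduct.toIntegralClosure_bijective_of_smooth (R := A) (S := A'') (B := K)).2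
    ⟨z, hint⟩
  have hrange : ∀ t : A'' ⊗[A] integralClosure A K,
      ∃ w : A'', (TensorProduct.toIntegralClosure A A'' K t : A'' ⊗[A] K) = L w := by
    intro t
    induction t with
    | zero => exact ⟨0, by simp⟩
    | add x y hx hy =>
      obtain ⟨v, hv⟩ := hx
      obtain ⟨w, hw⟩ := hy
      exact ⟨v + w, by rw [map_add, map_add]; simp [hv, hw]⟩
    | tmul x y =>
      obtain ⟨c, hc⟩ := (isIntegrallyClosed_iff (R := A) K).mp inferInstance y.2
      refine ⟨c • x, ?_⟩
      show x ⊗ₜ[A] (y : K) = (c • x) ⊗ₜ[A] (1 : K)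
      rw [TensorProduct.smul_tmul, ← hc, Algebra.algebraMap_eq_smul_one]
  obtain ⟨w, hw⟩ := hrange t
  rw [ht] at hw
  have heq : algebraMap A A'' a * w = ψ (r none) := by
    refine includeLeft_injective (A := A) A'' ?_
    show L (algebraMap A A'' a * w) = L (ψ (r none))
    rw [map_mul, ← hw]
    show L (algebraMap A A'' a) * (g (r none) * u) = g (r none)
    rw [mul_left_comm, hau, mul_one]
  refine ⟨χ w, ?_⟩
  have hb : χ (ψ (r none)) = b := by
    rw [← AlgHom.comp_apply, hχ]; exact hr none
  rw [← hb, ← heq, map_mul, χ.commutes]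

theorem isDomain [IsIntegrallyClosed A] [IsLocalRing B] (hB : EtColim.IsEtColim A B)
    (hinj : Function.Injective (algebraMap A B)) :
    IsDomain B ∧ ∀ b : B, b ≠ 0 → ∃ w a, a ≠ 0 ∧ b * w = algebraMap A B a := by
  classical
  have := hB.flat
  have hreg : ∀ (a : A), a ≠ 0 → ∀ x : B, algebraMap A B a * x = 0 → x = 0 := fun a ha x hx => by
    obtain ⟨n, c, y, rfl, hc⟩ := HensPair.Ass.exists_mem_of_flat hx
    exact Finset.sum_eq_zero fun j _ => by rw [(mul_eq_zero.mp (hc j)).resolve_left ha, zero_smul]
  have key : ∀ b : B, b ≠ 0 → ∃ w a, a ≠ 0 ∧ b * w = algebraMap A B a := by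
    intro b hb
    obtain ⟨A', _, _, _, φ, hr⟩ := hB.rep fun _ : Unit => b
    obtain ⟨r, rfl⟩ := hr ()
    obtain ⟨y, hy⟩ := isAbsFlat_tensor A' (A := A) ((1 : FractionRing A) ⊗ₜ r)
    let := Algebra.TensorProduct.rightAlgebra (R := A) (A := FractionRing A) (B := A')
    obtain ⟨w', a, ha, hy'⟩ : ∃ (w' : A') (a : A), a ≠ 0 ∧
        (1 : FractionRing A) ⊗ₜ[A] w' = algebraMap A (FractionRing A) a ⊗ₜ[A] (1 : A') * y := by
      clear hy
      induction y with
      | zero => exact ⟨0, 1, one_ne_zero, by simp⟩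
      | add x y hx hy =>
        obtain ⟨v, a, ha, hv⟩ := hx
        obtain ⟨w, c, hc, hw⟩ := hy
        refine ⟨c • v + a • w, a * c, mul_ne_zero ha hc, ?_⟩
        rw [mul_add, TensorProduct.tmul_add, TensorProduct.tmul_smul, TensorProduct.tmul_smul, hv, hw,
          map_mul, ← smul_mul_assoc, ← smul_mul_assoc, TensorProduct.smul_tmul',
          TensorProduct.smul_tmul', Algebra.smul_def, Algebra.smul_def,
          mul_comm (algebraMap A (FractionRing A) c)]
      | tmul k x =>
        obtain ⟨n, d, hd, rfl⟩ := IsFractionRing.div_surjective (A := A) k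
        refine ⟨n • x, d, nonZeroDivisors.ne_zero hd, ?_⟩
        rw [Algebra.TensorProduct.tmul_mul_tmul, one_mul, mul_div_cancel₀ _
          ((map_ne_zero_iff _ (IsFractionRing.injective A (FractionRing A))).mpr
            (nonZeroDivisors.ne_zero hd)), TensorProduct.tmul_smul, TensorProduct.smul_tmul',
          Algebra.algebraMap_eq_smul_one]
    have h1 : (1 : FractionRing A) ⊗ₜ[A] (w' * (r * r)) =
        algebraMap A (FractionRing A) a ⊗ₜ[A] r := by
      calc (1 : FractionRing A) ⊗ₜ[A] (w' * (r * r))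
          = ((1 : FractionRing A) ⊗ₜ[A] w') * (1 ⊗ₜ r) * (1 ⊗ₜ r) := by
            simp [Algebra.TensorProduct.tmul_mul_tmul, mul_assoc]
        _ = algebraMap A (FractionRing A) a ⊗ₜ[A] (1 : A') * (y * (1 ⊗ₜ r) * (1 ⊗ₜ r)) := by
            rw [hy']; ring
        _ = _ := by rw [← hy, Algebra.TensorProduct.tmul_mul_tmul, mul_one, one_mul]
    have h2 : w' * (r * r) = algebraMap A A' a * r := by
      refine includeLeft_injective (A := A) A' ?_
      have := congrArg (TensorProduct.comm A (FractionRing A) A') h1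
      simp only [TensorProduct.comm_tmul] at this
      rw [← Algebra.smul_def a r]
      show _ = (a • r) ⊗ₜ[A] (1 : FractionRing A)
      rw [TensorProduct.smul_tmul, ← Algebra.algebraMap_eq_smul_one]
      exact this
    have h3 : φ w' * (φ r * φ r) = algebraMap A B a * φ r := by
      rw [← map_mul, ← map_mul, h2, map_mul, φ.commutes]
    have h4 : ((X : B[X]) ^ 2 - X).Monic := monic_X_pow_sub (by rw [degree_X]; decide)
    obtain ⟨e, he⟩ := exists_mul_eq hB ha h4 (b := φ r * φ w') (by
      rw [scaleRoots]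
      have hd : ((X : B[X]) ^ 2 - X).natDegree = 2 := by
        rw [natDegree_sub_eq_left_of_natDegree_lt] <;> simp
      rw [hd, eval_finsetSum]
      have hs : ((X : B[X]) ^ 2 - X).support = {1, 2} := by
        ext n
        rcases n with _ | _ | _ | n <;> simp [coeff_X_pow, coeff_X]
      rw [hs, Finset.sum_insert (by simp), Finset.sum_singleton]
      simp only [eval_monomial, coeff_sub, coeff_X_pow, coeff_X]
      norm_num
      linear_combination (φ w') * h3)
    have hid : IsIdempotentElem e := by
      refine sub_eq_zero.mp (hreg (a * a) (mul_ne_zero ha ha) (e * e - e) ?_)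
      rw [map_mul]
      linear_combination (algebraMap A B a * e + φ r * φ w' - algebraMap A B a) * he + (φ w') * h3
    have h01 : e = 0 ∨ e = 1 := by
      have hz : e * (1 - e) = 0 := by rw [mul_sub, mul_one, hid.eq, sub_self]
      rcases IsLocalRing.isUnit_or_isUnit_one_sub_self e with h' | h'
      · exact Or.inr (sub_eq_zero.mp (h'.mul_right_eq_zero.mp hz)).symm
      · exact Or.inl (h'.mul_left_eq_zero.mp hz)
    rcases h01 with rfl | rfl
    · exfalso
      rw [mul_zero] at he
      exact hb (hreg a ha _ (by linear_combination -h3 - φ r * he))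
    · exact ⟨φ w', a, ha, by rw [← he, mul_one]⟩
  have : NoZeroDivisors B := ⟨fun {x y} hxy => by
    by_contra hc
    push Not at hc
    obtain ⟨w, a, ha, hw⟩ := key x hc.1
    exact hc.2 (hreg a ha y (by rw [← hw, mul_right_comm, hxy, zero_mul]))⟩
  exact ⟨NoZeroDivisors.to_isDomain B, key⟩

theorem isIntegrallyClosed [IsIntegrallyClosed A] [IsLocalRing B] (hB : EtColim.IsEtColim A B)
    (hinj : Function.Injective (algebraMap A B)) : IsDomain B ∧ IsIntegrallyClosed B := by
  obtain ⟨hdom, key⟩ := isDomain hB hinj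
  refine ⟨hdom, (isIntegrallyClosed_iff (FractionRing B)).mpr fun {z} hz => ?_⟩
  obtain ⟨x, d, hd, rfl⟩ := IsFractionRing.div_surjective (A := B) z
  obtain ⟨w, a, ha, hw⟩ := key d (nonZeroDivisors.ne_zero hd)
  obtain ⟨p, hp, hp0⟩ := hz
  let F := FractionRing B
  have hd' : algebraMap B F d ≠ 0 :=
    (map_ne_zero_iff _ (IsFractionRing.injective B F)).mpr (nonZeroDivisors.ne_zero hd)
  have hxw : algebraMap B F (x * w) =
      algebraMap B F (algebraMap A B a) * (algebraMap B F x / algebraMap B F d) := by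
    rw [← hw, map_mul, map_mul, mul_comm (algebraMap B F d), mul_assoc,
      mul_div_cancel₀ _ hd', mul_comm]
  have h0 : (p.scaleRoots (algebraMap A B a)).eval (x * w) = 0 := by
    refine IsFractionRing.injective B F ?_
    rw [map_zero, ← eval₂_at_apply, hxw, scaleRoots_eval₂_mul, hp0, mul_zero]
  obtain ⟨y, hy⟩ := exists_mul_eq hB ha hp h0
  refine ⟨y, ?_⟩
  have haB : algebraMap B F (algebraMap A B a) ≠ 0 :=
    (map_ne_zero_iff _ (IsFractionRing.injective B F)).mpr ((map_ne_zero_iff _ hinj).mpr ha)
  refine mul_left_cancel₀ haB ?_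
  rw [← map_mul, hy, hxw]

omit [IsDomain A] in
theorem of_faithfullyFlat [Module.FaithfullyFlat A B] [IsDomain B] [IsIntegrallyClosed B] :
    IsDomain A ∧ IsIntegrallyClosed A := by
  have hinj := FaithfulSMul.algebraMap_injective A B
  have hdom : IsDomain A := hinj.isDomain
  refine ⟨hdom, (isIntegrallyClosed_iff (FractionRing A)).mpr fun {z} hz => ?_⟩
  let F := FractionRing B
  have hι : Function.Injective (IsScalarTower.toAlgHom A A F : A → F) := by
    intro x y h
    exact hinj (IsFractionRing.injective B F (by simpa [IsScalarTower.algebraMap_apply A B F] using h))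
  let ι : FractionRing A →ₐ[A] F := IsFractionRing.liftAlgHom (K := FractionRing A) hι
  obtain ⟨x, d, hd, rfl⟩ := IsFractionRing.div_surjective (A := A) z
  obtain ⟨y, hy⟩ := (isIntegrallyClosed_iff F).mp ‹IsIntegrallyClosed B› ((hz.map ι).tower_top (A := B))
  have hd0 : d ≠ 0 := nonZeroDivisors.ne_zero hd
  have h1 : algebraMap A B x = algebraMap A B d * y := by
    refine IsFractionRing.injective B F ?_
    rw [map_mul, hy, ← IsScalarTower.algebraMap_apply, ← IsScalarTower.algebraMap_apply,
      ← ι.commutes, ← ι.commutes, ← map_mul, mul_div_cancel₀]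
    exact (map_ne_zero_iff _ (IsFractionRing.injective A _)).mpr hd0
  have h2 : x ∈ ((Ideal.span {d}).map (algebraMap A B)).comap (algebraMap A B) := by
    rw [Ideal.mem_comap, h1]
    exact Ideal.mul_mem_right _ _ (Ideal.mem_map_of_mem _ (Ideal.mem_span_singleton_self d))
  rw [Ideal.comap_map_eq_self_of_faithfullyFlat, Ideal.mem_span_singleton'] at h2
  obtain ⟨c, rfl⟩ := h2
  refine ⟨c, ?_⟩
  rw [map_mul, mul_div_cancel_right₀]
  exact (map_ne_zero_iff _ (IsFractionRing.injective A _)).mpr hd0

end Groth.Agent.HensPoint.Normal
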