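import Groth.Agent.HensPair.Primes
import Groth.Agent.HensPair.Ass
import Groth.Agent.FlatMor.AbsFlat
import Mathlib.RingTheory.Etale.Field
import Mathlib.RingTheory.HopkinsLevitzki
import Mathlib.RingTheory.Artinian.Module

/-!
Algebras which are filtered colimits of etale algebras.
-/

set_option autoImplicit false

open IsLocalRing

namespace Groth.Agent.HensPoint.EtColim

universe u

/-- every finite family comes from an etale algebra and relations hold at a finite stage -/
structure IsEtColim (A B : Type u) [CommRing A] [CommRing B] [Algebra A B] : Prop where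
  rep' : ∀ {n : ℕ} (x : Fin n → B), ∃ (A' : Type u) (_ : CommRing A') (_ : Algebra A A')
    (_ : Algebra.Etale A A') (φ : A' →ₐ[A] B), ∀ k, ∃ r, φ r = x k
  kill' : ∀ {A' : Type u} [CommRing A'] [Algebra A A'] [Algebra.Etale A A'] (φ : A' →ₐ[A] B)
    {n : ℕ} (s : Fin n → A'), (∀ k, φ (s k) = 0) →
      ∃ (A'' : Type u) (_ : CommRing A'') (_ : Algebra A A'') (_ : Algebra.Etale A A'')
        (χ : A'' →ₐ[A] B) (ψ : A' →ₐ[A] A''), χ.comp ψ = φ ∧ ∀ k, ψ (s k) = 0

variable {A B : Type u} [CommRing A] [CommRing B] [Algebra A B]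

theorem IsEtColim.rep (hB : IsEtColim A B) {κ : Type*} [Finite κ] (x : κ → B) :
    ∃ (A' : Type u) (_ : CommRing A') (_ : Algebra A A') (_ : Algebra.Etale A A') (φ : A' →ₐ[A] B),
      ∀ k, ∃ r, φ r = x k := by
  obtain ⟨n, ⟨e⟩⟩ := Finite.exists_equiv_fin κ
  obtain ⟨A', _, _, _, φ, h⟩ := hB.rep' fun j => x (e.symm j)
  exact ⟨A', inferInstance, inferInstance, inferInstance, φ, fun k => by simpa using h (e k)⟩

theorem IsEtColim.kill (hB : IsEtColim A B) {A' : Type u} [CommRing A'] [Algebra A A']
    [Algebra.Etale A A'] (φ : A' →ₐ[A] B) {κ : Type*} [Finite κ] (s : κ → A')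
    (hs : ∀ k, φ (s k) = 0) :
    ∃ (A'' : Type u) (_ : CommRing A'') (_ : Algebra A A'') (_ : Algebra.Etale A A'')
      (χ : A'' →ₐ[A] B) (ψ : A' →ₐ[A] A''), χ.comp ψ = φ ∧ ∀ k, ψ (s k) = 0 := by
  obtain ⟨n, ⟨e⟩⟩ := Finite.exists_equiv_fin κ
  obtain ⟨A'', _, _, _, χ, ψ, hc, h⟩ := hB.kill' φ (fun j => s (e.symm j)) fun j => hs _
  exact ⟨A'', inferInstance, inferInstance, inferInstance, χ, ψ, hc,
    fun k => by simpa using h (e k)⟩

theorem IsEtColim.flat (hB : IsEtColim A B) : Module.Flat A B := by
  refine Module.Flat.iff_forall_isTrivialRelation.mpr fun {l f x} hfx => ?_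
  obtain ⟨A₁, _, _, _, φ, hr⟩ := hB.rep x
  choose r hr using hr
  obtain ⟨A₂, _, _, _, χ, ψ, hχ, hψ⟩ := hB.kill φ (fun _ : Unit => ∑ j, f j • r j)
    fun _ => by simpa [map_sum, hr] using hfx
  have h0 : ∑ j, f j • ψ (r j) = 0 := by simpa [map_sum] using hψ ()
  obtain ⟨n, a, y, hy, ha⟩ := Module.Flat.iff_forall_isTrivialRelation.mp
    (inferInstance : Module.Flat A A₂) h0
  refine ⟨n, a, fun j => χ (y j), fun j => ?_, ha⟩
  rw [← hr j, ← hχ, AlgHom.comp_apply, show ψ (r j) = _ from hy j, map_sum]
  simp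

theorem IsEtColim.eq_of_le_of_under_eq (hB : IsEtColim A B) {P Q : Ideal B} [P.IsPrime] [Q.IsPrime]
    (h : P ≤ Q) (h' : P.comap (algebraMap A B) = Q.comap (algebraMap A B)) : P = Q := by
  refine le_antisymm h fun x hx => ?_
  obtain ⟨A', _, _, _, φ, hr⟩ := hB.rep fun _ : Unit => x
  obtain ⟨r, rfl⟩ := hr ()
  have heq : P.comap φ.toRingHom = Q.comap φ.toRingHom := by
    refine Algebra.QuasiFinite.eq_of_le_of_under_eq (R := A) _ _ (Ideal.comap_mono h) ?_
    rw [Ideal.under_def, Ideal.under_def, Ideal.comap_comap, Ideal.comap_comap,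
      AlgHom.toRingHom_eq_coe, AlgHom.comp_algebraMap]
    exact h'
  exact (heq ▸ (show r ∈ Q.comap φ.toRingHom from hx) : r ∈ P.comap φ.toRingHom)

theorem IsEtColim.ringKrullDim_eq (hB : IsEtColim A B) [Module.FaithfullyFlat A B] :
    ringKrullDim B = ringKrullDim A := by
  refine le_antisymm ?_ ?_
  · refine Order.krullDim_le_of_strictMono (PrimeSpectrum.comap (algebraMap A B)) fun P Q hlt => ?_
    refine lt_of_le_of_ne (Ideal.comap_mono hlt.le) fun h => hlt.ne (PrimeSpectrum.ext ?_)
    exact hB.eq_of_le_of_under_eq hlt.le (congrArg PrimeSpectrum.asIdeal h)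
  · refine iSup_le fun l => ?_
    obtain ⟨P, hP⟩ := PrimeSpectrum.comap_surjective_of_faithfullyFlat (A := A) (B := B) l.last
    have : P.asIdeal.LiesOver l.last.asIdeal := ⟨(congrArg PrimeSpectrum.asIdeal hP).symm⟩
    obtain ⟨L, hL, -, -⟩ := Ideal.exists_ltSeries_of_hasGoingDown (S := B) l P.asIdeal
    exact hL ▸ Order.LTSeries.length_le_krullDim L

theorem IsEtColim.map_nilradical (hB : IsEtColim A B) :
    (nilradical A).map (algebraMap A B) = nilradical B := by
  refine le_antisymm (Ideal.map_le_iff_le_comap.mpr fun a ha => ?_) fun x hx => ?_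
  · exact mem_nilradical.mpr ((mem_nilradical.mp ha).map _)
  obtain ⟨n, hn⟩ := mem_nilradical.mp hx
  obtain ⟨A', _, _, _, φ, hr⟩ := hB.rep fun _ : Unit => x
  obtain ⟨r, rfl⟩ := hr ()
  obtain ⟨A'', _, _, _, χ, ψ, hc, hψ⟩ := hB.kill φ (fun _ : Unit => r ^ n)
    fun _ => by rw [map_pow, hn]
  let N := nilradical A
  have : IsReduced (A ⧸ N) :=
    (Ideal.isRadical_iff_quotient_reduced N).mp (Ideal.radical_isRadical _)
  have : Algebra.Etale (A ⧸ N) (A'' ⧸ N.map (algebraMap A A'')) :=
    Algebra.Etale.of_equiv (Algebra.TensorProduct.quotIdealMapEquivQuotTensor A'' N).symm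
  have : IsReduced (A'' ⧸ N.map (algebraMap A A'')) :=
    FlatMor.AbsFlat.isReduced_of_weaklyEtale (A ⧸ N) _
  have h0 : ψ r ∈ N.map (algebraMap A A'') := by
    rw [← Ideal.Quotient.eq_zero_iff_mem]
    exact IsNilpotent.eq_zero ⟨n, by rw [← map_pow, ← map_pow, hψ (), map_zero]⟩
  have h1 := Ideal.mem_map_of_mem χ.toRingHom h0
  rw [Ideal.map_map, AlgHom.toRingHom_eq_coe, AlgHom.comp_algebraMap] at h1
  rw [← hc]
  exact h1

theorem IsEtColim.isReduced [IsReduced A] (hB : IsEtColim A B) : IsReduced B := by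
  rw [← nilradical_eq_bot_iff, ← hB.map_nilradical, nilradical_eq_zero A, Ideal.zero_eq_bot,
    Ideal.map_bot]

theorem IsEtColim.exists_mul_mem (hB : IsEtColim A B) (P : Ideal B) [P.IsPrime] {x : B} (hx : x ∈ P) :
    ∃ s, s ∉ P ∧ s * x ∈ (P.comap (algebraMap A B)).map (algebraMap A B) := by
  obtain ⟨A', _, _, _, φ, hr⟩ := hB.rep fun _ : Unit => x
  obtain ⟨r, rfl⟩ := hr ()
  let q : Ideal A' := P.comap φ.toRingHom
  have : q.IsPrime := Ideal.IsPrime.comap _
  let p : Ideal A := P.comap (algebraMap A B)
  have : q.LiesOver p := ⟨by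
    show p = (P.comap φ.toRingHom).comap (algebraMap A A')
    rw [Ideal.comap_comap, AlgHom.toRingHom_eq_coe, AlgHom.comp_algebraMap]⟩
  let : Algebra (Localization.AtPrime p) (Localization.AtPrime q) :=
    Localization.AtPrime.algebraOfLiesOver p q
  have hmax := ((Algebra.isUnramifiedAt_iff_map_eq (R := A) p q).mp inferInstance).2
  have hrq : algebraMap A' (Localization.AtPrime q) r ∈
      (p.map (algebraMap A A')).map (algebraMap A' (Localization.AtPrime q)) := by
    rw [Ideal.map_map, ← IsScalarTower.algebraMap_eq, hmax]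
    exact (IsLocalization.AtPrime.to_map_mem_maximal_iff _ q r).mpr hx
  obtain ⟨⟨⟨j, hj⟩, t⟩, ht⟩ := (IsLocalization.mem_map_algebraMap_iff q.primeCompl _).mp hrq
  rw [← map_mul] at ht
  obtain ⟨c, hc⟩ := (IsLocalization.eq_iff_exists q.primeCompl _).mp ht
  refine ⟨φ ((c : A') * (t : A')), fun hm => ?_, ?_⟩
  · rcases ‹q.IsPrime›.mem_or_mem (show (c : A') * (t : A') ∈ q from hm) with h1 | h1
    exacts [c.2 h1, t.2 h1]
  · rw [← map_mul, mul_assoc, mul_comm (t : A') r, hc]
    have := Ideal.mem_map_of_mem φ.toRingHom (Ideal.mul_mem_left _ (c : A') hj)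
    rwa [Ideal.map_map, AlgHom.toRingHom_eq_coe, AlgHom.comp_algebraMap] at this

/-- flat local map at a prime -/
theorem IsEtColim.localRing_facts [IsNoetherianRing A] [IsNoetherianRing B] (hB : IsEtColim A B) (P : Ideal B) [P.IsPrime]
    (p : Ideal A) [p.IsPrime] (hp : p = P.comap (algebraMap A B)) :
    (IsRegularLocalRing (Localization.AtPrime p) ↔ IsRegularLocalRing (Localization.AtPrime P)) ∧
    p.height = P.height ∧
    LocCoh.depth (Localization.AtPrime P) (Localization.AtPrime P) =
      LocCoh.depth (Localization.AtPrime p) (Localization.AtPrime p) := by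
  have := hB.flat
  let f : Localization.AtPrime p →+* Localization.AtPrime P :=
    Localization.localRingHom p P (algebraMap A B) hp
  let : Algebra (Localization.AtPrime p) (Localization.AtPrime P) := f.toAlgebra
  have : IsScalarTower A (Localization.AtPrime p) (Localization.AtPrime P) :=
    IsScalarTower.of_algebraMap_eq fun a => by
      refine Eq.trans ?_ (Localization.localRingHom_to_map p P (algebraMap A B) hp a).symm
      exact IsScalarTower.algebraMap_apply A B (Localization.AtPrime P) a
  have : IsLocalHom (algebraMap (Localization.AtPrime p) (Localization.AtPrime P)) :=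
    Localization.isLocalHom_localRingHom p P _ hp
  have : Module.Flat A (Localization.AtPrime P) := Module.Flat.trans A B _
  have : Module.Flat (Localization.AtPrime p) (Localization.AtPrime P) :=
    Module.flat_iff_of_isLocalization (Localization.AtPrime p) p.primeCompl _ |>.mpr ‹_›
  have hmap : (maximalIdeal (Localization.AtPrime p)).map
      (algebraMap (Localization.AtPrime p) (Localization.AtPrime P)) = maximalIdeal _ := by
    refine le_antisymm (((local_hom_TFAE _).out 0 2).mp ‹IsLocalHom (algebraMap (Localization.AtPrime p)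
      (Localization.AtPrime P))›) fun z hz => ?_
    rw [← Localization.AtPrime.map_eq_maximalIdeal (I := p), Ideal.map_map, ← IsScalarTower.algebraMap_eq,
      IsScalarTower.algebraMap_eq A B (Localization.AtPrime P), ← Ideal.map_map]
    obtain ⟨b, s, rfl⟩ := IsLocalization.exists_mk'_eq P.primeCompl z
    obtain ⟨c, hc, hcb⟩ := hB.exists_mul_mem P ((IsLocalization.AtPrime.mk'_mem_maximal_iff _ P b s).mp hz)
    rw [IsLocalization.mk'_eq_mul_mk'_one]
    refine Ideal.mul_mem_right _ _ ?_
    refine (Ideal.unit_mul_mem_iff_mem _ (IsLocalization.map_units _ (⟨c, hc⟩ : P.primeCompl))).mp ?_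
    rw [← map_mul, hp]
    exact Ideal.mem_map_of_mem _ hcb
  refine ⟨EtaleLocal.Basic.isRegularLocalRing_iff hmap, ?_, ?_⟩
  · have h := EtaleLocal.Basic.ringKrullDim_eq hmap
    rw [IsLocalization.AtPrime.ringKrullDim_eq_height p (Localization.AtPrime p),
      IsLocalization.AtPrime.ringKrullDim_eq_height P (Localization.AtPrime P)] at h
    exact_mod_cast h.symm
  · have : Module.FaithfullyFlat (Localization.AtPrime p) (Localization.AtPrime P) :=
      Module.FaithfullyFlat.of_flat_of_isLocalHom
    have h := (Groth.Agent.S2938.result (Localization.AtPrime p) (Localization.AtPrime P)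
      (maximalIdeal _) (Localization.AtPrime p)).2 inferInstance
    rw [hmap, IdealDepth.congr _ (TensorProduct.AlgebraTensorModule.rid (Localization.AtPrime p)
      (Localization.AtPrime P) (Localization.AtPrime P))] at h
    exact h


/-- associated primes ascend -/
theorem IsEtColim.mem_of_comap_mem {S : Type u} [CommRing S] [Algebra A S] [IsNoetherianRing A] [Module.Flat A S] [IsNoetherianRing S]
    (hB : IsEtColim A S) (P : Ideal S) [hP : P.IsPrime]
    (h : P.comap (algebraMap A S) ∈ associatedPrimes A A) : P ∈ associatedPrimes S S := by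
  obtain ⟨-, x, hx⟩ := isAssociatedPrime_iff.mp h
  set p := P.comap (algebraMap A S) with hp
  let M : Submodule S S := Submodule.span S {algebraMap A S x}
  have hann : Module.annihilator S M = p.map (algebraMap A S) := by
    ext b
    rw [Module.mem_annihilator]
    constructor
    · intro hb
      have hb' : algebraMap A S x * b = 0 := by
        have := congrArg Subtype.val (hb ⟨_, Submodule.mem_span_singleton_self _⟩)
        simpa [mul_comm] using this
      obtain ⟨n, c, y, rfl, hc⟩ := HensPair.Ass.exists_mem_of_flat hb'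
      refine sum_mem fun j _ => ?_
      rw [Algebra.smul_def]
      refine Ideal.mul_mem_right _ _ (Ideal.mem_map_of_mem _ (hx.symm.le ?_))
      rw [Submodule.mem_colon_singleton, Submodule.mem_bot, smul_eq_mul, mul_comm]
      exact hc j
    · rintro hb ⟨m, hm⟩
      obtain ⟨z, rfl⟩ := Submodule.mem_span_singleton.mp hm
      apply Subtype.ext
      show b * (z * algebraMap A S x) = 0
      have : p.map (algebraMap A S) ≤ (⊥ : Submodule S S).colon {algebraMap A S x} :=
        Ideal.map_le_iff_le_comap.mpr fun a ha => by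
          rw [Ideal.mem_comap, Submodule.mem_colon_singleton, Submodule.mem_bot, smul_eq_mul, ← map_mul]
          rw [hx, Submodule.mem_colon_singleton, Submodule.mem_bot, smul_eq_mul] at ha
          rw [ha, map_zero]
      have h1 := this hb
      rw [Submodule.mem_colon_singleton, Submodule.mem_bot, smul_eq_mul] at h1
      rw [mul_left_comm, h1, mul_zero]
  have hmin : P ∈ (p.map (algebraMap A S)).minimalPrimes := by
    refine ⟨⟨hP, Ideal.map_comap_le⟩, fun Q ⟨hQ, hpQ⟩ hQP => ?_⟩
    have : Q.comap (algebraMap A S) = P.comap (algebraMap A S) :=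
      le_antisymm (Ideal.comap_mono hQP) (Ideal.map_le_iff_le_comap.mp hpQ)
    exact (hB.eq_of_le_of_under_eq hQP this).ge
  rw [← hann] at hmin
  exact associatedPrimes.subset_of_injective (f := M.subtype) M.injective_subtype
    (Module.associatedPrimes.minimalPrimes_annihilator_subset_associatedPrimes S M hmin)


open scoped TensorProduct in
/-- the fibres are products of separable field extensions -/
theorem IsEtColim.fibre {R S : Type u} [CommRing R] [CommRing S] [Algebra R S] [IsNoetherianRing S]
    (hB : IsEtColim R S) (p : Ideal R) [p.IsPrime] :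
    ∃ (n : ℕ) (K : Fin n → Type u) (_ : ∀ i, Field (K i)) (_ : ∀ i, Algebra p.ResidueField (K i)),
      (∀ i, Algebra.IsSeparable p.ResidueField (K i)) ∧
      Nonempty ((p.ResidueField ⊗[R] S) ≃ₐ[p.ResidueField] (Π i, K i)) := by
  classical
  let k := p.ResidueField
  let F := TensorProduct R k S
  -- every element is killed by a separable polynomial
  have key : ∀ x : F, ∃ q : Polynomial k, q.Separable ∧ Polynomial.aeval x q = 0 := by
    intro x
    obtain ⟨T, hT⟩ := TensorProduct.exists_finset x
    obtain ⟨A', _, _, _, φ, hr⟩ := hB.rep fun t : T => t.1.2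
    choose r hr using hr
    let φk : TensorProduct R k A' →ₐ[k] F := Algebra.TensorProduct.map (AlgHom.id k k) φ
    let y : TensorProduct R k A' := ∑ t : T, t.1.1 ⊗ₜ r t
    have hy : φk y = x := by
      rw [hT, ← Finset.sum_coe_sort T]
      rw [map_sum]
      exact Finset.sum_congr rfl fun t _ => by
        show Algebra.TensorProduct.map (AlgHom.id k k) φ _ = _
        erw [Algebra.TensorProduct.map_tmul, AlgHom.id_apply, hr]
    obtain ⟨ι, _, K, _, _, e, hK⟩ :=
      (Algebra.Etale.iff_exists_algEquiv_prod (K := k) (A := TensorProduct R k A')).mp inferInstance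
    have := Fintype.ofFinite ι
    let ms : Finset (Polynomial k) := Finset.univ.image fun i => minpoly k (e y i)
    have hirr : ∀ q ∈ ms, q.Monic ∧ Irreducible q ∧ q.Separable := by
      intro q hq
      obtain ⟨i, -, rfl⟩ := Finset.mem_image.mp hq
      have := (hK i).1
      have := (hK i).2
      have hi : IsIntegral k (e y i) := Algebra.IsIntegral.isIntegral _
      exact ⟨minpoly.monic hi, minpoly.irreducible hi, Algebra.IsSeparable.isSeparable k (e y i)⟩
    refine ⟨∏ q ∈ ms, q, Polynomial.separable_prod' ?_ fun q hq => (hirr q hq).2.2, ?_⟩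
    · intro q hq q' hq' hne
      exact (hirr q hq).2.1.coprime_iff_not_dvd.mpr fun hd => hne (Polynomial.eq_of_monic_of_associated
        (hirr q hq).1 (hirr q' hq').1 ((hirr q hq).2.1.associated_of_dvd (hirr q' hq').2.1 hd))
    · rw [← hy, Polynomial.aeval_algHom_apply]
      have hzero : Polynomial.aeval (e y) (∏ q ∈ ms, q) = 0 := by
        funext i
        have hd : minpoly k (e y i) ∣ ∏ q ∈ ms, q :=
          Finset.dvd_prod_of_mem id (Finset.mem_image_of_mem _ (Finset.mem_univ i))
        obtain ⟨d, hd⟩ := hd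
        show Pi.evalAlgHom k K i (Polynomial.aeval (e y) (∏ q ∈ ms, q)) = 0
        rw [← Polynomial.aeval_algHom_apply, hd, map_mul, Pi.evalAlgHom_apply, minpoly.aeval, zero_mul]
      rw [show e y = e.toAlgHom y from rfl, Polynomial.aeval_algHom_apply] at hzero
      rw [show Polynomial.aeval y (∏ q ∈ ms, q) = 0 from e.injective (hzero.trans (map_zero e).symm),
        map_zero]
  have hint : Algebra.IsIntegral k F := ⟨fun x => by
    obtain ⟨q, hq, hx⟩ := key x
    exact isAlgebraic_iff_isIntegral.mp ⟨q, hq.ne_zero, hx⟩⟩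
  have hred : IsReduced F := ⟨fun x hx => by
    obtain ⟨q, hq, hq0⟩ := key x
    have hdvd : minpoly k x ∣ q := minpoly.dvd k x hq0
    obtain ⟨n, hn⟩ := hx
    have h1 : minpoly k x ∣ Polynomial.X ^ n := minpoly.dvd k x (by simp [hn])
    have hsep := hq.of_dvd hdvd
    obtain ⟨m, -, hm⟩ := (dvd_prime_pow Polynomial.prime_X n).mp h1
    have hmon := minpoly.monic (hint.isIntegral x)
    have heq := Polynomial.eq_of_monic_of_associated hmon (Polynomial.monic_X_pow m) hm
    rcases m with _ | _ | m
    · have := minpoly.aeval k x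
      rw [heq, pow_zero, map_one] at this
      calc x = 1 * x := (one_mul x).symm
        _ = 0 := by rw [this, zero_mul]
    · have := minpoly.aeval k x
      rwa [heq, pow_one, Polynomial.aeval_X] at this
    · exfalso
      rw [heq] at hsep
      exact Polynomial.not_isUnit_X (hsep.squarefree Polynomial.X ⟨Polynomial.X ^ m, by ring⟩)⟩
  have hnoeth : IsNoetherianRing F := by
    have : Algebra.EssFiniteType S (TensorProduct R S k) := inferInstance
    have := Algebra.EssFiniteType.isNoetherianRing S (TensorProduct R S k)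
    exact isNoetherianRing_of_ringEquiv _ (Algebra.TensorProduct.comm R S k).toRingEquiv
  have hdim : Ring.KrullDimLE 0 F := Ring.KrullDimLE.mk₀ fun q hq =>
    Ideal.isMaximal_of_isIntegral_of_isMaximal_comap q
      ((Ideal.eq_bot_of_prime (q.comap (algebraMap k F))).symm ▸ Ideal.bot_isMaximal)
  have : IsArtinianRing F := isArtinianRing_iff_krullDimLE_zero.mpr hdim
  have := Fintype.ofFinite (MaximalSpectrum F)
  let σ := (Fintype.equivFin (MaximalSpectrum F)).symm
  refine ⟨_, fun i => F ⧸ (σ i).asIdeal, fun i => Ideal.Quotient.field _, fun i => inferInstance,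
    fun i => ⟨fun z => ?_⟩, ⟨((IsArtinianRing.equivPi F).restrictScalars k).trans
      (AlgEquiv.piCongrLeft k (fun I : MaximalSpectrum F => F ⧸ I.asIdeal) σ).symm⟩⟩
  obtain ⟨x, rfl⟩ := Ideal.Quotient.mk_surjective z
  obtain ⟨q, hq, hx⟩ := key x
  refine hq.of_dvd (minpoly.dvd k _ ?_)
  rw [← Ideal.Quotient.mkₐ_eq_mk k, Polynomial.aeval_algHom_apply, hx, map_zero]

end Groth.Agent.HensPoint.EtColim
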