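import Groth.Agent.HensPoint.Strict
import Groth.Agent.HensPoint.EtColim
import Groth.Agent.HensPair.Local
import Groth.Agent.Flat.WeaklyEtale
import Groth.Agent.S2363
import Mathlib.RingTheory.AdicCompletion.AsTensorProduct

/-!
Strict henselizations and henselizations of local rings are colimits of etale algebras.
-/

set_option autoImplicit false

noncomputable section

open IsLocalRing

namespace Groth.Agent.HensPoint.StrictProps

universe u

variable {R : Type u} [CommRing R] [IsLocalRing R]
  {S : Type u} [CommRing S] [IsLocalRing S] [Algebra R S] [IsLocalHom (algebraMap R S)]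

theorem strict [Hensel.IsStrictHenselization R S] : EtColim.IsEtColim R S :=
  ⟨fun x => Strict.exists_rep x, fun φ _ s hs => Strict.exists_kill φ s hs⟩

instance isLocalHom_hull : IsLocalHom (algebraMap R (Hull.H R (ResidueField R))) :=
  ((local_hom_TFAE (algebraMap R (Hull.H R (ResidueField R)))).out 0 2).mpr
    (le_of_eq (by
      have h : RingHom.ker (algebraMap R (ResidueField R)) = maximalIdeal R := by
        ext r
        exact residue_eq_zero_iff r
      conv_lhs => rw [← h]
      exact Hull.map_ker_eq))

theorem isHenselization_hull : Hensel.IsHenselization R (Hull.H R (ResidueField R)) := by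
  let H := Hull.H R (ResidueField R)
  have hbij : Function.Bijective (ResidueField.map (algebraMap R H)) := by
    refine ⟨RingHom.injective _, fun z => ?_⟩
    obtain ⟨x, rfl⟩ := residue_surjective z
    obtain ⟨r, hr⟩ := residue_surjective (Hull.π R (ResidueField R) x)
    refine ⟨residue R r, ?_⟩
    rw [ResidueField.map_residue, ← sub_eq_zero, ← map_sub, residue_eq_zero_iff,
      Hull.mem_maximalIdeal_iff, map_sub, AlgHom.commutes, sub_eq_zero]
    exact hr
  refine ⟨Hull.henselian, fun T _ _ f hf => ?_⟩
  let : Algebra R T := f.toAlgebra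
  have : IsLocalHom f := hf
  let e := RingEquiv.ofBijective _ hbij
  let τ : ResidueField H →+* ResidueField T :=
    (ResidueField.map (algebraMap R T)).comp e.symm.toRingHom
  have hτ : ∀ r, τ (residue _ (algebraMap R H r)) = residue T (algebraMap R T r) := fun r => by
    show ResidueField.map (algebraMap R T) (e.symm (residue H (algebraMap R H r))) = _
    rw [show residue H (algebraMap R H r) = e (residue R r) from
      (ResidueField.map_residue (algebraMap R H) r).symm, e.symm_apply_apply, ResidueField.map_residue]
  obtain ⟨g, hg, hu⟩ := Hull.existsUnique_algHom T τ hτ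
  refine ⟨g.toRingHom, g.comp_algebraMap, fun g' hg' => ?_⟩
  refine congrArg AlgHom.toRingHom (hu ⟨g', fun r => RingHom.congr_fun hg' r⟩ fun x => ?_)
  obtain ⟨y, hy⟩ := hbij.2 (residue H x)
  obtain ⟨r, rfl⟩ := residue_surjective y
  rw [ResidueField.map_residue] at hy
  have hx : x - algebraMap R H r ∈ maximalIdeal H := Ideal.Quotient.eq.mp hy.symm
  rw [← hy, hτ]
  refine Ideal.Quotient.eq.mpr ?_
  show g' x - f r ∈ _
  rw [← RingHom.congr_fun hg' r, RingHom.comp_apply, ← map_sub]
  rw [← (show (maximalIdeal R).map (algebraMap R H) = maximalIdeal H by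
    have h : RingHom.ker (algebraMap R (ResidueField R)) = maximalIdeal R := by
      ext r
      exact residue_eq_zero_iff r
    conv_lhs => rw [← h]
    exact Hull.map_ker_eq)] at hx
  have := Ideal.mem_map_of_mem g' hx
  rw [Ideal.map_map, hg'] at this
  exact (((local_hom_TFAE f).out 0 2).mp hf : (maximalIdeal R).map f ≤ maximalIdeal T) this

theorem hens [Hensel.IsHenselization R S] : EtColim.IsEtColim R S := by
  have h1 := HensPair.Local.isPairHenselization (A := R) (B := S)
  have := isHenselization_hull (R := R)
  have h2 := HensPair.Local.isPairHenselization (A := R) (B := Hull.H R (ResidueField R))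
  obtain ⟨e⟩ := HensPair.Henselization.unique h1 h2
  refine ⟨fun x => ?_, fun {A'} _ _ _ φ {n} s hs => ?_⟩
  · obtain ⟨A', _, _, h, φ, hr⟩ := Hull.exists_rep fun k => e (x k)
    refine ⟨A', inferInstance, inferInstance, h, e.symm.toAlgHom.comp φ, fun k => ?_⟩
    obtain ⟨r, hr⟩ := hr k
    exact ⟨r, by simp [hr]⟩
  · obtain ⟨A'', _, _, h, χ, ψ, hc, hψ⟩ :=
      Hull.exists_kill (e.toAlgHom.comp φ) s fun k => by simp [hs k]
    refine ⟨A'', inferInstance, inferInstance, h, e.symm.toAlgHom.comp χ, ψ, ?_, hψ⟩
    rw [AlgHom.comp_assoc, hc, ← AlgHom.comp_assoc]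
    ext x; simp

/-- a noetherian flat henselian local algebra with separably closed residue field -/
theorem exists_henselian_extension [IsNoetherianRing R] (K : Type u) [Field K]
    [Algebra (ResidueField R) K] :
    ∃ (C : Type u) (_ : CommRing C) (_ : HenselianLocalRing C) (_ : Algebra R C)
      (_ : IsLocalHom (algebraMap R C)), IsNoetherianRing C ∧ Module.Flat R C ∧
      ∃ e : K →+* ResidueField C, ∀ r : R,
        e (algebraMap (ResidueField R) K (residue R r)) = residue C (algebraMap R C r) := by
  obtain ⟨B, _, _, _, _, _, _, e, he⟩ := Groth.Agent.S2363.result (A := R) K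
  have hfg : (maximalIdeal B).FG := IsNoetherian.noetherian _
  let C := AdicCompletion (maximalIdeal B) B
  have : IsLocalRing C := AdicCompletion.isLocalRing_of_fg hfg
  have : IsLocalHom (algebraMap B C) := AdicCompletion.algebraMap_isLocalHom_of_fg hfg
  have : IsNoetherianRing C :=
    Completion.NoetherianComplete.isNoetherianRing_adicCompletion _ hfg
  have hm : maximalIdeal C = (maximalIdeal B).map (algebraMap B C) :=
    AdicCompletion.maximalIdeal_eq_map_of_fg hfg
  have : IsAdicComplete (maximalIdeal C) C := hm ▸ AdicCompletion.isAdicComplete_self _ hfg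
  have hh : HenselianLocalRing C := HensPair.Local.henselianLocalRing inferInstance
  have : Module.Flat R C := Module.Flat.trans R B C
  have hloc : IsLocalHom (algebraMap R C) := by
    rw [IsScalarTower.algebraMap_eq R B C]
    exact RingHom.isLocalHom_comp _ _
  have hle : (maximalIdeal R).map (algebraMap R B) ≤ maximalIdeal B :=
    ((local_hom_TFAE (algebraMap R B)).out 0 2).mp ‹IsLocalHom (algebraMap R B)›
  let g : K →+* ResidueField B := (Ideal.Quotient.factor hle).comp e.symm.toRingHom
  refine ⟨C, inferInstance, hh, inferInstance, hloc, inferInstance, inferInstance,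
    (ResidueField.map (algebraMap B C)).comp g, fun r => ?_⟩
  rw [← he, IsScalarTower.algebraMap_apply R B C, RingHom.comp_apply, ← ResidueField.map_residue]
  congr 1
  show Ideal.Quotient.factor hle (e.symm (e _)) = _
  rw [e.symm_apply_apply]
  rfl

/-- the strict henselization of a noetherian local ring is noetherian -/
theorem isNoetherianRing [IsNoetherianRing R] [Hensel.IsStrictHenselization R S] :
    IsNoetherianRing S := by
  have hsep := ‹Hensel.IsStrictHenselization R S›.isSepClosure
  obtain ⟨C, _, _, _, _, _, _, e, he⟩ := exists_henselian_extension (R := R) (ResidueField S)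
  have hτ : e.comp (ResidueField.map (algebraMap R S)) = ResidueField.map (algebraMap R C) := by
    refine Ideal.Quotient.ringHom_ext (RingHom.ext fun r => ?_)
    exact (he r).trans (ResidueField.map_residue (algebraMap R C) r).symm
  obtain ⟨g, ⟨hg, hg'⟩, -⟩ :=
    ‹Hensel.IsStrictHenselization R S›.universal C (algebraMap R C) e hτ
  let : Algebra S C := g.toAlgebra
  have : IsScalarTower R S C := IsScalarTower.of_algebraMap_eq fun r => (RingHom.congr_fun hg r).symm
  have hlocal : IsLocalHom (algebraMap S C) := ⟨fun x hx => by
    refine notMem_maximalIdeal.mp fun hm => ?_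
    have h0 := hg' x
    rw [(residue_eq_zero_iff x).mpr hm, map_zero, residue_eq_zero_iff] at h0
    exact h0 hx⟩
  have hflat : Module.Flat S C := by
    refine Module.Flat.iff_forall_isTrivialRelation.mpr fun {l f x} hfx => ?_
    obtain ⟨A', _, _, _, φ, hr⟩ := (strict (R := R) (S := S)).rep f
    choose r hr using hr
    let : Algebra A' C := (g.comp φ.toRingHom).toAlgebra
    have : IsScalarTower R A' C := IsScalarTower.of_algebraMap_eq fun a => by
      show _ = g (φ (algebraMap R A' a))
      rw [φ.commutes]; exact (RingHom.congr_fun hg a).symm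
    have := Flat.WeaklyEtale.flat_of_flat_base R A' C
    have hr' : ∑ i, r i • x i = 0 := by
      simp only [Algebra.smul_def] at hfx ⊢
      rw [← hfx]
      refine Finset.sum_congr rfl fun i _ => ?_
      show g (φ (r i)) * x i = g (f i) * x i
      rw [hr]
    obtain ⟨n, a, y, hy, ha⟩ := Module.Flat.iff_forall_isTrivialRelation.mp this hr'
    refine ⟨n, fun i j => φ (a i j), y, fun i => ?_, fun j => ?_⟩
    · rw [hy i]
      refine Finset.sum_congr rfl fun j _ => ?_
      simp only [Algebra.smul_def]
      rfl
    · simp only [← hr, ← map_mul, ← map_sum, ha, map_zero]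
  have : Module.FaithfullyFlat S C := Module.FaithfullyFlat.of_flat_of_isLocalHom
  exact Fpqc.Fppf.isNoetherianRing_of_faithfullyFlat S C

end Groth.Agent.HensPoint.StrictProps
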