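import Groth.Agent.HensPoint.Strict
import Groth.Agent.HensPair.Integral
import Groth.Agent.Hensel.Decomp
import Mathlib.FieldTheory.SeparableClosure
import Mathlib.RingTheory.TensorProduct.Maps

/-!
Strict henselizations of finite local algebras.
-/

set_option autoImplicit false

noncomputable section

open IsLocalRing
open scoped TensorProduct

namespace Groth.Agent.HensPoint.StrictTensor

universe u

attribute [local instance] Algebra.TensorProduct.rightAlgebra

variable {A B S : Type u} [CommRing A] [IsLocalRing A] [CommRing B] [IsLocalRing B] [Algebra A B]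
  [Module.Finite A B] [CommRing S] [IsLocalRing S] [Algebra A S] [IsLocalHom (algebraMap A S)]
  [hS : Hensel.IsStrictHenselization A S]

omit [IsLocalRing A] [IsLocalRing B] [IsLocalRing S] [IsLocalHom (algebraMap A S)] hS in
theorem finite_right : Module.Finite S (B ⊗[A] S) := by
  let c : S ⊗[A] B →ₐ[S] B ⊗[A] S :=
    { toRingHom := (Algebra.TensorProduct.comm A S B).toAlgHom.toRingHom
      commutes' := fun s => by
        show Algebra.TensorProduct.comm A S B (s ⊗ₜ 1) = _
        rw [Algebra.TensorProduct.comm_tmul]
        rfl }
  exact Module.Finite.of_surjective c.toLinearMap (Algebra.TensorProduct.comm A S B).surjective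

theorem exists_strict : ∃ (q : Ideal (B ⊗[A] S)) (_ : q.IsMaximal)
    (_ : IsLocalHom (algebraMap B (Localization.AtPrime q))),
    Hensel.IsStrictHenselization B (Localization.AtPrime q) := by
  classical
  have hh := hS.henselian
  have := hS.isSepClosure
  have hsc : IsSepClosed (ResidueField S) := hS.isSepClosure.1
  have hfin : Module.Finite S (B ⊗[A] S) := finite_right
  have : Nontrivial (B ⊗[A] S) := by
    let p : B ⊗[A] S →ₐ[A] B ⊗[A] S := AlgHom.id A _
    have := Strict.faithfullyFlat (R := A) (S := S)
    exact (inferInstance : Nontrivial (B ⊗[A] S))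
  obtain ⟨q, hq⟩ := Ideal.exists_maximal (B ⊗[A] S)
  have : IsLocalHom (algebraMap A B) := HensPair.Integral.isLocalHom
  let D := Localization.AtPrime q
  -- the maximal ideals of both factors
  have hqS : q.comap (algebraMap S (B ⊗[A] S)) = maximalIdeal S :=
    eq_maximalIdeal (Ideal.isMaximal_comap_of_isIntegral_of_isMaximal q)
  have hqB : q.comap (algebraMap B (B ⊗[A] S)) = maximalIdeal B := by
    have hA : (q.comap (algebraMap B (B ⊗[A] S))).comap (algebraMap A B) = maximalIdeal A := by
      rw [Ideal.comap_comap, ← IsScalarTower.algebraMap_eq]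
      have : algebraMap A (B ⊗[A] S) = (algebraMap S (B ⊗[A] S)).comp (algebraMap A S) :=
        RingHom.ext fun a => Algebra.TensorProduct.tmul_one_eq_one_tmul a
      rw [this, ← Ideal.comap_comap, hqS, maximalIdeal_comap]
    exact eq_maximalIdeal (Ideal.isMaximal_of_isIntegral_of_isMaximal_comap _ (hA ▸ maximalIdeal.isMaximal A))
  -- the localization is a quotient
  have hsurj : Function.Surjective (algebraMap (B ⊗[A] S) D) := by
    obtain ⟨_, e, hc, he⟩ := Hensel.Decomp.exists_finite_decomposition (R := S) (S := B ⊗[A] S)
    intro z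
    obtain ⟨a, s, rfl⟩ := IsLocalization.exists_mk'_eq q.primeCompl z
    let Q : MaximalSpectrum (B ⊗[A] S) := ⟨q, hq⟩
    obtain ⟨hid, hone⟩ : IsIdempotentElem (e Q) ∧ algebraMap (B ⊗[A] S) D (e Q) = 1 := by
      have hid : IsIdempotentElem (e Q) := hc.idem Q
      refine ⟨hid, ?_⟩
      have hu : IsUnit (algebraMap (B ⊗[A] S) D (e Q)) :=
        IsLocalization.map_units D (⟨e Q, (he Q Q).mpr rfl⟩ : q.primeCompl)
      exact hu.mul_left_cancel (by rw [← map_mul, hid.eq, mul_one])
    have hu : IsUnit ((s : B ⊗[A] S) * e Q + (1 - e Q)) := by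
      by_contra hnu
      obtain ⟨N, hN, hmem⟩ := exists_max_ideal_of_mem_nonunits hnu
      by_cases hQN : e Q ∈ N
      · refine hN.ne_top ((Ideal.eq_top_iff_one _).mpr ?_)
        have h1 := add_mem (sub_mem hmem (N.mul_mem_left s hQN)) hQN
        ring_nf at h1
        exact h1
      · have hNq : Q = ⟨N, hN⟩ := (he Q ⟨N, hN⟩).mp hQN
        have hNq' : q = N := congrArg MaximalSpectrum.asIdeal hNq
        rw [← hNq'] at hmem hQN
        have h1 : 1 - e Q ∈ q := (hq.isPrime.mem_or_mem (show e Q * (1 - e Q) ∈ q by
          rw [mul_sub, mul_one, hid.eq, sub_self]; exact zero_mem _)).resolve_left hQN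
        have h2 : (s : B ⊗[A] S) * e Q ∈ q := by simpa using sub_mem hmem h1
        exact s.2 ((hq.isPrime.mem_or_mem h2).resolve_right hQN)
    obtain ⟨v, hv⟩ := hu.exists_right_inv
    refine ⟨a * v, ?_⟩
    rw [eq_comm, IsLocalization.mk'_eq_iff_eq_mul]
    have h3 := congrArg (algebraMap (B ⊗[A] S) D) hv
    simp only [map_add, map_sub, map_mul, map_one, hone, mul_one, sub_self, add_zero] at h3
    rw [map_mul]
    linear_combination -(algebraMap (B ⊗[A] S) D a) * h3
  let fB : B →+* D := algebraMap B D
  let fS : S →+* D := (algebraMap (B ⊗[A] S) D).comp (algebraMap S (B ⊗[A] S))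
  have : IsScalarTower S (B ⊗[A] S) D := inferInstance
  have : Module.Finite S D :=
    Module.Finite.of_surjective (IsScalarTower.toAlgHom S (B ⊗[A] S) D).toLinearMap hsurj
  have hD : HenselianLocalRing D := HensPair.Integral.henselianLocalRing (A := S)
  have hlS : IsLocalHom (algebraMap S D) := HensPair.Integral.isLocalHom
  have hDsc : IsSepClosed (ResidueField D) := (HensPair.Integral.residue_facts (A := S) (B := D)).1
  have hlB : IsLocalHom (algebraMap B D) := by
    refine ((local_hom_TFAE (algebraMap B D)).out 0 4).mpr ?_
    rw [IsScalarTower.algebraMap_eq B (B ⊗[A] S) D, ← Ideal.comap_comap,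
      show (maximalIdeal D).comap (algebraMap (B ⊗[A] S) D) = q from IsLocalization.AtPrime.comap_maximalIdeal D q, hqB]
  have hAD : ∀ a : A, fB (algebraMap A B a) = fS (algebraMap A S a) := fun a => by
    show algebraMap B D (algebraMap A B a) = algebraMap (B ⊗[A] S) D _
    rw [IsScalarTower.algebraMap_apply B (B ⊗[A] S) D]
    exact congrArg _ (Algebra.TensorProduct.tmul_one_eq_one_tmul a)
  refine ⟨q, hq, hlB, ⟨hD, ⟨hDsc, ⟨fun z => ?_⟩⟩, fun T _ _ f hf τ hτ => ?_⟩⟩
  · -- separability of the residue extension
    rw [← mem_separableClosure_iff]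
    obtain ⟨z, rfl⟩ := residue_surjective z
    obtain ⟨w, rfl⟩ := hsurj z
    induction w using TensorProduct.induction_on with
    | zero => simp [zero_mem]
    | add x y hx hy => rw [map_add, map_add]; exact add_mem hx hy
    | tmul b s =>
      have h1 : (b ⊗ₜ[A] s : B ⊗[A] S) = algebraMap B (B ⊗[A] S) b * algebraMap S (B ⊗[A] S) s := by
        show _ = (b ⊗ₜ[A] (1 : S)) * ((1 : B) ⊗ₜ[A] s)
        simp
      rw [h1, map_mul, map_mul, ← IsScalarTower.algebraMap_apply B (B ⊗[A] S) D]
      refine mul_mem ?_ ?_
      · rw [← ResidueField.algebraMap_residue]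
        exact (separableClosure (ResidueField B) (ResidueField D)).algebraMap_mem (residue B b)
      · let : Algebra (ResidueField A) (ResidueField D) :=
          ((algebraMap (ResidueField B) (ResidueField D)).comp
            (algebraMap (ResidueField A) (ResidueField B))).toAlgebra
        have : IsScalarTower (ResidueField A) (ResidueField B) (ResidueField D) :=
          IsScalarTower.of_algebraMap_eq' rfl
        let ψ : ResidueField S →ₐ[ResidueField A] ResidueField D :=
          { toRingHom := ResidueField.map (algebraMap S D)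
            commutes' := fun x => by
              obtain ⟨a, rfl⟩ := residue_surjective x
              show ResidueField.map (algebraMap S D) (ResidueField.map (algebraMap A S) (residue A a)) =
                ResidueField.map (algebraMap B D) (ResidueField.map (algebraMap A B) (residue A a))
              simp only [ResidueField.map_residue]
              exact congrArg (residue D) (hAD a).symm }
        have h2 : IsSeparable (ResidueField A) (ψ (residue S s)) :=
          (Algebra.IsSeparable.isSeparable (ResidueField A) (residue S s)).map ψ ψ.toRingHom.injective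
        have h3 : residue D (algebraMap (B ⊗[A] S) D (algebraMap S (B ⊗[A] S) s)) = ψ (residue S s) :=
          rfl
        rw [mem_separableClosure_iff, h3]
        exact IsSeparable.tower_top _ h2
  · -- the universal property
    let fA : A →+* T := f.comp (algebraMap A B)
    have : IsLocalHom fA := RingHom.isLocalHom_comp _ _
    have hτS : (τ.comp (ResidueField.map (algebraMap S D))).comp (ResidueField.map (algebraMap A S)) =
        ResidueField.map fA := RingHom.ext fun x => by
      obtain ⟨a, rfl⟩ := residue_surjective x
      simp only [RingHom.comp_apply, ResidueField.map_residue]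
      have := RingHom.congr_fun hτ (residue B (algebraMap A B a))
      simp only [RingHom.comp_apply, ResidueField.map_residue] at this
      refine Eq.trans ?_ this
      exact congrArg (fun t => τ (residue D t)) (hAD a).symm
    obtain ⟨gS, ⟨hgS, hgSτ⟩, huS⟩ := hS.universal T fA (τ.comp (ResidueField.map (algebraMap S D))) hτS
    let : Algebra B T := f.toAlgebra
    let : Algebra A T := fA.toAlgebra
    have : IsScalarTower A B T := IsScalarTower.of_algebraMap_eq' rfl
    let gA : S →ₐ[A] T := { toRingHom := gS, commutes' := fun a => RingHom.congr_fun hgS a }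
    let g₀ : B ⊗[A] S →ₐ[B] T :=
      Algebra.TensorProduct.lift (Algebra.ofId B T) gA fun _ _ => Commute.all _ _
    have hres : ∀ w : B ⊗[A] S, residue T (g₀ w) = τ (residue D (algebraMap (B ⊗[A] S) D w)) := by
      intro w
      induction w using TensorProduct.induction_on with
      | zero => simp
      | add x y hx hy => simp [hx, hy]
      | tmul b s =>
        have h1 : (b ⊗ₜ[A] s : B ⊗[A] S) = algebraMap B (B ⊗[A] S) b * algebraMap S (B ⊗[A] S) s := by
          show _ = (b ⊗ₜ[A] (1 : S)) * ((1 : B) ⊗ₜ[A] s)
          simp
        rw [Algebra.TensorProduct.lift_tmul, h1, map_mul, map_mul, map_mul, map_mul,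
          ← IsScalarTower.algebraMap_apply B (B ⊗[A] S) D]
        congr 1
        · have := RingHom.congr_fun hτ (residue B b)
          simp only [RingHom.comp_apply, ResidueField.map_residue] at this
          exact this.symm
        · exact hgSτ s
    have hu : ∀ w : q.primeCompl, IsUnit (g₀ w) := fun w => by
      by_contra h
      have h1 : residue T (g₀ w) = 0 := (residue_eq_zero_iff _).mpr h
      rw [hres, map_eq_zero] at h1
      exact ((residue_eq_zero_iff _).mp h1) (IsLocalization.map_units D w)
    let g : D →+* T := IsLocalization.lift (M := q.primeCompl) (g := g₀.toRingHom) hu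
    have hg : ∀ w, g (algebraMap (B ⊗[A] S) D w) = g₀ w := fun w => IsLocalization.lift_eq _ w
    refine ⟨g, ⟨RingHom.ext fun b => ?_, fun x => ?_⟩, fun g' hg' => ?_⟩
    · rw [RingHom.comp_apply, IsScalarTower.algebraMap_apply B (B ⊗[A] S) D, hg, g₀.commutes]
      rfl
    · obtain ⟨w, rfl⟩ := hsurj x
      rw [hg, hres]
    · refine RingHom.ext fun x => ?_
      obtain ⟨w, rfl⟩ := hsurj x
      rw [hg]
      have hgs : g'.comp fS = gS := huS _ ⟨RingHom.ext fun a => by
          rw [RingHom.comp_apply, RingHom.comp_apply, ← hAD]
          exact RingHom.congr_fun hg'.1 (algebraMap A B a), fun s => hg'.2 (fS s)⟩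
      induction w using TensorProduct.induction_on with
      | zero => simp
      | add x y hx hy => simp [hx, hy]
      | tmul b s =>
        have h1 : (b ⊗ₜ[A] s : B ⊗[A] S) = algebraMap B (B ⊗[A] S) b * algebraMap S (B ⊗[A] S) s := by
          show _ = (b ⊗ₜ[A] (1 : S)) * ((1 : B) ⊗ₜ[A] s)
          simp
        rw [Algebra.TensorProduct.lift_tmul, h1, map_mul, map_mul,
          ← IsScalarTower.algebraMap_apply B (B ⊗[A] S) D]
        congr 1
        · exact RingHom.congr_fun hg'.1 b
        · exact RingHom.congr_fun hgs s

end Groth.Agent.HensPoint.StrictTensor
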