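import Groth.Agent.HensPoint.EtColim
import Mathlib.RingTheory.Etale.Basic
import Mathlib.RingTheory.Smooth.NoetherianDescent
import Mathlib.RingTheory.TensorProduct.MvPolynomial

/-!
Composition and cancellation for colimits of etale algebras.
-/

set_option autoImplicit false

noncomputable section

open MvPolynomial
open scoped TensorProduct

namespace Groth.Agent.HensPoint.Trans

universe u

variable {A B C : Type u} [CommRing A] [CommRing B] [Algebra A B] [CommRing C]

/-- finitely many polynomials over `B` come from one stage over a given stage -/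
theorem exists_stage_polys (hB : EtColim.IsEtColim A B) {A₁ : Type u} [CommRing A₁] [Algebra A A₁]
    [Algebra.Etale A A₁] (φ₁ : A₁ →ₐ[A] B) {κ : Type*} [Finite κ] {σ : Type*}
    (p : κ → MvPolynomial σ B) :
    ∃ (A₂ : Type u) (_ : CommRing A₂) (_ : Algebra A A₂) (_ : Algebra.Etale A A₂) (φ₂ : A₂ →ₐ[A] B)
      (j : A₁ →ₐ[A] A₂) (q : κ → MvPolynomial σ A₂),
      φ₂.comp j = φ₁ ∧ ∀ k, MvPolynomial.map φ₂.toRingHom (q k) = p k := by
  classical
  let : Fintype κ := Fintype.ofFinite κ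
  let S : Finset B := Finset.univ.biUnion fun k => (p k).support.image fun m => coeff m (p k)
  obtain ⟨Ab, _, _, _, φb, hr⟩ := hB.rep fun b : S => b.1
  have : Algebra.Etale A (A₁ ⊗[A] Ab) := Algebra.Etale.comp A A₁ _
  let φ₂ : A₁ ⊗[A] Ab →ₐ[A] B := Algebra.TensorProduct.lift φ₁ φb fun _ _ => Commute.all _ _
  have hq : ∀ k, ∃ q, MvPolynomial.map φ₂.toRingHom q = p k := fun k => by
    refine RingHom.mem_range.mp (MvPolynomial.mem_range_map_iff_coeffs_subset.mpr fun b hb => ?_)
    obtain ⟨m, hm, rfl⟩ := MvPolynomial.mem_coeffs_iff.mp hb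
    obtain ⟨r, hr⟩ := hr ⟨coeff m (p k), Finset.mem_biUnion.mpr
      ⟨k, Finset.mem_univ k, Finset.mem_image.mpr ⟨m, hm, rfl⟩⟩⟩
    exact ⟨(1 : A₁) ⊗ₜ r, by simp [φ₂, hr]⟩
  choose q hq using hq
  exact ⟨_, inferInstance, inferInstance, inferInstance, φ₂, Algebra.TensorProduct.includeLeft, q,
    AlgHom.ext fun x => by simp [φ₂], hq⟩

/-- membership in the ideal generated by finitely many polynomials holds at a finite stage -/
theorem exists_stage_mem_span (hB : EtColim.IsEtColim A B) {A₁ : Type u} [CommRing A₁] [Algebra A A₁]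
    [Algebra.Etale A A₁] (φ₁ : A₁ →ₐ[A] B) {σ : Type*} {m : ℕ} (g : Fin m → MvPolynomial σ A₁)
    {κ : Type*} [Finite κ] (T : κ → MvPolynomial σ A₁)
    (hT : ∀ k, MvPolynomial.map φ₁.toRingHom (T k) ∈
      Ideal.span (Set.range fun l => MvPolynomial.map φ₁.toRingHom (g l))) :
    ∃ (A₂ : Type u) (_ : CommRing A₂) (_ : Algebra A A₂) (_ : Algebra.Etale A A₂) (φ₂ : A₂ →ₐ[A] B)
      (j : A₁ →ₐ[A] A₂), φ₂.comp j = φ₁ ∧ ∀ k, MvPolynomial.map j.toRingHom (T k) ∈
        Ideal.span (Set.range fun l => MvPolynomial.map j.toRingHom (g l)) := by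
  classical
  choose h hh using fun k => Ideal.mem_span_range_iff_exists_fun.mp (hT k)
  obtain ⟨A₂, _, _, _, φ₂, j, q, hj, hq⟩ := exists_stage_polys hB φ₁ fun kl : κ × Fin m => h kl.1 kl.2
  let : Fintype κ := Fintype.ofFinite κ
  let D : κ → MvPolynomial σ A₂ := fun k =>
    MvPolynomial.map j.toRingHom (T k) - ∑ l, q (k, l) * MvPolynomial.map j.toRingHom (g l)
  have hmap : ∀ p : MvPolynomial σ A₁,
      MvPolynomial.map φ₂.toRingHom (MvPolynomial.map j.toRingHom p) = MvPolynomial.map φ₁.toRingHom p := by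
    intro p
    rw [MvPolynomial.map_map, ← hj]
    rfl
  have hD : ∀ k, MvPolynomial.map φ₂.toRingHom (D k) = 0 := fun k => by
    simp only [D, map_sub, map_sum, map_mul, hmap, hq, hh, sub_self]
  let S : Finset A₂ := Finset.univ.biUnion fun k => (D k).support.image fun i => coeff i (D k)
  obtain ⟨A₃, _, _, _, φ₃, ψ, hψ, hz⟩ := hB.kill φ₂ (fun a : S => a.1) fun a => by
    obtain ⟨k, -, hk⟩ := Finset.mem_biUnion.mp a.2
    obtain ⟨i, -, hi⟩ := Finset.mem_image.mp hk
    rw [← hi]
    have := congrArg (coeff i) (hD k)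
    rw [coeff_map, coeff_zero] at this
    exact this
  refine ⟨A₃, inferInstance, inferInstance, inferInstance, φ₃, ψ.comp j,
    by rw [← AlgHom.comp_assoc, hψ, hj], fun k => ?_⟩
  have h0 : MvPolynomial.map ψ.toRingHom (D k) = 0 := by
    ext i
    rw [coeff_map, coeff_zero]
    by_cases hi : i ∈ (D k).support
    · exact hz ⟨_, Finset.mem_biUnion.mpr ⟨k, Finset.mem_univ k, Finset.mem_image.mpr ⟨i, hi, rfl⟩⟩⟩
    · rw [MvPolynomial.notMem_support_iff.mp hi, map_zero]
  have hcomp : ∀ p : MvPolynomial σ A₁, MvPolynomial.map (ψ.comp j).toRingHom p =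
      MvPolynomial.map ψ.toRingHom (MvPolynomial.map j.toRingHom p) := fun p => by
    rw [MvPolynomial.map_map]; rfl
  simp only [D, map_sub, map_sum, map_mul, sub_eq_zero] at h0
  rw [hcomp, h0]
  exact Ideal.sum_mem _ fun l _ => Ideal.mul_mem_left _ _ (Ideal.subset_span ⟨l, hcomp (g l)⟩)

/-- etale algebras over a colimit descend to a stage -/
theorem exists_descend (hB : EtColim.IsEtColim A B) (B' : Type u) [CommRing B'] [Algebra B B']
    [Algebra.Etale B B'] :
    ∃ (A₁ : Type u) (_ : CommRing A₁) (_ : Algebra A A₁) (_ : Algebra.Etale A A₁) (φ₁ : A₁ →ₐ[A] B)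
      (B₁ : Type u) (_ : CommRing B₁) (_ : Algebra A₁ B₁) (_ : Algebra.Etale A₁ B₁)
      (n m : ℕ) (x : Fin n → B₁) (g : Fin m → MvPolynomial (Fin n) A₁)
      (π : MvPolynomial (Fin n) B →ₐ[B] B'),
      Function.Surjective π ∧ (∀ l, MvPolynomial.aeval x (g l) = 0) ∧
      RingHom.ker π.toRingHom = Ideal.span (Set.range fun l => MvPolynomial.map φ₁.toRingHom (g l)) ∧
      ∃ γ : B₁ →+* B', (∀ i, γ (x i) = π (X i)) ∧
        γ.comp (algebraMap A₁ B₁) = (algebraMap B B').comp φ₁.toRingHom := by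
  classical
  obtain ⟨A₀, B₀, _, _, hA₀, _, ⟨e⟩⟩ := Algebra.Etale.exists_subalgebra_fg ℤ B B'
  have : Algebra.FiniteType ℤ A₀ := (Subalgebra.fg_iff_finiteType A₀).mp hA₀
  have : Algebra.FinitePresentation ℤ A₀ := Algebra.FinitePresentation.of_finiteType.mp ‹_›
  obtain ⟨r, ρ, hρ, hρker⟩ := (inferInstance : Algebra.FinitePresentation ℤ A₀).out
  obtain ⟨G, hG⟩ := hρker
  obtain ⟨Ay, _, _, _, φy, hy⟩ := hB.rep fun i => (ρ (X i) : B)
  choose y hy using hy
  have hev : ∀ p : MvPolynomial (Fin r) ℤ, φy (MvPolynomial.aeval y p) = (ρ p : B) := fun p => by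
    have : (φy.toRingHom.toIntAlgHom).comp (MvPolynomial.aeval y) = A₀.val.comp ρ :=
      MvPolynomial.algHom_ext fun i => by simp [hy]
    exact DFunLike.congr_fun this p
  obtain ⟨A₁, _, _, _, φ₁, ψ, hψ, hz⟩ := hB.kill φy (fun p : G => MvPolynomial.aeval y p.1) fun p => by
    rw [hev, show ρ p.1 = 0 from (hG ▸ Ideal.subset_span p.2 : p.1 ∈ RingHom.ker ρ.toRingHom),
      ZeroMemClass.coe_zero]
  have hlam : ∀ p ∈ RingHom.ker ρ.toRingHom,
      (ψ.toRingHom.toIntAlgHom.comp (MvPolynomial.aeval y)) p = 0 := fun p hp => by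
    refine (Ideal.span_le.mpr ?_ : Ideal.span (G : Set _) ≤
      RingHom.ker (ψ.toRingHom.toIntAlgHom.comp (MvPolynomial.aeval y))) (hG ▸ hp : p ∈ Ideal.span (G : Set _))
    exact fun p hp => hz ⟨p, hp⟩
  let lam : A₀ →ₐ[ℤ] A₁ := (Ideal.Quotient.liftₐ (RingHom.ker ρ) _ hlam).comp
    (Ideal.quotientKerAlgEquivOfSurjective hρ).symm.toAlgHom
  have hlamφ : ∀ a, φ₁ (lam a) = (a : B) := fun a => by
    obtain ⟨p, rfl⟩ := hρ a
    have hl : lam (ρ p) = ψ (MvPolynomial.aeval y p) := by
      have key : (Ideal.quotientKerAlgEquivOfSurjective hρ).symm (ρ p) = Ideal.Quotient.mk _ p :=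
        (Ideal.quotientKerAlgEquivOfSurjective hρ).injective (by simp)
      simp only [lam, AlgHom.comp_apply]
      exact (congrArg _ key).trans rfl
    rw [hl, ← AlgHom.comp_apply, hψ, hev]
  let : Algebra A₀ A₁ := lam.toRingHom.toAlgebra
  let : Algebra A₁ B := φ₁.toRingHom.toAlgebra
  have : IsScalarTower A₀ A₁ B := IsScalarTower.of_algebraMap_eq fun a => (hlamφ a).symm
  let B₁ := A₁ ⊗[A₀] B₀
  obtain ⟨n, π₁, hπ₁, hker₁⟩ := (inferInstance : Algebra.FinitePresentation A₁ B₁).out
  obtain ⟨m, g, hg⟩ := Submodule.fg_iff_exists_fin_generating_family.mp hker₁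
  have hgI : Ideal.span (Set.range g) = RingHom.ker π₁.toRingHom := hg
  have hg0 : ∀ l, π₁ (g l) = 0 := fun l =>
    RingHom.mem_ker.mp (hg ▸ Submodule.subset_span ⟨l, rfl⟩ : g l ∈ RingHom.ker π₁.toRingHom)
  let e' : B ⊗[A₁] B₁ ≃ₐ[B] B' := (Algebra.TensorProduct.cancelBaseChange A₀ A₁ B B B₀).trans e.symm
  let π : MvPolynomial (Fin n) B →ₐ[B] B' :=
    e'.toAlgHom.comp (MvPolynomial.aeval fun i => (1 : B) ⊗ₜ[A₁] π₁ (X i))
  have hπ : ∀ p : MvPolynomial (Fin n) A₁,
      π (MvPolynomial.map φ₁.toRingHom p) = e' ((1 : B) ⊗ₜ π₁ p) := fun p => by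
    show e' _ = _
    congr 1
    show MvPolynomial.aeval _ (MvPolynomial.map (algebraMap A₁ B) p) = _
    rw [MvPolynomial.aeval_map_algebraMap]
    exact DFunLike.congr_fun (MvPolynomial.algHom_ext (f := MvPolynomial.aeval _)
      (g := (Algebra.TensorProduct.includeRight : B₁ →ₐ[A₁] B ⊗[A₁] B₁).comp π₁) fun i => by simp) p
  let Q := MvPolynomial (Fin n) B ⧸ Ideal.span (Set.range fun l => MvPolynomial.map φ₁.toRingHom (g l))
  let θ₀ : MvPolynomial (Fin n) A₁ →ₐ[A₁] Q :=
    (IsScalarTower.toAlgHom A₁ (MvPolynomial (Fin n) B) Q).comp (MvPolynomial.aeval X)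
  have hθ₀ : ∀ p, θ₀ p = Ideal.Quotient.mk _ (MvPolynomial.map φ₁.toRingHom p) := fun p => by
    show Ideal.Quotient.mk _ (MvPolynomial.aeval X p) = _
    congr 1
    exact (DFunLike.congr_fun (MvPolynomial.algHom_ext (f := MvPolynomial.aeval X)
      (g := MvPolynomial.mapAlgHom (Algebra.ofId A₁ B)) fun i => by simp) p)
  let θ : B₁ →ₐ[A₁] Q := (Ideal.Quotient.liftₐ (RingHom.ker π₁) θ₀ fun p hp => by
      refine (Ideal.span_le.mpr ?_ : Ideal.span (Set.range g) ≤ RingHom.ker θ₀.toRingHom) (hgI.ge hp)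
      rintro _ ⟨l, rfl⟩
      show θ₀ (g l) = 0
      rw [hθ₀, Ideal.Quotient.eq_zero_iff_mem]
      exact Ideal.subset_span ⟨l, rfl⟩).comp (Ideal.quotientKerAlgEquivOfSurjective hπ₁).symm.toAlgHom
  have hθ : ∀ p, θ (π₁ p) = θ₀ p := fun p => by
    have key : (Ideal.quotientKerAlgEquivOfSurjective hπ₁).symm (π₁ p) = Ideal.Quotient.mk _ p :=
      (Ideal.quotientKerAlgEquivOfSurjective hπ₁).injective (by simp)
    simp only [θ, AlgHom.comp_apply]
    exact (congrArg _ key).trans rfl
  let inv : B' →ₐ[B] Q :=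
    (Algebra.TensorProduct.lift (Algebra.ofId B Q) θ fun _ _ => Commute.all _ _).comp e'.symm.toAlgHom
  have hinv : inv.comp π = Ideal.Quotient.mkₐ B _ := MvPolynomial.algHom_ext fun i => by
    have h1 : π (X i) = e' ((1 : B) ⊗ₜ π₁ (X i)) := by simp [π]
    show Algebra.TensorProduct.lift (Algebra.ofId B Q) θ (fun _ _ => Commute.all _ _) (e'.symm (π (X i))) = _
    rw [h1, e'.symm_apply_apply, Algebra.TensorProduct.lift_tmul, map_one, one_mul, hθ, hθ₀,
      MvPolynomial.map_X]
    rfl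
  refine ⟨A₁, inferInstance, inferInstance, inferInstance, φ₁, B₁, inferInstance, inferInstance,
    inferInstance, n, m, fun i => π₁ (X i), g, π, ?_, fun l => ?_, ?_,
    e'.toAlgHom.toRingHom.comp
      (Algebra.TensorProduct.includeRight : B₁ →ₐ[A₁] B ⊗[A₁] B₁).toRingHom,
    fun i => by simp [π], RingHom.ext fun a => ?_⟩
  · refine e'.surjective.comp fun z => ?_
    induction z with
    | zero => exact ⟨0, map_zero _⟩
    | add a b ha hb =>
      obtain ⟨p, rfl⟩ := ha
      obtain ⟨q, rfl⟩ := hb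
      exact ⟨p + q, map_add _ _ _⟩
    | tmul b c =>
      obtain ⟨p, rfl⟩ := hπ₁ c
      refine ⟨C b * MvPolynomial.map φ₁.toRingHom p, e'.injective ?_⟩
      show π (C b * MvPolynomial.map φ₁.toRingHom p) = _
      rw [map_mul, hπ, ← algebraMap_eq, AlgHom.commutes, ← e'.commutes b, ← map_mul,
        Algebra.TensorProduct.algebraMap_apply, Algebra.TensorProduct.tmul_mul_tmul, one_mul, mul_one]
      rfl
  · show MvPolynomial.aeval (⇑π₁ ∘ X) (g l) = 0
    rw [← MvPolynomial.aeval_unique π₁]; exact hg0 l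
  · refine le_antisymm (fun p hp => ?_) (Ideal.span_le.mpr ?_)
    · rw [← Ideal.Quotient.eq_zero_iff_mem, ← Ideal.Quotient.mkₐ_eq_mk B, ← hinv]
      show inv (π p) = 0
      rw [show π p = 0 from hp, map_zero]
    · rintro _ ⟨l, rfl⟩
      show π _ = 0
      rw [hπ, hg0, TensorProduct.tmul_zero, map_zero]
  · show e' ((1 : B) ⊗ₜ[A₁] algebraMap A₁ B₁ a) = algebraMap B B' (algebraMap A₁ B a)
    rw [← e'.commutes, Algebra.algebraMap_eq_smul_one, TensorProduct.tmul_smul,
      TensorProduct.smul_tmul', Algebra.TensorProduct.algebraMap_apply,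
      Algebra.algebraMap_eq_smul_one (A := B) a]
    rfl

theorem trans [Algebra B C] [Algebra A C] [IsScalarTower A B C] (hB : EtColim.IsEtColim A B)
    (hC : EtColim.IsEtColim B C) : EtColim.IsEtColim A C := by
  classical
  have factor : ∀ {r s : ℕ} (z : Fin r → C) (R : Fin s → MvPolynomial (Fin r) A),
      (∀ i, MvPolynomial.aeval z (R i) = 0) →
      ∃ (A' : Type u) (_ : CommRing A') (_ : Algebra A A') (_ : Algebra.Etale A A') (χ : A' →ₐ[A] C)
        (w : Fin r → A'), (∀ i, χ (w i) = z i) ∧ ∀ i, MvPolynomial.aeval w (R i) = 0 := by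
    intro r s z R hR
    obtain ⟨B'₀, _, _, _, χ₀, hz⟩ := hC.rep z
    choose z' hz' using hz
    let : Algebra A B'₀ := ((algebraMap B B'₀).comp (algebraMap A B)).toAlgebra
    have : IsScalarTower A B B'₀ := IsScalarTower.of_algebraMap_eq' rfl
    obtain ⟨B', _, _, _, χ', ψ', hψ', hkill⟩ := hC.kill χ₀ (fun i => MvPolynomial.aeval z' (R i))
      fun i => by
        have h : (χ₀.restrictScalars A).comp (MvPolynomial.aeval z') = MvPolynomial.aeval z :=
          MvPolynomial.algHom_ext fun j => by simp [hz']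
        exact (DFunLike.congr_fun h (R i)).trans (hR i)
    let : Algebra A B' := ((algebraMap B B').comp (algebraMap A B)).toAlgebra
    have : IsScalarTower A B B' := IsScalarTower.of_algebraMap_eq' rfl
    obtain ⟨A₁, _, _, _, φ₁, B₁, _, _, _, n, m, x, g, π, hπ, hgx, hker, γ, hγx, hγa⟩ := exists_descend hB B'
    choose P hP using fun j => hπ (ψ' (z' j))
    obtain ⟨A₂, _, _, _, φ₂, j₂, Q, hj₂, hQ⟩ := exists_stage_polys hB φ₁ P
    let ev : MvPolynomial (Fin r) A →ₐ[A] MvPolynomial (Fin n) A₂ := MvPolynomial.aeval Q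
    have hmem : ∀ i, MvPolynomial.map φ₂.toRingHom (ev (R i)) ∈
        Ideal.span (Set.range fun l => MvPolynomial.map φ₂.toRingHom (MvPolynomial.map j₂.toRingHom (g l))) := by
      intro i
      have hφ : (fun l => MvPolynomial.map φ₂.toRingHom (MvPolynomial.map j₂.toRingHom (g l))) =
          fun l => MvPolynomial.map φ₁.toRingHom (g l) := funext fun l => by
        rw [MvPolynomial.map_map, ← hj₂]; rfl
      rw [hφ, ← hker, RingHom.mem_ker]
      show (π.restrictScalars A) ((MvPolynomial.mapAlgHom φ₂) (ev (R i))) = 0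
      have h : (π.restrictScalars A).comp ((MvPolynomial.mapAlgHom φ₂).comp ev) =
          (ψ'.restrictScalars A).comp (MvPolynomial.aeval z') :=
        MvPolynomial.algHom_ext fun k => by
          simp only [ev, AlgHom.comp_apply, MvPolynomial.aeval_X, AlgHom.restrictScalars_apply, ← hP]
          exact congrArg π (hQ k)
      exact (DFunLike.congr_fun h (R i)).trans (hkill i)
    obtain ⟨A₃, _, _, _, φ₃, j₃, hj₃, hspan⟩ :=
      exists_stage_mem_span hB φ₂ (fun l => MvPolynomial.map j₂.toRingHom (g l)) (fun i => ev (R i)) hmem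
    let : Algebra A₁ A₃ := (j₃.comp j₂).toRingHom.toAlgebra
    have : IsScalarTower A A₁ A₃ := IsScalarTower.of_algebraMap_eq fun a => ((j₃.comp j₂).commutes a).symm
    let A' := A₃ ⊗[A₁] B₁
    have : Algebra.Etale A A' := Algebra.Etale.comp A A₃ A'
    let evQ : MvPolynomial (Fin n) A₃ →ₐ[A₃] A' := MvPolynomial.aeval fun i => (1 : A₃) ⊗ₜ x i
    have hevg : ∀ l, evQ (MvPolynomial.map j₃.toRingHom (MvPolynomial.map j₂.toRingHom (g l))) = 0 := fun l => by
      rw [MvPolynomial.map_map]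
      show MvPolynomial.aeval _ (MvPolynomial.map (algebraMap A₁ A₃) (g l)) = 0
      rw [MvPolynomial.aeval_map_algebraMap]
      have h := DFunLike.congr_fun (MvPolynomial.algHom_ext (f := MvPolynomial.aeval fun i => (1 : A₃) ⊗ₜ[A₁] x i)
        (g := (Algebra.TensorProduct.includeRight : B₁ →ₐ[A₁] A').comp (MvPolynomial.aeval x)) fun i => by simp) (g l)
      rw [h, AlgHom.comp_apply, hgx, map_zero]
    let : Algebra A₁ C := ((algebraMap B C).comp φ₁.toRingHom).toAlgebra
    let χA₃ : A₃ →ₐ[A₁] C :=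
      { toRingHom := (algebraMap B C).comp φ₃.toRingHom
        commutes' := fun a => congrArg (algebraMap B C)
          ((DFunLike.congr_fun hj₃ (j₂ a)).trans (DFunLike.congr_fun hj₂ a)) }
    let χB₁ : B₁ →ₐ[A₁] C :=
      { toRingHom := χ'.toRingHom.comp γ
        commutes' := fun a => (congrArg χ' (RingHom.congr_fun hγa a)).trans (χ'.commutes _) }
    let χ : A' →+* C := (Algebra.TensorProduct.lift χA₃ χB₁ fun _ _ => Commute.all _ _).toRingHom
    let χA : A' →ₐ[A] C :=
      { toRingHom := χ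
        commutes' := fun a => by
          show Algebra.TensorProduct.lift χA₃ χB₁ _ (algebraMap A A₃ a ⊗ₜ[A₁] (1 : B₁)) = _
          rw [Algebra.TensorProduct.lift_tmul, map_one, mul_one]
          show algebraMap B C (φ₃ (algebraMap A A₃ a)) = _
          rw [φ₃.commutes, ← IsScalarTower.algebraMap_apply] }
    let mapQ : MvPolynomial (Fin n) A₂ →ₐ[A] MvPolynomial (Fin n) A₃ := MvPolynomial.mapAlgHom j₃
    refine ⟨A', inferInstance, inferInstance, inferInstance, χA, fun k => evQ (mapQ (Q k)),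
      fun k => ?_, fun i => ?_⟩
    · have h : χ.comp (evQ.toRingHom.comp (MvPolynomial.map j₃.toRingHom)) =
          χ'.toRingHom.comp (π.toRingHom.comp (MvPolynomial.map φ₂.toRingHom)) := by
        refine MvPolynomial.ringHom_ext (fun a => ?_) fun i => ?_
        · simp only [evQ, RingHom.comp_apply, MvPolynomial.map_C, AlgHom.toRingHom_eq_coe, AlgHom.coe_toRingHom,
            MvPolynomial.aeval_C]
          rw [← MvPolynomial.algebraMap_eq (R := B), AlgHom.commutes, AlgHom.commutes]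
          show Algebra.TensorProduct.lift χA₃ χB₁ _ (j₃ a ⊗ₜ[A₁] (1 : B₁)) = _
          rw [Algebra.TensorProduct.lift_tmul, map_one, mul_one]
          exact congrArg (algebraMap B C) (DFunLike.congr_fun hj₃ a)
        · simp only [evQ, RingHom.comp_apply, MvPolynomial.map_X, AlgHom.toRingHom_eq_coe, AlgHom.coe_toRingHom,
            MvPolynomial.aeval_X]
          show Algebra.TensorProduct.lift χA₃ χB₁ _ ((1 : A₃) ⊗ₜ[A₁] x i) = _
          rw [Algebra.TensorProduct.lift_tmul, map_one, one_mul]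
          exact congrArg χ' (hγx i)
      refine (RingHom.congr_fun h (Q k)).trans ?_
      show χ' (π (MvPolynomial.map φ₂.toRingHom (Q k))) = _
      rw [hQ, hP, ← hz']
      exact DFunLike.congr_fun hψ' (z' k)
    · have h : MvPolynomial.aeval (fun k => evQ (mapQ (Q k))) =
          ((evQ.restrictScalars A).comp mapQ).comp ev :=
        MvPolynomial.algHom_ext fun k => by simp [ev]
      rw [h]
      show evQ (MvPolynomial.map j₃.toRingHom (ev (R i))) = 0
      refine (Ideal.span_le.mpr ?_ : _ ≤ RingHom.ker evQ.toRingHom) (hspan i)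
      rintro _ ⟨l, rfl⟩
      exact hevg l
  refine ⟨fun {n} x => ?_, fun {A'} _ _ _ φ {n} t ht => ?_⟩
  · obtain ⟨A', _, _, _, χ, w, hw, -⟩ := factor x (fun i : Fin 0 => i.elim0) (fun i => i.elim0)
    exact ⟨A', inferInstance, inferInstance, inferInstance, χ, fun k => ⟨w k, hw k⟩⟩
  · obtain ⟨r, π, hπ, hker⟩ := (inferInstance : Algebra.FinitePresentation A A').out
    obtain ⟨s, G, hG⟩ := Submodule.fg_iff_exists_fin_generating_family.mp hker
    choose t' ht' using fun k => hπ (t k)
    have hG0 : ∀ l, π (G l) = 0 := fun l =>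
      RingHom.mem_ker.mp (hG ▸ Submodule.subset_span ⟨l, rfl⟩ : G l ∈ RingHom.ker π.toRingHom)
    obtain ⟨A'', _, _, _, χ, w, hw, hR⟩ := factor (fun i => φ (π (X i)))
      (Fin.append G t') (fun i => by
        have h : MvPolynomial.aeval (fun i => φ (π (X i))) = φ.comp π :=
          MvPolynomial.algHom_ext fun i => by simp
        rw [h, AlgHom.comp_apply]
        refine Fin.addCases (fun l => ?_) (fun k => ?_) i
        · rw [Fin.append_left, hG0, map_zero]
        · rw [Fin.append_right, ht', ht])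
    let ψ₀ : MvPolynomial (Fin r) A ⧸ RingHom.ker π →ₐ[A] A'' :=
      Ideal.Quotient.liftₐ (RingHom.ker π) (MvPolynomial.aeval w) fun p hp => by
        refine (Ideal.span_le.mpr ?_ : Ideal.span (Set.range G) ≤
          RingHom.ker (MvPolynomial.aeval w).toRingHom) ((show Ideal.span (Set.range G) = RingHom.ker π.toRingHom from hG).ge hp)
        rintro _ ⟨l, rfl⟩
        have := hR (Fin.castAdd n l)
        rwa [Fin.append_left] at this
    let ψ : A' →ₐ[A] A'' := ψ₀.comp (Ideal.quotientKerAlgEquivOfSurjective hπ).symm.toAlgHom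
    have hψ : ∀ p, ψ (π p) = MvPolynomial.aeval w p := fun p => by
      have key : (Ideal.quotientKerAlgEquivOfSurjective hπ).symm (π p) = Ideal.Quotient.mk _ p :=
        (Ideal.quotientKerAlgEquivOfSurjective hπ).injective (by simp)
      simp only [ψ, AlgHom.comp_apply]
      exact (congrArg _ key).trans rfl
    refine ⟨A'', inferInstance, inferInstance, inferInstance, χ, ψ, ?_, fun k => ?_⟩
    · refine AlgHom.ext fun a => ?_
      obtain ⟨p, rfl⟩ := hπ a
      rw [AlgHom.comp_apply, hψ]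
      exact DFunLike.congr_fun (MvPolynomial.algHom_ext (f := χ.comp (MvPolynomial.aeval w))
        (g := φ.comp π) fun i => by simp [hw]) p
    · rw [← ht', hψ]
      have := hR (Fin.natAdd s k)
      rwa [Fin.append_right] at this

theorem cancel [Algebra B C] [Algebra A C] [IsScalarTower A B C] (hB : EtColim.IsEtColim A B)
    (hC : EtColim.IsEtColim A C) : EtColim.IsEtColim B C := by
  classical
  refine ⟨fun {n} x => ?_, fun {B'} _ _ _ φ {n} t ht => ?_⟩
  · obtain ⟨A', _, _, _, χ, hr⟩ := hC.rep x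
    choose r hr using hr
    exact ⟨B ⊗[A] A', inferInstance, inferInstance, inferInstance,
      Algebra.TensorProduct.lift (Algebra.ofId B C) χ fun _ _ => Commute.all _ _,
      fun k => ⟨(1 : B) ⊗ₜ r k, by simp [hr]⟩⟩
  · obtain ⟨m, π, hπ, hker⟩ := (inferInstance : Algebra.FinitePresentation B B').out
    obtain ⟨s, G, hG⟩ := Submodule.fg_iff_exists_fin_generating_family.mp hker
    choose t' ht' using fun k => hπ (t k)
    have hG0 : ∀ l, π (G l) = 0 := fun l =>
      RingHom.mem_ker.mp (hG ▸ Submodule.subset_span ⟨l, rfl⟩ : G l ∈ RingHom.ker π.toRingHom)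
    obtain ⟨A₀, _, _, _, φ₀, -⟩ := hB.rep fun e : Empty => e.elim
    obtain ⟨A₁, _, _, _, φ₁, -, Q, -, hQ⟩ := exists_stage_polys hB φ₀ (Fin.append G t')
    obtain ⟨A₂, _, _, _, φ₂, hr⟩ := hC.rep fun i => φ (π (X i))
    choose r hr using hr
    have : Algebra.Etale A (A₁ ⊗[A] A₂) := Algebra.Etale.comp A A₁ _
    let Φ : A₁ ⊗[A] A₂ →ₐ[A] C := Algebra.TensorProduct.lift
      ((IsScalarTower.toAlgHom A B C).comp φ₁) φ₂ fun _ _ => Commute.all _ _
    let ev₁ : MvPolynomial (Fin m) A₁ →+* A₁ ⊗[A] A₂ :=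
      MvPolynomial.eval₂Hom (Algebra.TensorProduct.includeLeftRingHom) fun i => (1 : A₁) ⊗ₜ r i
    have hΦev : ∀ p, Φ (ev₁ p) = φ (π (MvPolynomial.map φ₁.toRingHom p)) := fun p => by
      have : Φ.toRingHom.comp ev₁ = φ.toRingHom.comp (π.toRingHom.comp (MvPolynomial.map φ₁.toRingHom)) := by
        refine MvPolynomial.ringHom_ext (fun a => ?_) fun i => ?_
        · simp only [ev₁, Φ, RingHom.comp_apply, MvPolynomial.eval₂Hom_C, AlgHom.toRingHom_eq_coe,
            AlgHom.coe_toRingHom, MvPolynomial.map_C, Algebra.TensorProduct.includeLeftRingHom_apply,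
            Algebra.TensorProduct.lift_tmul, map_one, mul_one, AlgHom.comp_apply, IsScalarTower.coe_toAlgHom']
          rw [← MvPolynomial.algebraMap_eq (R := B), AlgHom.commutes, AlgHom.commutes]
        · simp [ev₁, Φ, hr]
      exact RingHom.congr_fun this p
    obtain ⟨A₄, _, _, _, χ₄, ψ₄, hψ₄, hz⟩ := hC.kill Φ (fun i => ev₁ (Q i)) fun i => by
      rw [hΦev, hQ]
      refine Fin.addCases (fun l => ?_) (fun k => ?_) i
      · rw [Fin.append_left, hG0, map_zero]
      · rw [Fin.append_right, ht', ht]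
    let j := ψ₄.comp (Algebra.TensorProduct.includeLeft : A₁ →ₐ[A] A₁ ⊗[A] A₂)
    let : Algebra A₁ A₄ := j.toRingHom.toAlgebra
    have : IsScalarTower A A₁ A₄ := IsScalarTower.of_algebraMap_eq fun a => (j.commutes a).symm
    have : Algebra.Etale A₁ A₄ := Algebra.Etale.of_restrictScalars (R := A) (A := A₁) (B := A₄)
    let : Algebra A₁ B := φ₁.toRingHom.toAlgebra
    let B'' := B ⊗[A₁] A₄
    let : Algebra A₁ C := ((algebraMap B C).comp φ₁.toRingHom).toAlgebra
    have : IsScalarTower A₁ B C := IsScalarTower.of_algebraMap_eq' rfl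
    let χ₄' : A₄ →ₐ[A₁] C :=
      { toRingHom := χ₄.toRingHom
        commutes' := fun a => by
          show χ₄ (ψ₄ (a ⊗ₜ[A] (1 : A₂))) = algebraMap B C (φ₁ a)
          rw [← AlgHom.comp_apply, hψ₄, Algebra.TensorProduct.lift_tmul, map_one, mul_one]
          rfl }
    let χ : B'' →ₐ[B] C :=
      Algebra.TensorProduct.lift (Algebra.ofId B C) χ₄' fun _ _ => Commute.all _ _
    let w : Fin m → B'' := fun i => (1 : B) ⊗ₜ ψ₄ ((1 : A₁) ⊗ₜ r i)
    have hw : ∀ i, MvPolynomial.aeval w (Fin.append G t' i) = 0 := fun i => by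
      rw [← hQ i]
      have : (MvPolynomial.aeval w).toRingHom.comp (MvPolynomial.map φ₁.toRingHom) =
          ((Algebra.TensorProduct.includeRight : A₄ →ₐ[A₁] B'').toRingHom.comp ψ₄.toRingHom).comp ev₁ := by
        refine MvPolynomial.ringHom_ext (fun a => ?_) fun i => ?_
        · simp only [ev₁, RingHom.comp_apply, MvPolynomial.eval₂Hom_C, AlgHom.toRingHom_eq_coe,
            AlgHom.coe_toRingHom, MvPolynomial.map_C, MvPolynomial.aeval_C,
            Algebra.TensorProduct.includeLeftRingHom_apply, Algebra.TensorProduct.includeRight_apply,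
            Algebra.TensorProduct.algebraMap_apply]
          show algebraMap A₁ B a ⊗ₜ[A₁] (1 : A₄) = (1 : B) ⊗ₜ[A₁] algebraMap A₁ A₄ a
          rw [Algebra.algebraMap_eq_smul_one, Algebra.algebraMap_eq_smul_one, TensorProduct.smul_tmul]
        · simp [ev₁, w]
      refine (RingHom.congr_fun this (Q i)).trans ?_
      show (1 : B) ⊗ₜ[A₁] ψ₄ (ev₁ (Q i)) = 0
      rw [hz, TensorProduct.tmul_zero]
    let ψ₀ : MvPolynomial (Fin m) B ⧸ RingHom.ker π →ₐ[B] B'' :=
      Ideal.Quotient.liftₐ (RingHom.ker π) (MvPolynomial.aeval w) fun p hp => by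
        refine (Ideal.span_le.mpr ?_ : Ideal.span (Set.range G) ≤
          RingHom.ker (MvPolynomial.aeval w).toRingHom) ((show Ideal.span (Set.range G) = RingHom.ker π.toRingHom from hG).ge hp)
        rintro _ ⟨l, rfl⟩
        have := hw (Fin.castAdd n l)
        rwa [Fin.append_left] at this
    let ψ : B' →ₐ[B] B'' := ψ₀.comp (Ideal.quotientKerAlgEquivOfSurjective hπ).symm.toAlgHom
    have hψ : ∀ p, ψ (π p) = MvPolynomial.aeval w p := fun p => by
      have key : (Ideal.quotientKerAlgEquivOfSurjective hπ).symm (π p) = Ideal.Quotient.mk _ p :=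
        (Ideal.quotientKerAlgEquivOfSurjective hπ).injective (by simp)
      simp only [ψ, AlgHom.comp_apply]
      exact (congrArg _ key).trans rfl
    refine ⟨B'', inferInstance, inferInstance, inferInstance, χ, ψ, ?_, fun k => ?_⟩
    · refine AlgHom.ext fun a => ?_
      obtain ⟨p, rfl⟩ := hπ a
      rw [AlgHom.comp_apply, hψ]
      refine DFunLike.congr_fun (MvPolynomial.algHom_ext (f := χ.comp (MvPolynomial.aeval w))
        (g := φ.comp π) fun i => ?_) p
      simp only [AlgHom.comp_apply, MvPolynomial.aeval_X, w, χ]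
      erw [Algebra.TensorProduct.lift_tmul]
      rw [map_one, one_mul]
      show χ₄ (ψ₄ _) = _
      rw [← AlgHom.comp_apply, hψ₄]
      simp [Φ, hr]
    · rw [← ht', hψ]
      have := hw (Fin.natAdd s k)
      rwa [Fin.append_right] at this

end Groth.Agent.HensPoint.Trans
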