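import Groth.Agent.HensPoint.GeomUniEtale
import Groth.Agent.Locus.EtaleCriterion
import Groth.Agent.AlgSpTopo.SourceScheme
import Mathlib.AlgebraicGeometry.Morphisms.Etale
import Mathlib.AlgebraicGeometry.Morphisms.QuasiFinite
import Mathlib.AlgebraicGeometry.FunctionField

/-!
Unramified morphisms to schemes with geometrically unibranch local rings.
-/

set_option autoImplicit false

noncomputable section

open CategoryTheory AlgebraicGeometry IsLocalRing

namespace Groth.Agent.HensPoint.GeomUniScheme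

universe u

set_option backward.isDefEq.respectTransparency false

theorem isEtColim_of_bijective {R T : Type u} [CommRing R] [CommRing T] [Algebra R T]
    (h : Function.Bijective (algebraMap R T)) : EtColim.IsEtColim R T := by
  have : Algebra.Etale R T := Algebra.Etale.of_equiv (AlgEquiv.ofBijective (Algebra.ofId R T) h)
  exact DirColim.isEtColim_self

/-- geometric unibranchness of domains along ring isomorphisms -/
theorem geomUnibranch_of_ringEquiv {R T : Type u} [CommRing R] [IsLocalRing R] [IsDomain R] [CommRing T]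
    [IsLocalRing T] (e : R ≃+* T) (hR : CAlg2.IsGeomUnibranch R) :
    IsDomain T ∧ CAlg2.IsGeomUnibranch T := by
  let : Algebra R T := e.toRingHom.toAlgebra
  have hloc : IsLocalHom (algebraMap R T) := ⟨fun a ha => by
    have := (show IsUnit (e a) from ha).map e.symm
    rwa [e.symm_apply_apply] at this⟩
  have : Algebra.IsSeparable (ResidueField R) (ResidueField T) := by
    refine ⟨fun x => ?_⟩
    obtain ⟨t, rfl⟩ := residue_surjective x
    have : residue T t = algebraMap (ResidueField R) (ResidueField T) (residue R (e.symm t)) := by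
      rw [ResidueField.algebraMap_residue]
      show residue T t = residue T (e (e.symm t))
      rw [e.apply_symm_apply]
    rw [this]
    exact isSeparable_algebraMap _
  exact GeomUniEtale.domain_geomUnibranch hR (isEtColim_of_bijective e.bijective)

/-- geometric unibranchness along ring isomorphisms -/
theorem geomUnibranch_of_ringEquiv' {R T : Type u} [CommRing R] [IsLocalRing R] [CommRing T]
    [IsLocalRing T] (e : R ≃+* T) (hR : CAlg2.IsGeomUnibranch R) :
    CAlg2.IsGeomUnibranch T := by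
  let : Algebra R T := e.toRingHom.toAlgebra
  have hloc : IsLocalHom (algebraMap R T) := ⟨fun a ha => by
    have := (show IsUnit (e a) from ha).map e.symm
    rwa [e.symm_apply_apply] at this⟩
  have : Algebra.IsSeparable (ResidueField R) (ResidueField T) := by
    refine ⟨fun x => ?_⟩
    obtain ⟨t, rfl⟩ := residue_surjective x
    have : residue T t = algebraMap (ResidueField R) (ResidueField T) (residue R (e.symm t)) := by
      rw [ResidueField.algebraMap_residue]
      show residue T t = residue T (e (e.symm t))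
      rw [e.apply_symm_apply]
    rw [this]
    exact isSeparable_algebraMap _
  exact (GeomUniEtale.geomUnibranch_of_isEtColim hR (isEtColim_of_bijective e.bijective)).1

section chart

variable {X Y : Scheme.{u}} (f : X ⟶ Y) (U : Y.Opens) (hU : IsAffineOpen U) (V : X.Opens)
  (hV : IsAffineOpen V) (hVU : V ≤ f ⁻¹ᵁ U) {x : X} (hx : x ∈ V)

theorem stalk_equiv {Z : Scheme.{u}} {W : Z.Opens} (hW : IsAffineOpen W) {z : Z} (hz : z ∈ W) :
    Nonempty (Z.presheaf.stalk z ≃+* Localization.AtPrime (hW.primeIdealOf ⟨z, hz⟩).asIdeal) := by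
  let := Z.presheaf.algebra_section_stalk ⟨z, hz⟩
  have := hW.isLocalization_stalk ⟨z, hz⟩
  exact ⟨(IsLocalization.algEquiv (hW.primeIdealOf ⟨z, hz⟩).asIdeal.primeCompl
    (Z.presheaf.stalk z) (Localization.AtPrime (hW.primeIdealOf ⟨z, hz⟩).asIdeal)).toRingEquiv⟩

theorem geomUnibranch_localization {Z : Scheme.{u}} {W : Z.Opens} (hW : IsAffineOpen W) {z : Z}
    (hz : z ∈ W) (hd : IsDomain (Z.presheaf.stalk z)) (h : CAlg2.IsGeomUnibranch (Z.presheaf.stalk z)) :
    IsDomain (Localization.AtPrime (hW.primeIdealOf ⟨z, hz⟩).asIdeal) ∧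
      CAlg2.IsGeomUnibranch (Localization.AtPrime (hW.primeIdealOf ⟨z, hz⟩).asIdeal) := by
  obtain ⟨e⟩ := stalk_equiv hW hz
  exact geomUnibranch_of_ringEquiv e h

include hU hV hVU hx in
theorem chart_facts (hd : IsDomain (Y.presheaf.stalk (f x)))
    (hY : CAlg2.IsGeomUnibranch (Y.presheaf.stalk (f x))) [LocallyOfFiniteType f]
    (hunr : (f.stalkMap x).hom.FormallyUnramified) (hinj : Function.Injective (f.stalkMap x)) :
    (f.stalkMap x).hom.Flat ∧ (IsDomain Γ(Y, U) → ∃ W : X.Opens, x ∈ W ∧ Etale (W.ι ≫ f)) := by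
  obtain ⟨hd', hY'⟩ := geomUnibranch_localization hU (hVU hx) hd hY
  have := f.finiteType_appLE hU hV hVU
  let p := (hU.primeIdealOf ⟨f x, hVU hx⟩).asIdeal
  let q := (hV.primeIdealOf ⟨x, hx⟩).asIdeal
  have hiso := IsAffineOpen.arrowStalkMapIso f U hU V hV hVU hx
  algebraize [(f.appLE U V hVU).hom]
  have : q.LiesOver p :=
    ⟨congr($(IsAffineOpen.comap_primeIdealOf_appLE U hU V hV hVU hx).1).symm⟩
  have hunr' : Algebra.IsUnramifiedAt Γ(Y, U) q :=
    (Locus.Basic.formallyUnramified_stalkMap_iff f U hU V hV hVU hx).mp hunr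
  have hinj' : Function.Injective (Localization.localRingHom p q (algebraMap Γ(Y, U) Γ(X, V)) (q.over_def p)) := by
    have h2 := ((MorphismProperty.injective CommRingCat).arrow_mk_iso_iff hiso).mp hinj
    exact h2
  refine ⟨?_, fun hdA => ?_⟩
  · have hfl := GeomUniEtale.flat_stalk q p hY' hinj'
    let := Localization.AtPrime.algebraOfLiesOver p q
    have : Module.Flat (Localization.AtPrime p) (Localization.AtPrime q) :=
      (Module.flat_iff_of_isLocalization (Localization.AtPrime p) p.primeCompl (Localization.AtPrime q)).mpr hfl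
    exact (RingHom.Flat.respectsIso.arrow_mk_iso_iff hiso).mpr (RingHom.flat_algebraMap_iff.mpr this)
  · obtain ⟨g, hg, hget⟩ := GeomUniEtale.exists_etale q p hY' hinj'
    have hle : X.basicOpen g ≤ V := X.basicOpen_le g
    refine ⟨X.basicOpen g, (Locus.Basic.primeIdealOf_mem_basicOpen_iff hV g hx).mp hg, ?_⟩
    have hgU : X.basicOpen g ≤ f ⁻¹ᵁ U := hle.trans hVU
    have hfac : (X.basicOpen g).ι ≫ f = f.resLE U (X.basicOpen g) hgU ≫ U.ι := by
      rw [Scheme.Hom.resLE_comp_ι]
    rw [hfac]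
    suffices Etale (f.resLE U (X.basicOpen g) hgU) by infer_instance
    have : IsAffine (U : Scheme.{u}) := hU
    have : IsAffine (X.basicOpen g : Scheme.{u}) := hV.basicOpen g
    rw [HasRingHomProperty.iff_of_isAffine (P := @Etale)]
    have hW := hV.isLocalization_basicOpen g
    have happ : (f.appLE U (X.basicOpen g) hgU).hom.Etale := by
      rw [← RingHom.etale_algebraMap] at hget
      have e : f.appLE U (X.basicOpen g) hgU = f.appLE U V hVU ≫ X.presheaf.map (homOfLE hle).op := by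
        rw [Scheme.Hom.appLE_map]
      rw [e]
      let : Algebra Γ(Y, U) Γ(X, X.basicOpen g) := ((X.presheaf.map (homOfLE hle).op).hom.comp (algebraMap Γ(Y, U) Γ(X, V))).toAlgebra
      have : IsScalarTower Γ(Y, U) Γ(X, V) Γ(X, X.basicOpen g) := IsScalarTower.of_algebraMap_eq fun _ => rfl
      have hEt : Algebra.Etale Γ(Y, U) (Localization.Away g) := RingHom.etale_algebraMap.mp hget
      let φ' : Localization.Away g ≃ₐ[Γ(Y, U)] Γ(X, X.basicOpen g) :=
        (IsLocalization.algEquiv (Submonoid.powers g) (Localization.Away g) Γ(X, X.basicOpen g)).restrictScalars Γ(Y, U)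
      exact RingHom.etale_algebraMap.mpr (Algebra.Etale.of_equiv φ')
    have := (RingHom.Etale.respectsIso.arrow_mk_iso_iff (Arrow.isoMk U.topIso (X.basicOpen g).topIso (by
      simp [Scheme.Hom.resLE_appLE] ) : Arrow.mk (f.resLE U (X.basicOpen g) hgU).appTop ≅ Arrow.mk (f.appLE U (X.basicOpen g) hgU))).mpr happ
    exact this

end chart

variable {X Y : Scheme.{u}}

/-- unramified and injective on stalks at a geometrically unibranch domain: flat -/
theorem flat_stalkMap (f : X ⟶ Y) [LocallyOfFiniteType f] (x : X) (hd : IsDomain (Y.presheaf.stalk (f x)))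
    (hY : CAlg2.IsGeomUnibranch (Y.presheaf.stalk (f x)))
    (hunr : (f.stalkMap x).hom.FormallyUnramified) (hinj : Function.Injective (f.stalkMap x)) :
    (f.stalkMap x).hom.Flat := by
  obtain ⟨_, ⟨U, hU, rfl⟩, hxU, -⟩ :=
    Y.isBasis_affineOpens.exists_subset_of_mem_open (Set.mem_univ (f x)) isOpen_univ
  obtain ⟨_, ⟨V, hV, rfl⟩, hxV, hVU⟩ :=
    X.isBasis_affineOpens.exists_subset_of_mem_open hxU (U.2.preimage f.continuous)
  exact (chart_facts f U hU V hV hVU hxV hd hY hunr hinj).1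

theorem exists_etale_nhd_iff (f : X ⟶ Y) [LocallyOfFinitePresentation f] (x : X)
    (hd : IsDomain (Y.presheaf.stalk (f x))) (hY : CAlg2.IsGeomUnibranch (Y.presheaf.stalk (f x))) :
    (∃ U : X.Opens, x ∈ U ∧ Etale (U.ι ≫ f)) ↔
      (∃ U : X.Opens, x ∈ U ∧ FormallyUnramified (U.ι ≫ f)) ∧ Function.Injective (f.stalkMap x) := by
  rw [Locus.EtaleCriterion.exists_etale_nhd_iff_flat, Locus.Basic.exists_formallyUnramified_nhd_iff]
  refine ⟨fun ⟨hf, hu⟩ => ⟨hu, ?_⟩, fun ⟨hu, hinj⟩ => ⟨flat_stalkMap f x hd hY hu hinj, hu⟩⟩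
  algebraize [(f.stalkMap x).hom]
  have : IsLocalHom (algebraMap (Y.presheaf.stalk (f x)) (X.presheaf.stalk x)) :=
    inferInstanceAs (IsLocalHom (f.stalkMap x).hom)
  have : Module.FaithfullyFlat (Y.presheaf.stalk (f x)) (X.presheaf.stalk x) :=
    Module.FaithfullyFlat.of_flat_of_isLocalHom
  exact FaithfulSMul.algebraMap_injective (Y.presheaf.stalk (f x)) (X.presheaf.stalk x)

theorem injective_stalkMap (f : X ⟶ Y) [IsIntegral Y] (x : X)
    (hsp : ∃ x' : X, x' ⤳ x ∧ f x' = genericPoint Y) : Function.Injective (f.stalkMap x) := by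
  obtain ⟨x', hx', hfx'⟩ := hsp
  have h1 := Scheme.Hom.stalkSpecializes_stalkMap f x' x hx'
  have hη : genericPoint Y ⤳ f x := genericPoint_spec Y |>.specializes trivial
  have h2 : Function.Injective (Y.presheaf.stalkSpecializes (f.continuous.specialization_monotone hx' : f x' ⤳ f x)) := by
    have e := Y.presheaf.stalkSpecializes_comp (specializes_of_eq hfx'.symm) (f.continuous.specialization_monotone hx' : f x' ⤳ f x)
    have hg : Function.Injective (Y.presheaf.stalkSpecializes hη) :=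
      IsFractionRing.injective (Y.presheaf.stalk (f x)) Y.functionField
    intro a b h
    refine hg ?_
    have := congrArg (Y.presheaf.stalkSpecializes (specializes_of_eq hfx'.symm)) h
    rwa [← CategoryTheory.comp_apply, ← CategoryTheory.comp_apply, e] at this
  have hfld : Function.Injective (f.stalkMap x') := by
    have : IsField (Y.presheaf.stalk (f x')) := by
      rw [hfx']
      exact Field.toIsField Y.functionField
    let := this.toField
    exact RingHom.injective (f.stalkMap x').hom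
  intro a b h
  refine h2 (hfld ?_)
  have := congrArg (X.presheaf.stalkSpecializes hx') h
  rw [← CategoryTheory.comp_apply, ← CategoryTheory.comp_apply, ← h1] at this
  exact this

theorem exists_etale_nhd (f : X ⟶ Y) [IsIntegral Y] [LocallyOfFiniteType f] (x : X)
    (hY : CAlg2.IsGeomUnibranch (Y.presheaf.stalk (f x))) (hsp : ∃ x' : X, x' ⤳ x ∧ f x' = genericPoint Y)
    (hunr : (f.stalkMap x).hom.FormallyUnramified) :
    ∃ U : X.Opens, x ∈ U ∧ Etale (U.ι ≫ f) := by
  obtain ⟨_, ⟨U, hU, rfl⟩, hxU, -⟩ :=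
    Y.isBasis_affineOpens.exists_subset_of_mem_open (Set.mem_univ (f x)) isOpen_univ
  obtain ⟨_, ⟨V, hV, rfl⟩, hxV, hVU⟩ :=
    X.isBasis_affineOpens.exists_subset_of_mem_open hxU (U.2.preimage f.continuous)
  have : Nonempty (U : Scheme.{u}) := ⟨⟨f x, hxU⟩⟩
  exact (chart_facts f U hU V hV hVU hxV inferInstance hY hunr (injective_stalkMap f x hsp)).2
    (IsIntegral.component_integral U)

/-- etale over a geometrically unibranch domain -/
theorem domain_geomUnibranch_of_etale (f : X ⟶ Y) (x : X) (hd : IsDomain (Y.presheaf.stalk (f x)))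
    (hY : CAlg2.IsGeomUnibranch (Y.presheaf.stalk (f x))) (hf : ∃ U : X.Opens, x ∈ U ∧ Etale (U.ι ≫ f)) :
    IsDomain (X.presheaf.stalk x) ∧ CAlg2.IsGeomUnibranch (X.presheaf.stalk x) := by
  obtain ⟨W, hxW, hW⟩ := hf
  obtain ⟨_, ⟨U, hU, rfl⟩, hxU, -⟩ :=
    Y.isBasis_affineOpens.exists_subset_of_mem_open (Set.mem_univ (f x)) isOpen_univ
  obtain ⟨_, ⟨V, hV, rfl⟩, hxV, hVU⟩ :=
    X.isBasis_affineOpens.exists_subset_of_mem_open (show x ∈ W ⊓ f ⁻¹ᵁ U from ⟨hxW, hxU⟩) (W ⊓ f ⁻¹ᵁ U).2
  let V : X.Opens := V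
  have hVW : V ≤ W := fun z hz => (hVU hz).1
  have hVU' : V ≤ f ⁻¹ᵁ U := fun z hz => (hVU hz).2
  obtain ⟨hd', hY'⟩ := geomUnibranch_localization hU (hVU' hxV) hd hY
  have hfe : (f.appLE U V hVU').hom.Etale := by
    have : Etale (V.ι ≫ f) := by
      rw [← X.homOfLE_ι hVW, Category.assoc]; infer_instance
    have h := (V.ι ≫ f).etale_appLE hU (V := ⊤) (haveI : IsAffine (V : Scheme.{u}) := hV; isAffineOpen_top _) (fun z _ => hVU' z.2)
    rw [Scheme.Hom.comp_appLE] at h
    have e : f.appLE U V hVU' ≫ V.topIso.inv = f.app U ≫ (V.ι).appLE (f ⁻¹ᵁ U) ⊤ (fun z _ => hVU' z.2) := by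
      simp [Scheme.Hom.appLE]
      rw [← X.presheaf.map_comp, ← X.presheaf.map_comp]
      rfl
    rw [← e, CommRingCat.hom_comp, RingHom.Etale.respectsIso.cancel_right_isIso] at h
    exact h
  algebraize [(f.appLE U V hVU').hom]
  let p := (hU.primeIdealOf ⟨f x, hVU' hxV⟩).asIdeal
  let q := (hV.primeIdealOf ⟨x, hxV⟩).asIdeal
  have : q.LiesOver p :=
    ⟨congr($(IsAffineOpen.comap_primeIdealOf_appLE U hU V hV hVU' hxV).1).symm⟩
  let := Localization.AtPrime.algebraOfLiesOver p q
  have : IsReduced (Localization.AtPrime p) := inferInstance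
  obtain ⟨h1, h2⟩ := GeomUniEtale.stalk_domain p q hY'
  obtain ⟨e⟩ := stalk_equiv hV hxV
  exact geomUnibranch_of_ringEquiv e.symm h2

/-- etale over a geometrically unibranch point -/
theorem geomUnibranch_of_etale (f : X ⟶ Y) (x : X)
    (hY : CAlg2.IsGeomUnibranch (Y.presheaf.stalk (f x))) (hf : ∃ U : X.Opens, x ∈ U ∧ Etale (U.ι ≫ f)) :
    CAlg2.IsGeomUnibranch (X.presheaf.stalk x) := by
  obtain ⟨W, hxW, hW⟩ := hf
  obtain ⟨_, ⟨U, hU, rfl⟩, hxU, -⟩ :=
    Y.isBasis_affineOpens.exists_subset_of_mem_open (Set.mem_univ (f x)) isOpen_univ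
  obtain ⟨_, ⟨V, hV, rfl⟩, hxV, hVU⟩ :=
    X.isBasis_affineOpens.exists_subset_of_mem_open (show x ∈ W ⊓ f ⁻¹ᵁ U from ⟨hxW, hxU⟩) (W ⊓ f ⁻¹ᵁ U).2
  let V : X.Opens := V
  have hVW : V ≤ W := fun z hz => (hVU hz).1
  have hVU' : V ≤ f ⁻¹ᵁ U := fun z hz => (hVU hz).2
  obtain ⟨e₀⟩ := stalk_equiv hU (hVU' hxV)
  have hY' := geomUnibranch_of_ringEquiv' e₀ hY
  have hfe : (f.appLE U V hVU').hom.Etale := by
    have : Etale (V.ι ≫ f) := by
      rw [← X.homOfLE_ι hVW, Category.assoc]; infer_instance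
    have h := (V.ι ≫ f).etale_appLE hU (V := ⊤) (haveI : IsAffine (V : Scheme.{u}) := hV; isAffineOpen_top _) (fun z _ => hVU' z.2)
    rw [Scheme.Hom.comp_appLE] at h
    have e : f.appLE U V hVU' ≫ V.topIso.inv = f.app U ≫ (V.ι).appLE (f ⁻¹ᵁ U) ⊤ (fun z _ => hVU' z.2) := by
      simp [Scheme.Hom.appLE]
      rw [← X.presheaf.map_comp, ← X.presheaf.map_comp]
      rfl
    rw [← e, CommRingCat.hom_comp, RingHom.Etale.respectsIso.cancel_right_isIso] at h
    exact h
  algebraize [(f.appLE U V hVU').hom]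
  let p := (hU.primeIdealOf ⟨f x, hVU' hxV⟩).asIdeal
  let q := (hV.primeIdealOf ⟨x, hxV⟩).asIdeal
  have : q.LiesOver p :=
    ⟨congr($(IsAffineOpen.comap_primeIdealOf_appLE U hU V hV hVU' hxV).1).symm⟩
  let := Localization.AtPrime.algebraOfLiesOver p q
  obtain ⟨h, hloc, hsep⟩ := GeomUniEtale.stalk_facts p q
  obtain ⟨e⟩ := stalk_equiv hV hxV
  exact geomUnibranch_of_ringEquiv' e.symm (GeomUniEtale.geomUnibranch_of_isEtColim hY' h).1

end Groth.Agent.HensPoint.GeomUniScheme
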