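import Groth.Agent.HensPoint.Hull
import Groth.Prelude.Def_Hensel

/-!
The henselization of a ring at a prime and the henselization of the local ring.
-/

set_option autoImplicit false

noncomputable section

open IsLocalRing

namespace Groth.Agent.HensPoint.AtPrime

universe u

variable {R : Type u} [CommRing R] (p : Ideal R) [p.IsPrime]

/-- the henselization at the prime -/
abbrev H : Type u := Hull.H R p.ResidueField

theorem isUnit_algebraMap {s : R} (hs : s ∉ p) : IsUnit (algebraMap R (H p) s) := by
  refine notMem_maximalIdeal.mp fun h => hs ?_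
  rw [Hull.mem_maximalIdeal_iff, AlgHom.commutes] at h
  exact Ideal.algebraMap_residueField_eq_zero.mp h

theorem π_surjective : Function.Surjective (Hull.π R p.ResidueField) := fun x => by
  obtain ⟨y, rfl⟩ := residue_surjective x
  obtain ⟨a, s, rfl⟩ := IsLocalization.exists_mk'_eq p.primeCompl y
  refine ⟨algebraMap R (H p) a * ↑(isUnit_algebraMap p s.2).unit⁻¹, ?_⟩
  have hs : algebraMap R p.ResidueField s ≠ 0 := fun h => s.2 (Ideal.algebraMap_residueField_eq_zero.mp h)
  refine mul_right_cancel₀ hs ?_
  have h1 : algebraMap R (Localization.AtPrime p) s * IsLocalization.mk' _ a s =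
      algebraMap R (Localization.AtPrime p) a := IsLocalization.mk'_spec' _ a s
  have h2 := congrArg (residue (Localization.AtPrime p)) h1
  rw [map_mul] at h2
  rw [← (Hull.π R p.ResidueField).commutes (s : R), ← map_mul, mul_assoc, IsUnit.val_inv_mul,
    mul_one, AlgHom.commutes, AlgHom.commutes, mul_comm]
  exact h2.symm

/-- the residue map of the henselization at a prime -/
def residueHom : ResidueField (H p) →ₐ[R] p.ResidueField :=
  Ideal.Quotient.liftₐ (maximalIdeal (H p)) (Hull.π R p.ResidueField) fun x hx =>
    (Hull.mem_maximalIdeal_iff x).mp hx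

/-- the residue field of the henselization at a prime -/
def residueEquiv : ResidueField (H p) ≃ₐ[R] p.ResidueField :=
  AlgEquiv.ofBijective (residueHom p)
    ⟨RingHom.injective (residueHom p).toRingHom,
      fun a => by
        obtain ⟨x, hx⟩ := π_surjective p a
        exact ⟨residue _ x, hx⟩⟩

theorem residue_surjective_base (z : ResidueField (H p)) :
    ∃ (a s : R), s ∉ p ∧ z * residue _ (algebraMap R (H p) s) = residue _ (algebraMap R (H p) a) := by
  obtain ⟨y, hy⟩ := residue_surjective (residueEquiv p z)
  obtain ⟨a, s, rfl⟩ := IsLocalization.exists_mk'_eq p.primeCompl y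
  refine ⟨a, s, s.2, (residueEquiv p).injective ?_⟩
  have h1 : IsLocalization.mk' (Localization.AtPrime p) a s * algebraMap R _ (s : R) =
      algebraMap R (Localization.AtPrime p) a := IsLocalization.mk'_spec _ a s
  have h2 := congrArg (residue (Localization.AtPrime p)) h1
  rw [map_mul] at h2
  have hc : ∀ r : R, residueEquiv p (residue _ (algebraMap R (H p) r)) =
      algebraMap R p.ResidueField r := fun r => (Hull.π R p.ResidueField).commutes r
  rw [map_mul, hc, hc, ← hy]
  exact h2

theorem exists_equiv (Rh : Type u) [CommRing Rh] [IsLocalRing Rh]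
    [Algebra (Localization.AtPrime p) Rh] [IsLocalHom (algebraMap (Localization.AtPrime p) Rh)]
    [hh : Hensel.IsHenselization (Localization.AtPrime p) Rh] [Algebra R Rh]
    [IsScalarTower R (Localization.AtPrime p) Rh] : Nonempty (Rh ≃ₐ[R] H p) := by
  let L := Localization.AtPrime p
  let j : L →+* H p := IsLocalization.lift (M := p.primeCompl) (g := algebraMap R (H p))
    fun s => isUnit_algebraMap p s.2
  have hj : ∀ r, j (algebraMap R L r) = algebraMap R (H p) r := fun r => IsLocalization.lift_eq _ r
  have hloc : IsLocalHom j := ⟨fun x hx => by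
    obtain ⟨a, s, rfl⟩ := IsLocalization.exists_mk'_eq p.primeCompl x
    refine (IsLocalization.AtPrime.isUnit_mk'_iff L p a s).mpr fun ha => ?_
    have hm : algebraMap R (H p) a ∈ maximalIdeal (H p) := by
      rw [Hull.mem_maximalIdeal_iff, AlgHom.commutes]
      exact Ideal.algebraMap_residueField_eq_zero.mpr ha
    rw [← hj, ← IsLocalization.mk'_spec L a s, map_mul, hj] at hm
    exact hm (hx.mul (isUnit_algebraMap p s.2))⟩
  have := Hull.henselian (R := R) (Ω := p.ResidueField)
  obtain ⟨g₁, hg₁, -⟩ := hh.universal (H p) j hloc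
  have hg₁' : ∀ r, g₁ (algebraMap R Rh r) = algebraMap R (H p) r := fun r => by
    rw [IsScalarTower.algebraMap_apply R L Rh, ← RingHom.comp_apply, hg₁, hj]
  let g : Rh →ₐ[R] H p := ⟨g₁, hg₁'⟩
  have := hh.henselian
  let τ : ResidueField (H p) →+* ResidueField Rh :=
    (ResidueField.map (algebraMap L Rh)).comp (residueEquiv p).toRingEquiv.toRingHom
  have hτ : ∀ r, τ (residue _ (algebraMap R (H p) r)) = residue Rh (algebraMap R Rh r) := fun r => by
    show ResidueField.map (algebraMap L Rh) (residueEquiv p (residue _ (algebraMap R (H p) r))) = _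
    rw [show residueEquiv p (residue _ (algebraMap R (H p) r)) = residue L (algebraMap R L r) from
      (Hull.π R p.ResidueField).commutes r, ResidueField.map_residue,
      ← IsScalarTower.algebraMap_apply]
  obtain ⟨h, hhres, -⟩ := Hull.existsUnique_algHom Rh τ hτ
  have hid : h.comp g = AlgHom.id R Rh := by
    have h1 : (h.toRingHom.comp g₁).comp (algebraMap L Rh) = algebraMap L Rh := by
      refine IsLocalization.ringHom_ext p.primeCompl (RingHom.ext fun r => ?_)
      show h (g₁ (algebraMap L Rh (algebraMap R L r))) = algebraMap L Rh (algebraMap R L r)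
      rw [← RingHom.comp_apply g₁, hg₁, hj, AlgHom.commutes, IsScalarTower.algebraMap_apply R L Rh]
    exact AlgHom.coe_ringHom_injective
      ((hh.universal Rh (algebraMap L Rh) inferInstance).unique h1 (RingHom.id_comp _))
  have hid' : g.comp h = AlgHom.id R (H p) := by
    obtain ⟨k, -, hu⟩ := Hull.existsUnique_algHom (R := R) (Ω := p.ResidueField) (H p)
      (RingHom.id _) fun r => rfl
    have hres : ∀ k' : H p →ₐ[R] H p, ∀ x, residue _ (k' x) = RingHom.id _ (residue _ x) := by
      intro k' x
      obtain ⟨a, s, hs, hxs⟩ := residue_surjective_base p (residue _ x)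
      have hx : x * algebraMap R (H p) s - algebraMap R (H p) a ∈ maximalIdeal (H p) := by
        rw [← residue_eq_zero_iff, map_sub, map_mul, hxs, sub_self]
      have hk : k' (x * algebraMap R (H p) s - algebraMap R (H p) a) ∈ maximalIdeal (H p) := by
        rw [← Hull.map_ker_eq] at hx ⊢
        have := Ideal.mem_map_of_mem k'.toRingHom hx
        rwa [Ideal.map_map, AlgHom.toRingHom_eq_coe, AlgHom.comp_algebraMap] at this
      rw [map_sub, map_mul, AlgHom.commutes, AlgHom.commutes, ← residue_eq_zero_iff, map_sub,
        map_mul, sub_eq_zero, ← hxs] at hk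
      exact mul_right_cancel₀ ((map_ne_zero_iff _ (RingHom.id _).injective).mp
        ((isUnit_algebraMap p hs).map (residue _)).ne_zero) hk
    exact (hu _ (hres _)).trans (hu _ (hres _)).symm
  exact ⟨AlgEquiv.ofAlgHom g h hid' hid⟩

variable {S : Type u} [CommRing S] [Algebra R S] (q : Ideal S) [q.IsPrime]

/-- the point of an algebra at a prime with trivial residue extension -/
theorem exists_point (hq : p = q.comap (algebraMap R S))
    (hb : Function.Bijective (Ideal.ResidueField.map p q (algebraMap R S) hq)) :
    ∃ σ : S →ₐ[R] p.ResidueField, RingHom.ker σ = q ∧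
      ∀ σ' : S →ₐ[R] p.ResidueField, RingHom.ker σ' = q → σ' = σ := by
  let e := RingEquiv.ofBijective _ hb
  let σ : S →ₐ[R] p.ResidueField :=
    { toRingHom := e.symm.toRingHom.comp (algebraMap S q.ResidueField)
      commutes' := fun r => e.injective (by
        show e (e.symm _) = e _
        rw [e.apply_symm_apply]
        exact (Ideal.ResidueField.map_algebraMap _ _ _ hq r).symm) }
  refine ⟨σ, ?_, fun σ' hσ' => ?_⟩
  · ext x
    show e.symm (algebraMap S q.ResidueField x) = 0 ↔ x ∈ q
    rw [map_eq_zero_iff _ e.symm.injective, Ideal.algebraMap_residueField_eq_zero]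
  · let ρ : q.ResidueField →+* p.ResidueField := Ideal.ResidueField.lift q σ'.toRingHom
      (ge_of_eq hσ') fun x hx => isUnit_iff_ne_zero.mpr fun h => hx (hσ' ▸ h)
    have hρ : ρ.comp e.toRingHom = RingHom.id _ := by
      refine Ideal.ResidueField.ringHom_ext (RingHom.ext fun r => ?_)
      show ρ (Ideal.ResidueField.map p q _ hq (algebraMap R p.ResidueField r)) =
        algebraMap R p.ResidueField r
      rw [Ideal.ResidueField.map_algebraMap, Ideal.ResidueField.lift_algebraMap]
      exact σ'.commutes r
    refine AlgHom.ext fun x => ?_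
    have h1 := RingHom.congr_fun hρ (e.symm (algebraMap S q.ResidueField x))
    rw [RingHom.comp_apply, RingEquiv.toRingHom_eq_coe, RingEquiv.coe_toRingHom, e.apply_symm_apply] at h1
    rw [Ideal.ResidueField.lift_algebraMap] at h1
    exact h1

theorem bijective_residue (σ : S →ₐ[R] p.ResidueField) (hσ : RingHom.ker σ = q)
    (hq : p = q.comap (algebraMap R S)) :
    Function.Bijective (Ideal.ResidueField.map p q (algebraMap R S) hq) := by
  let ρ : q.ResidueField →+* p.ResidueField := Ideal.ResidueField.lift q σ.toRingHom
    (ge_of_eq hσ) fun x hx => isUnit_iff_ne_zero.mpr fun h => hx (hσ ▸ h)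
  have hρ : ρ.comp (Ideal.ResidueField.map p q (algebraMap R S) hq) = RingHom.id _ := by
    refine Ideal.ResidueField.ringHom_ext (RingHom.ext fun r => ?_)
    show ρ (Ideal.ResidueField.map p q _ hq (algebraMap R p.ResidueField r)) =
      algebraMap R p.ResidueField r
    rw [Ideal.ResidueField.map_algebraMap, Ideal.ResidueField.lift_algebraMap]
    exact σ.commutes r
  exact ⟨RingHom.injective _, fun z => ⟨ρ z, ρ.injective (RingHom.congr_fun hρ (ρ z))⟩⟩

theorem comap_ker (σ : S →ₐ[R] p.ResidueField) : p = (RingHom.ker σ).comap (algebraMap R S) := by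
  ext r
  rw [Ideal.mem_comap, RingHom.mem_ker, AlgHom.commutes, Ideal.algebraMap_residueField_eq_zero]

theorem comap_maximalIdeal (f : S →ₐ[R] H p) :
    (maximalIdeal (H p)).comap f.toRingHom = RingHom.ker ((Hull.π R p.ResidueField).comp f) := by
  ext x
  exact Hull.mem_maximalIdeal_iff _

end Groth.Agent.HensPoint.AtPrime
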