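import Mathlib.RingTheory.MvPolynomial.Basic
import Mathlib.RingTheory.FinitePresentation
import Mathlib.RingTheory.Etale.Basic
import Mathlib.RingTheory.Ideal.Quotient.Operations

/-!
Tensor products of arbitrary families of finitely presented algebras, with finite stages.
-/

set_option autoImplicit false

noncomputable section

open MvPolynomial

namespace Groth.Agent.HensPoint.Tens

universe u

variable {R : Type u} [CommRing R]

/-- finite presentations -/
abbrev Raw (R : Type u) [CommRing R] : Type u := Σ n : ℕ, Finset (MvPolynomial (Fin n) R)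

/-- the algebra of a finite presentation -/
abbrev Pres (p : Raw R) : Type u :=
  MvPolynomial (Fin p.1) R ⧸ Ideal.span (p.2 : Set (MvPolynomial (Fin p.1) R))

theorem exists_pres (A' : Type u) [CommRing A'] [Algebra R A'] [Algebra.FinitePresentation R A'] :
    ∃ p : Raw R, Nonempty (Pres p ≃ₐ[R] A') := by
  obtain ⟨n, π, hπ, hker⟩ := (inferInstance : Algebra.FinitePresentation R A').out
  obtain ⟨s, hs⟩ := hker
  exact ⟨⟨n, s⟩, ⟨(Ideal.quotientEquivAlgOfEq R hs).trans
    (Ideal.quotientKerAlgEquivOfSurjective hπ)⟩⟩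

variable {ι : Type u} (P : ι → Raw R)

/-- variables of all members in a set -/
abbrev Var (S : Set ι) : Type u := Σ i : S, ULift.{u} (Fin (P i).1)

/-- the variables of one member -/
def inc (S : Set ι) (i : S) :
    MvPolynomial (Fin (P i).1) R →ₐ[R] MvPolynomial (Var P S) R :=
  rename fun k => ⟨i, ⟨k⟩⟩

/-- all relations -/
def rel (S : Set ι) : Set (MvPolynomial (Var P S) R) :=
  ⋃ i : S, inc P S i '' ((P i).2 : Set _)

/-- the tensor product of the members in a set -/
abbrev T (S : Set ι) : Type u := MvPolynomial (Var P S) R ⧸ Ideal.span (rel P S)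

def inj (S : Set ι) (i : S) : Pres (P i) →ₐ[R] T P S :=
  Ideal.Quotient.liftₐ _ ((Ideal.Quotient.mkₐ R _).comp (inc P S i)) fun a ha => by
    have : Ideal.span ((P i).2 : Set _) ≤
        RingHom.ker ((Ideal.Quotient.mkₐ R (Ideal.span (rel P S))).comp (inc P S i)) :=
      Ideal.span_le.mpr fun r hr => Ideal.Quotient.eq_zero_iff_mem.mpr
        (Ideal.subset_span (Set.mem_iUnion.mpr ⟨i, r, hr, rfl⟩))
    exact this ha

theorem inj_mk (S : Set ι) (i : S) (x : MvPolynomial (Fin (P i).1) R) :
    inj P S i (Ideal.Quotient.mk _ x) = Ideal.Quotient.mk _ (inc P S i x) := rfl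

def lift (S : Set ι) {B : Type u} [CommRing B] [Algebra R B]
    (f : ∀ i : S, Pres (P i) →ₐ[R] B) : T P S →ₐ[R] B :=
  Ideal.Quotient.liftₐ _ (aeval fun v : Var P S => f v.1 (Ideal.Quotient.mk _ (X v.2.down)))
    fun a ha => by
      have h : Ideal.span (rel P S) ≤
          RingHom.ker (aeval fun v : Var P S => f v.1 (Ideal.Quotient.mk _ (X v.2.down))) := by
        refine Ideal.span_le.mpr ?_
        intro r hr
        obtain ⟨i, x, hx, rfl⟩ := Set.mem_iUnion.mp hr
        show aeval _ (inc P S i x) = 0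
        rw [inc, aeval_rename]
        have h1 : (f i).comp (Ideal.Quotient.mkₐ R _) =
            aeval fun k => f i (Ideal.Quotient.mk _ (X k)) := by
          ext k; simp
        show (aeval fun k => f i (Ideal.Quotient.mk _ (X k))) x = 0
        rw [← h1]
        show f i (Ideal.Quotient.mk _ x) = 0
        rw [Ideal.Quotient.eq_zero_iff_mem.mpr (Ideal.subset_span hx), map_zero]
      exact h ha

theorem lift_inj (S : Set ι) {B : Type u} [CommRing B] [Algebra R B]
    (f : ∀ i : S, Pres (P i) →ₐ[R] B) (i : S) : (lift P S f).comp (inj P S i) = f i := by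
  apply Ideal.Quotient.algHom_ext
  ext k
  show lift P S f (inj P S i (Ideal.Quotient.mk _ (X k))) = f i (Ideal.Quotient.mk _ (X k))
  rw [inj_mk]
  show aeval _ (inc P S i (X k)) = _
  rw [inc, rename_X, aeval_X]

theorem ext (S : Set ι) {B : Type u} [CommRing B] [Algebra R B]
    (f g : T P S →ₐ[R] B) (h : ∀ i : S, f.comp (inj P S i) = g.comp (inj P S i)) : f = g := by
  apply Ideal.Quotient.algHom_ext
  ext v
  obtain ⟨i, ⟨k⟩⟩ := v
  have := DFunLike.congr_fun (h i) (Ideal.Quotient.mk _ (X k))
  rw [AlgHom.comp_apply, AlgHom.comp_apply, inj_mk, inc, rename_X] at this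
  exact this

theorem formallyEtale (S : Set ι) (he : ∀ i, Algebra.FormallyEtale R (Pres (P i))) :
    Algebra.FormallyEtale R (T P S) := by
  rw [Algebra.FormallyEtale.iff_comp_bijective]
  intro B _ _ J hJ
  refine ⟨fun f g hfg => ext P S f g fun i => ?_, fun σ => ?_⟩
  · have := he i
    refine Algebra.FormallyUnramified.comp_injective J hJ ?_
    exact congrArg (fun t => AlgHom.comp t (inj P S i)) hfg
  · have hl : ∀ i : S, ∃ τ : Pres (P i) →ₐ[R] B,
        (Ideal.Quotient.mkₐ R J).comp τ = σ.comp (inj P S i) := fun i => by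
      have := he i
      exact Algebra.FormallySmooth.comp_surjective R _ J hJ _
    choose τ hτ using hl
    refine ⟨lift P S τ, ext P S _ _ fun i => ?_⟩
    show ((Ideal.Quotient.mkₐ R J).comp (lift P S τ)).comp (inj P S i) = _
    rw [AlgHom.comp_assoc, lift_inj, hτ]

theorem etale (S : Set ι) (hS : S.Finite) (he : ∀ i, Algebra.FormallyEtale R (Pres (P i))) :
    Algebra.Etale R (T P S) := by
  have : Finite S := hS
  have hfp : Algebra.FinitePresentation R (T P S) := by
    have : Finite (Var P S) := inferInstance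
    exact Algebra.FinitePresentation.quotient (Submodule.fg_span
      (Set.finite_iUnion fun i => (Finset.finite_toSet _).image _))
  exact ⟨formallyEtale P S he, hfp⟩

/-- extending variables to everything -/
def ext' (S : Set ι) (v : Var P S) : Var P Set.univ := ⟨⟨v.1.1, trivial⟩, v.2⟩

theorem ext'_injective (S : Set ι) : Function.Injective (ext' P S) := by
  rintro ⟨⟨a, ha⟩, x⟩ ⟨⟨b, hb⟩, y⟩ h
  simp only [ext', Sigma.mk.injEq, Subtype.mk.injEq] at h
  obtain ⟨rfl, h⟩ := h
  rw [eq_of_heq h]

theorem exists_rename_finite (f : MvPolynomial (Var P Set.univ) R) :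
    ∃ S : Set ι, S.Finite ∧ ∀ S', S ⊆ S' → ∃ g : MvPolynomial (Var P S') R,
      rename (ext' P S') g = f := by
  classical
  refine ⟨(fun v : Var P Set.univ => v.1.1) '' (f.vars : Set _), f.vars.finite_toSet.image _,
    fun S' hS' => ?_⟩
  exact exists_rename_eq_of_vars_subset_range f _ (ext'_injective P S')
    fun v hv => ⟨⟨⟨v.1.1, hS' ⟨v, hv, rfl⟩⟩, v.2⟩, rfl⟩

theorem exists_finite_stage {x : MvPolynomial (Var P Set.univ) R}
    (hx : x ∈ Ideal.span (rel P Set.univ)) :
    ∃ S : Set ι, S.Finite ∧ ∀ (S' : Set ι), S ⊆ S' → ∀ (f : MvPolynomial (Var P S') R),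
      rename (ext' P S') f = x → f ∈ Ideal.span (rel P S') := by
  classical
  obtain ⟨W, hW, hxW⟩ := Submodule.mem_span_finite_of_mem_span hx
  obtain ⟨c, -, hc⟩ := Submodule.mem_span_finset.mp hxW
  have hr : ∀ r : W, ∃ i : ι, ∃ y ∈ (P i).2, inc P Set.univ ⟨i, trivial⟩ y = r := fun r => by
    obtain ⟨i, y, hy, hyr⟩ := Set.mem_iUnion.mp (hW r.2)
    exact ⟨i, y, hy, hyr⟩
  choose ir yr hyr hyeq using hr
  choose Sc hScf hSc using fun r : W => exists_rename_finite P (c r)
  refine ⟨Set.range ir ∪ ⋃ r, Sc r, (Set.finite_range ir).union (Set.finite_iUnion hScf),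
    fun S' hS' f hf => ?_⟩
  choose d hd using fun r => hSc r S'
    (((Set.subset_iUnion Sc r).trans Set.subset_union_right).trans hS')
  have heq : f = ∑ r : W, d r * inc P S' ⟨ir r, hS' (Or.inl ⟨r, rfl⟩)⟩ (yr r) := by
    refine rename_injective _ (ext'_injective P S') ?_
    rw [hf, map_sum, ← hc, ← Finset.sum_coe_sort W]
    refine Finset.sum_congr rfl fun r _ => ?_
    rw [map_mul, hd, inc, rename_rename, smul_eq_mul]
    congr 1
    exact (hyeq r).symm
  rw [heq]
  exact sum_mem fun r _ => Ideal.mul_mem_left _ _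
    (Ideal.subset_span (Set.mem_iUnion.mpr ⟨_, _, hyr r, rfl⟩))

/-- restriction to a set of members -/
def stage (S : Set ι) : T P S →ₐ[R] T P Set.univ :=
  lift P S fun i => inj P Set.univ ⟨i.1, trivial⟩

theorem stage_mk (S : Set ι) (f : MvPolynomial (Var P S) R) :
    stage P S (Ideal.Quotient.mk _ f) = Ideal.Quotient.mk _ (rename (ext' P S) f) := by
  have : (stage P S).comp (Ideal.Quotient.mkₐ R _) =
      (Ideal.Quotient.mkₐ R _).comp (rename (ext' P S)) := by
    refine MvPolynomial.algHom_ext fun v => ?_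
    show aeval _ (X v) = Ideal.Quotient.mk _ (rename _ (X v))
    rw [rename_X, aeval_X, inj_mk, inc, rename_X]
    rfl
  exact DFunLike.congr_fun this f

theorem stage_comp_inj (S : Set ι) (i : S) :
    (stage P S).comp (inj P S i) = inj P Set.univ ⟨i.1, trivial⟩ :=
  lift_inj P S _ i

end Groth.Agent.HensPoint.Tens
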