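import Groth.Agent.HensPoint.DirColim
import Groth.Agent.HensPoint.Tens
import Groth.Agent.HensPoint.Trans
import Mathlib.Algebra.Colimit.Ring
import Mathlib.RingTheory.Spectrum.Prime.Chevalley
import Mathlib.RingTheory.Ideal.GoingDown
import Mathlib.RingTheory.Smooth.Flat
import Mathlib.RingTheory.Etale.Field
import Mathlib.FieldTheory.IsAlgClosed.AlgebraicClosure
import Mathlib.RingTheory.LocalRing.ResidueField.Ideal

/-!
Faithfully flat colimits of etale algebras with retractions for all faithfully flat etale algebras.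
-/

set_option autoImplicit false
set_option synthInstance.maxHeartbeats 200000

noncomputable section

open scoped TensorProduct

namespace Groth.Agent.HensPoint.EtRetr

universe u

/-- an algebraically closed point of an etale algebra over a given one -/
theorem exists_point {R B Ω : Type u} [CommRing R] [CommRing B] [Algebra R B] [Algebra.Etale R B]
    [Field Ω] [IsAlgClosed Ω] [Algebra R Ω] (q : PrimeSpectrum B)
    (h : q.asIdeal.comap (algebraMap R B) = RingHom.ker (algebraMap R Ω)) :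
    Nonempty (B →ₐ[R] Ω) := by
  let p := RingHom.ker (algebraMap R Ω)
  have hp : p.IsPrime := RingHom.ker_isPrime _
  let K := p.ResidueField
  let κ : K →+* Ω := Ideal.ResidueField.lift p (algebraMap R Ω) le_rfl fun x hx => (Ne.isUnit hx : _)
  let : Algebra K Ω := κ.toAlgebra
  have : IsScalarTower R K Ω := IsScalarTower.of_algebraMap_eq fun r =>
    (Ideal.ResidueField.lift_algebraMap _ _ _ _ r).symm
  let L := q.asIdeal.ResidueField
  let κ' : K →+* L := Ideal.ResidueField.map p q.asIdeal (algebraMap R B) h.symm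
  let : Algebra K L := κ'.toAlgebra
  have : IsScalarTower R K L := IsScalarTower.of_algebraMap_eq fun r => by
    show algebraMap R L r = κ' (algebraMap R K r)
    rw [IsScalarTower.algebraMap_apply R B L, Ideal.ResidueField.map_algebraMap]
  let D := K ⊗[R] B
  have : Nontrivial D :=
    (Algebra.TensorProduct.lift (Algebra.ofId K L) (IsScalarTower.toAlgHom R B L)
      fun _ _ => Commute.all _ _ : D →ₐ[K] L).toRingHom.domain_nontrivial
  have : Module.Finite K D := Algebra.FormallyUnramified.finite_of_free K D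
  obtain ⟨M, hM⟩ := Ideal.exists_maximal D
  let : Field (D ⧸ M) := Ideal.Quotient.field M
  have : Module.Finite K (D ⧸ M) :=
    Module.Finite.of_surjective (Ideal.Quotient.mkₐ K M).toLinearMap Ideal.Quotient.mk_surjective
  let e : D ⧸ M →ₐ[K] Ω := IsAlgClosed.lift
  exact ⟨((e.comp (Ideal.Quotient.mkₐ K M)).restrictScalars R).comp Algebra.TensorProduct.includeRight⟩

/-- flat algebras with a point over each prime are faithfully flat -/
theorem faithfullyFlat_of_points {R S : Type u} [CommRing R] [CommRing S] [Algebra R S] [Module.Flat R S]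
    (h : ∀ (Ω : Type u) [Field Ω] [IsAlgClosed Ω] [Algebra R Ω], Nonempty (S →ₐ[R] Ω)) :
    Module.FaithfullyFlat R S := by
  refine Module.FaithfullyFlat.of_comap_surjective fun p => ?_
  let Ω := AlgebraicClosure p.asIdeal.ResidueField
  obtain ⟨σ⟩ := h Ω
  refine ⟨⟨RingHom.ker σ.toRingHom, RingHom.ker_isPrime _⟩, PrimeSpectrum.ext (Ideal.ext fun r => ?_)⟩
  show σ (algebraMap R S r) = 0 ↔ r ∈ p.asIdeal
  rw [σ.commutes, IsScalarTower.algebraMap_apply R p.asIdeal.ResidueField Ω,
    FaithfulSMul.algebraMap_eq_zero_iff, Ideal.algebraMap_residueField_eq_zero]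

theorem exists_point_of_faithfullyFlat {R B Ω : Type u} [CommRing R] [CommRing B] [Algebra R B]
    [Algebra.Etale R B] [Module.FaithfullyFlat R B] [Field Ω] [IsAlgClosed Ω] [Algebra R Ω] :
    Nonempty (B →ₐ[R] Ω) := by
  have hp : (RingHom.ker (algebraMap R Ω)).IsPrime := RingHom.ker_isPrime _
  obtain ⟨q, hq⟩ := PrimeSpectrum.comap_surjective_of_faithfullyFlat (A := R) (B := B)
    ⟨RingHom.ker (algebraMap R Ω), hp⟩
  exact exists_point q (congrArg PrimeSpectrum.asIdeal hq)

section tensor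

variable {R : Type u} [CommRing R] {ι : Type u} (P : ι → Tens.Raw R)

def tr (S S' : Finset ι) (h : S ≤ S') : Tens.T P (S : Set ι) →ₐ[R] Tens.T P (S' : Set ι) :=
  Tens.lift P _ fun i => Tens.inj P _ ⟨i.1, h i.2⟩

theorem stage_tr (S S' : Finset ι) (h : S ≤ S') :
    (Tens.stage P (S' : Set ι)).comp (tr P S S' h) = Tens.stage P (S : Set ι) :=
  Tens.ext P _ _ _ fun i => by
    rw [AlgHom.comp_assoc, tr, Tens.lift_inj, Tens.stage_comp_inj, Tens.stage_comp_inj]

theorem tr_mk (S S' : Finset ι) (h : S ≤ S') (f : MvPolynomial (Tens.Var P (S : Set ι)) R) :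
    tr P S S' h (Ideal.Quotient.mk _ f) =
      Ideal.Quotient.mk _ (MvPolynomial.rename (fun v => ⟨⟨v.1.1, h v.1.2⟩, v.2⟩) f) := by
  have : (tr P S S' h).comp (Ideal.Quotient.mkₐ R _) =
      (Ideal.Quotient.mkₐ R _).comp (MvPolynomial.rename fun v => ⟨⟨v.1.1, h v.1.2⟩, v.2⟩) := by
    refine MvPolynomial.algHom_ext fun v => ?_
    show MvPolynomial.aeval _ (MvPolynomial.X v) = Ideal.Quotient.mk _ (MvPolynomial.rename _ (MvPolynomial.X v))
    rw [MvPolynomial.rename_X, MvPolynomial.aeval_X, Tens.inj_mk, Tens.inc, MvPolynomial.rename_X]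
  exact DFunLike.congr_fun this f

theorem tensor_facts (he : ∀ i, Algebra.Etale R (Tens.Pres (P i)))
    (hff : ∀ i, Module.FaithfullyFlat R (Tens.Pres (P i))) :
    EtColim.IsEtColim R (Tens.T P Set.univ) ∧ Module.FaithfullyFlat R (Tens.T P Set.univ) := by
  classical
  have het : ∀ S : Finset ι, Algebra.Etale R (Tens.T P (S : Set ι)) := fun S =>
    Tens.etale P _ S.finite_toSet fun i => (he i).formallyEtale
  have hcol : EtColim.IsEtColim R (Tens.T P Set.univ) := by
    refine DirColim.isEtColim (J := Finset ι) (B := fun S => Tens.T P (S : Set ι)) (g := tr P)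
      (c := fun S => Tens.stage P (S : Set ι)) (fun i j h x => DFunLike.congr_fun (stage_tr P i j h) x)
      (fun a => ?_) (fun i x hx => ?_) fun S => DirColim.isEtColim_self
    · obtain ⟨f, rfl⟩ := Ideal.Quotient.mk_surjective a
      obtain ⟨S, hS, hS'⟩ := Tens.exists_rename_finite P f
      obtain ⟨g, hg⟩ := hS' (hS.toFinset : Set ι) (by simp)
      exact ⟨hS.toFinset, Ideal.Quotient.mk _ g, by rw [Tens.stage_mk, hg]⟩
    · obtain ⟨f, rfl⟩ := Ideal.Quotient.mk_surjective x
      rw [Tens.stage_mk, Ideal.Quotient.eq_zero_iff_mem] at hx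
      obtain ⟨S, hS, hS'⟩ := Tens.exists_finite_stage P hx
      refine ⟨i ∪ hS.toFinset, Finset.subset_union_left, ?_⟩
      rw [tr_mk, Ideal.Quotient.eq_zero_iff_mem]
      refine hS' _ (fun a ha => ?_) _ ?_
      · exact Finset.mem_coe.mpr (Finset.mem_union_right _ (hS.mem_toFinset.mpr ha))
      · rw [MvPolynomial.rename_rename]; rfl
  refine ⟨hcol, ?_⟩
  have := hcol.flat
  refine faithfullyFlat_of_points fun Ω _ _ _ => ?_
  exact ⟨Tens.lift P _ fun i =>
    have := he i.1; have := hff i.1; (exists_point_of_faithfullyFlat (Ω := Ω)).some⟩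

end tensor

variable (A : Type u) [CommRing A]

/-- one step -/
structure Stg where
  R : Type u
  [cr : CommRing R]
  [alg : Algebra A R]
  col : EtColim.IsEtColim A R
  ff : Module.FaithfullyFlat A R

attribute [instance] Stg.cr Stg.alg

variable {A}

/-- all faithfully flat etale presentations -/
def Idx (R : Type u) [CommRing R] : Type u :=
  {p : Tens.Raw R // Algebra.Etale R (Tens.Pres p) ∧ Module.FaithfullyFlat R (Tens.Pres p)}

abbrev Big (R : Type u) [CommRing R] : Type u :=
  Tens.T (fun i : Idx R => i.1) Set.univ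

theorem big_facts (R : Type u) [CommRing R] :
    EtColim.IsEtColim R (Big R) ∧ Module.FaithfullyFlat R (Big R) :=
  tensor_facts _ (fun i => i.2.1) fun i => i.2.2

def next (s : Stg A) : Stg A :=
  { R := Big s.R
    col := Trans.trans s.col (big_facts s.R).1
    ff := haveI := s.ff; haveI := (big_facts s.R).2; Module.FaithfullyFlat.trans A s.R (Big s.R) }

variable (A) in
def seq : ℕ → Stg A
  | 0 => ⟨A, DirColim.isEtColim_self, inferInstance⟩
  | n + 1 => next (seq n)

variable (A) in
abbrev C (n : ℕ) : Type u := (seq A n).R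

def step (n : ℕ) : C A n →ₐ[A] C A (n + 1) :=
  (IsScalarTower.toAlgHom A (C A n) (Big (C A n)) : C A n →ₐ[A] Big (C A n))

def g (i j : ℕ) (h : i ≤ j) : C A i →ₐ[A] C A j :=
  Nat.leRecOn (C := fun k => C A i →ₐ[A] C A k) h (fun {k} ψ => (step k).comp ψ) (AlgHom.id A (C A i))

theorem g_self (i : ℕ) : g i i le_rfl = AlgHom.id A (C A i) := Nat.leRecOn_self _

theorem g_succ (i j : ℕ) (h : i ≤ j) : g i (j + 1) (h.trans j.le_succ) = (step (A := A) j).comp (g i j h) :=
  Nat.leRecOn_succ h _

theorem g_trans (i j k : ℕ) (h : i ≤ j) (h' : j ≤ k) :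
    (g (A := A) j k h').comp (g i j h) = g i k (h.trans h') := by
  induction k, h' using Nat.le_induction with
  | base => rw [g_self, AlgHom.id_comp]
  | succ k hk ih => rw [g_succ j k hk, AlgHom.comp_assoc, ih, ← g_succ]

instance directedSystem : DirectedSystem (C A) (fun i j h => ((g i j h : C A i →ₐ[A] C A j) : C A i →+* C A j)) where
  map_self i x := DFunLike.congr_fun (g_self i) x
  map_map k j i hij hjk x := DFunLike.congr_fun (g_trans i j k hij hjk) x

variable (A) in
abbrev Lim : Type u :=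
  Ring.DirectLimit (C A) (fun i j h => ((g i j h : C A i →ₐ[A] C A j) : C A i →+* C A j))

instance algebraLim : Algebra A (Lim A) :=
  ((Ring.DirectLimit.of (C A) (fun i j h => ((g i j h : C A i →ₐ[A] C A j) : C A i →+* C A j)) 0).comp
    (algebraMap A (C A 0))).toAlgebra

def c (n : ℕ) : C A n →ₐ[A] Lim A :=
  { toRingHom := Ring.DirectLimit.of (C A) (fun i j h => ((g i j h : C A i →ₐ[A] C A j) : C A i →+* C A j)) n
    commutes' := fun a => by
      show _ = Ring.DirectLimit.of _ _ 0 (algebraMap A (C A 0) a)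
      rw [← Ring.DirectLimit.of_f (Nat.zero_le n) (algebraMap A (C A 0) a)]
      exact congrArg _ ((g 0 n (Nat.zero_le n)).commutes a).symm }

theorem c_g (i j : ℕ) (h : i ≤ j) (x : C A i) : c j (g i j h x) = c i x :=
  Ring.DirectLimit.of_f h x

theorem c_surj (z : Lim A) : ∃ n x, c (A := A) n x = z := Ring.DirectLimit.exists_of z

theorem c_zero (i : ℕ) (x : C A i) (h : c i x = 0) : ∃ j, ∃ hij : i ≤ j, g i j hij x = 0 :=
  Ring.DirectLimit.of.zero_exact (f' := fun i j h => ((g i j h : C A i →ₐ[A] C A j) : C A i →+* C A j)) h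

variable (A) in
theorem isEtColim : EtColim.IsEtColim A (Lim A) :=
  DirColim.isEtColim c_g c_surj c_zero fun n => (seq A n).col

variable (A) in
theorem faithfullyFlat : Module.FaithfullyFlat A (Lim A) :=
  have := (isEtColim A).flat
  DirColim.faithfullyFlat c_g c_surj c_zero fun n => (seq A n).ff

theorem exists_retraction (B : Type u) [CommRing B] [Algebra (Lim A) B]
    [Module.FaithfullyFlat (Lim A) B] [Algebra.Etale (Lim A) B] : Nonempty (B →ₐ[Lim A] Lim A) := by
  classical
  obtain ⟨A₀, B₀, _, _, hA₀, _, ⟨e⟩⟩ := Algebra.Etale.exists_subalgebra_fg ℤ (Lim A) B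
  have : Algebra.FiniteType ℤ A₀ := (Subalgebra.fg_iff_finiteType A₀).mp hA₀
  have : Algebra.FinitePresentation ℤ A₀ := Algebra.FinitePresentation.of_finiteType.mp ‹_›
  obtain ⟨i, ι, hι⟩ := DirColim.exists_factor (R := ℤ)
    (g := fun i j h => ((g i j h : C A i →ₐ[A] C A j) : C A i →+* C A j).toIntAlgHom)
    (c := fun n => ((c n : C A n →ₐ[A] Lim A) : C A n →+* Lim A).toIntAlgHom)
    c_g c_surj c_zero A₀.val
  -- the open image
  have hopen : IsOpen (Set.range (PrimeSpectrum.comap (algebraMap A₀ B₀))) :=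
    (PrimeSpectrum.isOpenMap_comap_of_hasGoingDown_of_finitePresentation).isOpen_range
  obtain ⟨J, hJ⟩ := (PrimeSpectrum.isClosed_iff_zeroLocus_ideal _).mp hopen.isClosed_compl
  have hJtop : (J.map ι).map (c i) = ⊤ := by
    by_contra hne
    obtain ⟨M, hM, hle⟩ := Ideal.exists_le_maximal _ hne
    obtain ⟨q, hq⟩ := PrimeSpectrum.comap_surjective_of_faithfullyFlat (A := Lim A) (B := B) ⟨M, hM.isPrime⟩
    let w : B₀ →+* B := e.symm.toRingEquiv.toRingHom.comp
      (Algebra.TensorProduct.includeRight (R := A₀) (A := Lim A) (B := B₀)).toRingHom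
    have hw : ∀ a : A₀, w (algebraMap A₀ B₀ a) = algebraMap (Lim A) B (a : Lim A) := fun a => by
      show e.symm ((1 : Lim A) ⊗ₜ[A₀] algebraMap A₀ B₀ a) = _
      rw [show (1 : Lim A) ⊗ₜ[A₀] algebraMap A₀ B₀ a = algebraMap (Lim A) _ (a : Lim A) from
        Algebra.TensorProduct.tmul_one_eq_one_tmul (R := A₀) (A := Lim A) (B := B₀) a |>.symm]
      exact e.symm.commutes _
    have hmem : PrimeSpectrum.comap A₀.val.toRingHom ⟨M, hM.isPrime⟩ ∈ PrimeSpectrum.zeroLocus (J : Set A₀) := by
      intro a ha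
      show (A₀.val a) ∈ M
      rw [← hι]
      exact hle (Ideal.mem_map_of_mem _ (Ideal.mem_map_of_mem _ ha))
    rw [← hJ] at hmem
    refine hmem ⟨PrimeSpectrum.comap w q, PrimeSpectrum.ext (Ideal.ext fun a => ?_)⟩
    show w (algebraMap A₀ B₀ a) ∈ q.asIdeal ↔ (a : Lim A) ∈ M
    rw [hw]
    exact Iff.of_eq (congrArg (fun I : PrimeSpectrum (Lim A) => (a : Lim A) ∈ I.asIdeal) hq)
  obtain ⟨m, ρ, hρ, hρJ⟩ := DirColim.exists_map_eq_top (A := Lim A) c_g c_surj c_zero (J.map ι) hJtop
  let : Algebra A₀ (C A m) := (ρ.toRingHom.comp ι.toRingHom).toAlgebra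
  let D := C A m ⊗[A₀] B₀
  have : Module.Flat (C A m) D := Algebra.Smooth.flat _ _
  have hD : Module.FaithfullyFlat (C A m) D := by
    refine faithfullyFlat_of_points fun Ω _ _ _ => ?_
    let : Algebra A₀ Ω := ((algebraMap (C A m) Ω).comp (algebraMap A₀ (C A m))).toAlgebra
    have : IsScalarTower A₀ (C A m) Ω := IsScalarTower.of_algebraMap_eq' rfl
    have hker : (RingHom.ker (algebraMap A₀ Ω)).IsPrime := RingHom.ker_isPrime _
    by_cases h : (⟨_, hker⟩ : PrimeSpectrum A₀) ∈ Set.range (PrimeSpectrum.comap (algebraMap A₀ B₀))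
    · obtain ⟨q, hq⟩ := h
      obtain ⟨σ⟩ := exists_point (Ω := Ω) q (congrArg PrimeSpectrum.asIdeal hq)
      exact ⟨Algebra.TensorProduct.lift (Algebra.ofId _ Ω) σ fun _ _ => Commute.all _ _⟩
    · exfalso
      have hz : (⟨_, hker⟩ : PrimeSpectrum A₀) ∈ PrimeSpectrum.zeroLocus (J : Set A₀) := hJ ▸ h
      have hle : (J.map ι).map ρ ≤ RingHom.ker (algebraMap (C A m) Ω) :=
        Ideal.map_le_iff_le_comap.mpr (Ideal.map_le_iff_le_comap.mpr fun a ha => hz ha)
      exact (RingHom.ker_isPrime (algebraMap (C A m) Ω)).ne_top (top_le_iff.mp (hρJ ▸ hle))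
  obtain ⟨p, ⟨ep⟩⟩ := Tens.exists_pres (R := C A m) D
  have hp1 : Algebra.Etale (C A m) (Tens.Pres p) := Algebra.Etale.of_equiv ep.symm
  have hp2 : Module.FaithfullyFlat (C A m) (Tens.Pres p) := Module.FaithfullyFlat.of_linearEquiv _ _ ep.toLinearEquiv
  let r : D →ₐ[C A m] Big (C A m) :=
    (Tens.inj _ Set.univ ⟨(⟨p, hp1, hp2⟩ : Idx (C A m)), trivial⟩).comp ep.symm.toAlgHom
  let θ : D →+* Lim A := (c (m + 1)).toRingHom.comp r.toRingHom
  have hθ : ∀ x : C A m, θ (algebraMap (C A m) D x) = c m x := fun x => by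
    show c (m + 1) (r (algebraMap (C A m) D x)) = c m x
    rw [r.commutes, ← c_g m (m + 1) m.le_succ x, g_succ m m le_rfl, g_self]
    rfl
  have hA₀ : ∀ a : A₀, c m (algebraMap A₀ (C A m) a) = (a : Lim A) := fun a =>
    (DFunLike.congr_fun hρ (ι a)).trans (DFunLike.congr_fun hι a)
  let σ : B₀ →ₐ[A₀] Lim A :=
    { toRingHom := θ.comp (Algebra.TensorProduct.includeRight (R := A₀) (A := C A m) (B := B₀)).toRingHom
      commutes' := fun a => by
        show θ ((1 : C A m) ⊗ₜ[A₀] algebraMap A₀ B₀ a) = (a : Lim A)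
        rw [← Algebra.TensorProduct.tmul_one_eq_one_tmul, ← hA₀ a]
        exact hθ _ }
  exact ⟨(Algebra.TensorProduct.lift (Algebra.ofId (Lim A) (Lim A)) σ fun _ _ => Commute.all _ _).comp
    e.toAlgHom⟩

end Groth.Agent.HensPoint.EtRetr
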