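import Groth.Agent.HensPoint.GeomUniScheme
import Mathlib.AlgebraicGeometry.Morphisms.Flat
import Mathlib.AlgebraicGeometry.Morphisms.UniversallyOpen

/-!
Topology of unramified morphisms to geometrically unibranch schemes.
-/

set_option autoImplicit false

noncomputable section

open CategoryTheory AlgebraicGeometry TopologicalSpace

namespace Groth.Agent.HensPoint.GeomUniTop

universe u

variable {X Y : Scheme.{u}} (f : X ⟶ Y) [IrreducibleSpace Y]

theorem exists_gen_of_etale {W : X.Opens} [Etale (W.ι ≫ f)] {z : X} (hz : z ∈ W) :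
    ∃ z' : X, z' ⤳ z ∧ f z' = genericPoint Y := by
  have hη : genericPoint Y ⤳ (W.ι ≫ f) ⟨z, hz⟩ := (genericPoint_spec Y).specializes trivial
  obtain ⟨z', hz', hfz'⟩ := Flat.generalizingMap (W.ι ≫ f) hη
  exact ⟨z'.1, hz'.map W.ι.continuous, hfz'⟩

omit [IrreducibleSpace Y] in
theorem locallyQuasiFinite [LocallyOfFiniteType f] [FormallyUnramified f] : LocallyQuasiFinite f := by
  rw [HasRingHomProperty.iff_appLE (P := @LocallyQuasiFinite)]
  intro U V e
  have h1 := f.finiteType_appLE U.2 V.2 e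
  have h2 := f.formallyUnramified_appLE U.2 V.2 e
  algebraize [(f.appLE U V e).hom]
  have : Algebra.QuasiFinite Γ(Y, U) Γ(X, V) := inferInstance
  exact this

theorem finite_generic [LocallyOfFiniteType f] [FormallyUnramified f] (x : X) :
    ∃ V : X.Opens, x ∈ V ∧ {p : X | p ∈ V ∧ f p = genericPoint Y}.Finite := by
  obtain ⟨_, ⟨U, hU, rfl⟩, hxU, -⟩ :=
    Y.isBasis_affineOpens.exists_subset_of_mem_open (Set.mem_univ (f x)) isOpen_univ
  obtain ⟨_, ⟨V, hV, rfl⟩, hxV, hVU⟩ :=
    X.isBasis_affineOpens.exists_subset_of_mem_open hxU (U.2.preimage f.continuous)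
  refine ⟨V, hxV, ?_⟩
  have : IsAffine (Scheme.Opens.toScheme (X := X) V) := hV
  have : IsAffine (Scheme.Opens.toScheme (X := Y) U) := hU
  have hη : genericPoint Y ∈ U := (genericPoint_spec Y).mem_open_set_iff U.2 |>.mpr ⟨f x, trivial, hxU⟩
  have := locallyQuasiFinite f
  let g := f.resLE U V hVU
  have hfin := g.finite_preimage_singleton ⟨genericPoint Y, hη⟩
  refine (hfin.image Subtype.val).subset ?_
  rintro p ⟨hp, hfp⟩
  exact ⟨⟨p, hp⟩, Subtype.ext (by simpa [g] using hfp), rfl⟩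

variable {f}

theorem isClopen_gen [LocallyOfFiniteType f] [FormallyUnramified f]
    (hopen : ∀ x : X, (∃ x', x' ⤳ x ∧ f x' = genericPoint Y) → ∃ W : X.Opens, x ∈ W ∧ Etale (W.ι ≫ f)) :
    IsClopen {x : X | ∃ x', x' ⤳ x ∧ f x' = genericPoint Y} := by
  constructor
  · rw [← isOpen_compl_iff, isOpen_iff_forall_mem_open]
    intro x hx
    obtain ⟨V, hxV, hfin⟩ := finite_generic f x
    let C : Set X := ⋃ p ∈ {p : X | p ∈ V ∧ f p = genericPoint Y}, closure {p}
    have hC : IsClosed C := hfin.isClosed_biUnion fun p _ => isClosed_closure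
    refine ⟨(V : Set X) ∩ Cᶜ, ?_, V.2.inter hC.isOpen_compl, hxV, fun hxC => ?_⟩
    · rintro z ⟨hzV, hzC⟩ ⟨z', hz', hfz'⟩
      exact hzC (Set.mem_biUnion ⟨hz'.mem_open V.2 hzV, hfz'⟩ (specializes_iff_mem_closure.mp hz'))
    · obtain ⟨p, hp, hpx⟩ := Set.mem_iUnion₂.mp hxC
      exact hx ⟨p, specializes_iff_mem_closure.mpr hpx, hp.2⟩
  · rw [isOpen_iff_forall_mem_open]
    intro x hx
    obtain ⟨W, hxW, hW⟩ := hopen x hx
    exact ⟨W, fun z hz => exists_gen_of_etale f hz, W.2, hxW⟩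

theorem unique_gen [LocallyOfFiniteType f] [FormallyUnramified f] (x : X)
    (hx : CAlg2.IsUnibranch (X.presheaf.stalk x)) {p p' : X} (hp : p ⤳ x) (hfp : f p = genericPoint Y)
    (hp' : p' ⤳ x) (hfp' : f p' = genericPoint Y) : p = p' := by
  have := locallyQuasiFinite f
  have hd := hx.1
  have hN : (nilradical (X.presheaf.stalk x)).IsPrime := (Ideal.Quotient.isDomain_iff_prime _).mp hd
  let ξ : X := X.fromSpecStalk x ⟨nilradical (X.presheaf.stalk x), hN⟩
  have key : ∀ {p : X}, p ⤳ x → f p = genericPoint Y → p = ξ := by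
    intro p hp hfp
    have hpr : p ∈ Set.range (X.fromSpecStalk x) := by rw [Scheme.range_fromSpecStalk]; exact hp
    obtain ⟨P, rfl⟩ := hpr
    have hle : (⟨nilradical (X.presheaf.stalk x), hN⟩ : PrimeSpectrum (X.presheaf.stalk x)) ⤳ P :=
      (PrimeSpectrum.le_iff_specializes _ _).mp (nilradical_le_prime P.asIdeal)
    have hsp : ξ ⤳ X.fromSpecStalk x P := hle.map (X.fromSpecStalk x).continuous
    have hfξ : f ξ = genericPoint Y := ((genericPoint_spec Y).specializes trivial).antisymm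
      (hfp ▸ hsp.map f.continuous) |>.eq.symm
    obtain ⟨O, hO, hOp⟩ := ((isDiscrete_iff_forall_exists_isOpen.mp
      (f.isDiscrete_preimage_singleton (genericPoint Y))) (X.fromSpecStalk x P) hfp)
    have : ξ ∈ O ∩ f ⁻¹' {genericPoint Y} :=
      ⟨hsp.mem_open hO (hOp.ge (Set.mem_singleton _)).1, hfξ⟩
    rw [hOp] at this
    exact this.symm
  rw [key hp hfp, key hp' hfp']

section components

variable [LocallyOfFiniteType f] [FormallyUnramified f]
  (hgen : ∀ x : X, ∃ x', x' ⤳ x ∧ f x' = genericPoint Y)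
  (huni : ∀ x : X, CAlg2.IsUnibranch (X.presheaf.stalk x))

include hgen huni

theorem isOpen_closure {p : X} (hp : f p = genericPoint Y) : IsOpen (closure ({p} : Set X)) := by
  rw [isOpen_iff_forall_mem_open]
  intro z hz
  obtain ⟨V, hzV, hfin⟩ := finite_generic f z
  let C : Set X := ⋃ q ∈ {q : X | q ∈ V ∧ f q = genericPoint Y} \ {p}, closure {q}
  have hC : IsClosed C := (hfin.sdiff).isClosed_biUnion fun q _ => isClosed_closure
  refine ⟨(V : Set X) ∩ Cᶜ, ?_, V.2.inter hC.isOpen_compl, hzV, fun hzC => ?_⟩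
  · rintro w ⟨hwV, hwC⟩
    obtain ⟨q, hqw, hfq⟩ := hgen w
    by_cases hqp : q = p
    · subst hqp
      exact specializes_iff_mem_closure.mp hqw
    · exact absurd (Set.mem_biUnion (x := q) (show q ∈ {q : X | q ∈ V ∧ f q = genericPoint Y} \ {p} from ⟨⟨hqw.mem_open V.2 hwV, hfq⟩, hqp⟩)
        (specializes_iff_mem_closure.mp hqw)) hwC
  · obtain ⟨q, hq, hqz⟩ := Set.mem_iUnion₂.mp hzC
    exact hq.2 (Set.mem_singleton_iff.mpr (unique_gen z (huni z) (specializes_iff_mem_closure.mpr hqz) hq.1.2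
      (specializes_iff_mem_closure.mpr hz) hp))

theorem component_eq {Z : Set X} (hZ : Z ∈ irreducibleComponents X) :
    ∃ p, f p = genericPoint Y ∧ Z = closure {p} := by
  obtain ⟨x, hx⟩ := hZ.1.1
  obtain ⟨p, hpx, hfp⟩ := hgen x
  refine ⟨p, hfp, ?_⟩
  -- `Z` meets the clopen set `closure {p}` and is irreducible
  have hsub : Z ⊆ closure {p} := by
    have hcl : IsClopen (closure ({p} : Set X)) := ⟨isClosed_closure, isOpen_closure hgen huni hfp⟩
    exact (IsIrreducible.isConnected hZ.1).isPreconnected.subset_isClopen hcl ⟨x, hx, specializes_iff_mem_closure.mp hpx⟩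
  exact le_antisymm hsub (hZ.2 (isIrreducible_singleton.closure) hsub)

theorem components :
    (∀ x : X, ∃! Z, Z ∈ irreducibleComponents X ∧ x ∈ Z) ∧
      (∀ Z ∈ irreducibleComponents X, IsOpen Z ∧ ∃! x : X, x ∈ Z ∧ f x = genericPoint Y) := by
  have huniq : ∀ {p q : X}, f p = genericPoint Y → f q = genericPoint Y → p ⤳ q → p = q := fun {p q} hp hq h =>
    unique_gen q (huni q) h hp specializes_rfl hq
  refine ⟨fun x => ?_, fun Z hZ => ?_⟩
  · obtain ⟨p, hpx, hfp⟩ := hgen x
    have hcomp : closure ({p} : Set X) ∈ irreducibleComponents X := by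
      refine ⟨isIrreducible_singleton.closure, fun Z hZ hle => ?_⟩
      exact (IsIrreducible.isConnected hZ).isPreconnected.subset_isClopen ⟨isClosed_closure, isOpen_closure hgen huni hfp⟩
        ⟨p, hle (subset_closure (Set.mem_singleton p)), subset_closure (Set.mem_singleton p)⟩
    refine ⟨closure {p}, ⟨hcomp, specializes_iff_mem_closure.mp hpx⟩, fun Z ⟨hZ, hxZ⟩ => ?_⟩
    obtain ⟨q, hfq, rfl⟩ := component_eq hgen huni hZ
    rw [unique_gen x (huni x) (specializes_iff_mem_closure.mpr hxZ) hfq hpx hfp]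
  · obtain ⟨p, hfp, rfl⟩ := component_eq hgen huni hZ
    exact ⟨isOpen_closure hgen huni hfp, p, ⟨subset_closure (Set.mem_singleton p), hfp⟩,
      fun q ⟨hq, hfq⟩ => (huniq hfp hfq (specializes_iff_mem_closure.mpr hq)).symm⟩

theorem irreducibleSpace [ConnectedSpace X] : IrreducibleSpace X := by
  obtain ⟨x⟩ := (inferInstance : Nonempty X)
  obtain ⟨p, -, hfp⟩ := hgen x
  have h : closure ({p} : Set X) = Set.univ :=
    IsClopen.eq_univ ⟨isClosed_closure, isOpen_closure hgen huni hfp⟩ ⟨p, subset_closure (Set.mem_singleton p)⟩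
  rw [irreducibleSpace_def, Set.top_eq_univ, ← h]
  exact isIrreducible_singleton.closure

end components

theorem unramified_connected [IsIntegral Y] [LocallyOfFiniteType f] [FormallyUnramified f] [ConnectedSpace X]
    (hY : ∀ y : Y, CAlg2.IsGeomUnibranch (Y.presheaf.stalk y)) (hη : ∃ x : X, f x = genericPoint Y) :
    Etale f ∧ IrreducibleSpace X ∧ IsIntegral X ∧ ∀ x : X, CAlg2.IsGeomUnibranch (X.presheaf.stalk x) := by
  have hopen : ∀ x : X, (∃ x', x' ⤳ x ∧ f x' = genericPoint Y) → ∃ W : X.Opens, x ∈ W ∧ Etale (W.ι ≫ f) :=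
    fun x hx => GeomUniScheme.exists_etale_nhd f x (hY _) hx (FormallyUnramified.stalkMap f x)
  obtain ⟨x₀, hx₀⟩ := hη
  have hall : ∀ x : X, ∃ x', x' ⤳ x ∧ f x' = genericPoint Y := fun x =>
    Set.eq_univ_iff_forall.mp (IsClopen.eq_univ (isClopen_gen hopen) ⟨x₀, x₀, specializes_rfl, hx₀⟩) x
  have hst : ∀ x : X, IsDomain (X.presheaf.stalk x) ∧ CAlg2.IsGeomUnibranch (X.presheaf.stalk x) :=
    fun x => GeomUniScheme.domain_geomUnibranch_of_etale f x inferInstance (hY _) (hopen x (hall x))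
  have hirr := irreducibleSpace hall fun x => (hst x).2.1
  have : ∀ x : X, _root_.IsReduced (X.presheaf.stalk x) := fun x => by
    have := (hst x).1
    infer_instance
  have : IsReduced X := isReduced_of_isReduced_stalk X
  refine ⟨?_, hirr, isIntegral_of_irreducibleSpace_of_isReduced X, fun x => (hst x).2⟩
  choose W hxW hW using fun x => hopen x (hall x)
  refine (IsZariskiLocalAtSource.iff_of_iSup_eq_top (P := @Etale) W ?_).mpr hW
  exact top_le_iff.mp fun x _ => Opens.mem_iSup.mpr ⟨x, hxW x⟩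

end Groth.Agent.HensPoint.GeomUniTop
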