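import Groth.Agent.HensPoint.Tens
import Groth.Agent.HensPair.Basic
import Groth.Agent.EtAlg.ZeroLocusNhd
import Mathlib.RingTheory.Etale.StandardEtale
import Mathlib.RingTheory.Etale.Kaehler
import Mathlib.RingTheory.Unramified.LocalRing
import Mathlib.RingTheory.Flat.EquationalCriterion

/-!
The henselization of a ring at a field valued point.
-/

set_option autoImplicit false

noncomputable section

open IsLocalRing Polynomial

namespace Groth.Agent.HensPoint.Hull

universe u

variable (R : Type u) [CommRing R] (Ω : Type u) [Field Ω] [Algebra R Ω]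

/-- etale algebras with a point -/
def Idx : Type u :=
  {x : Σ p : Tens.Raw R, (Tens.Pres p →ₐ[R] Ω) // Algebra.Etale R (Tens.Pres x.1)}

/-- the presentations -/
def raw (i : Idx R Ω) : Tens.Raw R := i.1.1

instance etale_raw (i : Idx R Ω) : Algebra.Etale R (Tens.Pres (raw R Ω i)) := i.2

/-- the total point -/
def point : Tens.T (raw R Ω) Set.univ →ₐ[R] Ω :=
  Tens.lift (raw R Ω) Set.univ fun i => i.1.1.2

/-- its kernel -/
def center : Ideal (Tens.T (raw R Ω) Set.univ) := RingHom.ker (point R Ω)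

instance center_isPrime : (center R Ω).IsPrime := RingHom.ker_isPrime _

/-- the henselization at the point -/
def H : Type u := Localization.AtPrime (center R Ω)

instance : CommRing (H R Ω) := inferInstanceAs (CommRing (Localization.AtPrime (center R Ω)))

instance : Algebra R (H R Ω) := inferInstanceAs (Algebra R (Localization.AtPrime (center R Ω)))

instance : Algebra (Tens.T (raw R Ω) Set.univ) (H R Ω) :=
  inferInstanceAs (Algebra (Tens.T (raw R Ω) Set.univ) (Localization.AtPrime (center R Ω)))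

instance : IsScalarTower R (Tens.T (raw R Ω) Set.univ) (H R Ω) :=
  inferInstanceAs (IsScalarTower R (Tens.T (raw R Ω) Set.univ) (Localization.AtPrime (center R Ω)))

instance : IsLocalization.AtPrime (H R Ω) (center R Ω) :=
  inferInstanceAs (IsLocalization.AtPrime (Localization.AtPrime (center R Ω)) (center R Ω))

instance : IsLocalRing (H R Ω) :=
  inferInstanceAs (IsLocalRing (Localization.AtPrime (center R Ω)))

/-- the point of the henselization -/
def π : H R Ω →ₐ[R] Ω :=
  IsLocalization.liftAlgHom (M := (center R Ω).primeCompl) (f := point R Ω) fun y =>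
    isUnit_iff_ne_zero.mpr y.2

variable {R Ω}

theorem π_algebraMap (t : Tens.T (raw R Ω) Set.univ) :
    π R Ω (algebraMap _ (H R Ω) t) = point R Ω t :=
  IsLocalization.lift_eq (M := (center R Ω).primeCompl) _ t

theorem π_inj (i : Idx R Ω) (z : Tens.Pres (raw R Ω i)) :
    π R Ω (algebraMap _ (H R Ω) (Tens.inj (raw R Ω) Set.univ ⟨i, trivial⟩ z)) = i.1.2 z := by
  have h := Tens.lift_inj (raw R Ω) Set.univ
    (fun j : (Set.univ : Set (Idx R Ω)) => (j.1.1.2 : Tens.Pres (raw R Ω j) →ₐ[R] Ω)) ⟨i, trivial⟩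
  rw [π_algebraMap]
  exact DFunLike.congr_fun h z

theorem mem_maximalIdeal_iff (x : H R Ω) : x ∈ maximalIdeal (H R Ω) ↔ π R Ω x = 0 := by
  obtain ⟨a, s, rfl⟩ := IsLocalization.exists_mk'_eq (center R Ω).primeCompl x
  rw [IsLocalization.AtPrime.mk'_mem_maximal_iff (H R Ω) (center R Ω) a s]
  have h := congrArg (π R Ω) (IsLocalization.mk'_spec (H R Ω) a s)
  rw [map_mul, π_algebraMap, π_algebraMap] at h
  have hs : point R Ω s ≠ 0 := s.2
  constructor
  · intro ha
    rw [show point R Ω a = 0 from ha] at h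
    exact (mul_eq_zero.mp h).resolve_right hs
  · intro hx
    rw [hx, zero_mul] at h
    exact h.symm

/-- etale algebras with points occur -/
theorem exists_idx (A' : Type u) [CommRing A'] [Algebra R A'] [Algebra.Etale R A'] (σ : A' →ₐ[R] Ω) :
    ∃ (i : Idx R Ω) (e : Tens.Pres (raw R Ω i) ≃ₐ[R] A'), σ.comp e.toAlgHom = i.1.2 := by
  obtain ⟨p, ⟨e⟩⟩ := Tens.exists_pres (R := R) A'
  exact ⟨⟨⟨p, σ.comp e.toAlgHom⟩, Algebra.Etale.of_equiv e.symm⟩, e, rfl⟩

theorem hom_eq {A' : Type u} [CommRing A'] [Algebra R A'] [Algebra.Etale R A']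
    {B : Type u} [CommRing B] [Algebra R B] [IsLocalRing B] (τ₁ τ₂ : A' →ₐ[R] B)
    (h : ∀ x, τ₁ x - τ₂ x ∈ maximalIdeal B) : τ₁ = τ₂ :=
  HensPair.Unique.algHom_eq (maximalIdeal_le_jacobson _) τ₁ τ₂ h

theorem hom_eq_of_π {A' : Type u} [CommRing A'] [Algebra R A'] [Algebra.Etale R A']
    (τ₁ τ₂ : A' →ₐ[R] H R Ω) (h : ∀ x, π R Ω (τ₁ x) = π R Ω (τ₂ x)) : τ₁ = τ₂ :=
  hom_eq τ₁ τ₂ fun x => (mem_maximalIdeal_iff _).mpr (by rw [map_sub, h, sub_self])

theorem exists_hom (A' : Type u) [CommRing A'] [Algebra R A'] [Algebra.Etale R A'] (σ : A' →ₐ[R] Ω) :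
    ∃ τ : A' →ₐ[R] H R Ω, (π R Ω).comp τ = σ := by
  obtain ⟨i, e, he⟩ := exists_idx A' σ
  refine ⟨((IsScalarTower.toAlgHom R _ (H R Ω)).comp
    (Tens.inj (raw R Ω) Set.univ ⟨i, trivial⟩)).comp e.symm.toAlgHom, AlgHom.ext fun x => ?_⟩
  show π R Ω (algebraMap _ _ (Tens.inj (raw R Ω) Set.univ ⟨i, trivial⟩ (e.symm x))) = σ x
  rw [π_inj]
  refine (DFunLike.congr_fun he (e.symm x)).symm.trans ?_
  exact congrArg σ (e.apply_symm_apply x)

theorem stage_etale (S : Set (Idx R Ω)) (hS : S.Finite) :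
    Algebra.Etale R (Tens.T (raw R Ω) S) :=
  Tens.etale _ S hS fun i => (etale_raw R Ω i).formallyEtale

/-- finitely many elements come from one etale algebra -/
theorem exists_rep {κ : Type*} [Finite κ] (x : κ → H R Ω) :
    ∃ (A' : Type u) (_ : CommRing A') (_ : Algebra R A') (_ : Algebra.Etale R A')
      (φ : A' →ₐ[R] H R Ω), ∀ k, ∃ r, φ r = x k := by
  classical
  let P := raw R Ω
  choose t ht using fun k => IsLocalization.surj (center R Ω).primeCompl (x k)
  choose p hp using fun k => Ideal.Quotient.mk_surjective (t k).1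
  choose q hq using fun k => Ideal.Quotient.mk_surjective ((t k).2 : Tens.T P Set.univ)
  choose Sp hSpf hSp using fun k => Tens.exists_rename_finite P (p k)
  choose Sq hSqf hSq using fun k => Tens.exists_rename_finite P (q k)
  let S : Set (Idx R Ω) := ⋃ k, (Sp k ∪ Sq k)
  have hS : S.Finite := Set.finite_iUnion fun k => (hSpf k).union (hSqf k)
  choose p' hp' using fun k => hSp k S
    ((Set.subset_union_left).trans (Set.subset_iUnion (fun k => Sp k ∪ Sq k) k))
  choose q' hq' using fun k => hSq k S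
    ((Set.subset_union_right).trans (Set.subset_iUnion (fun k => Sp k ∪ Sq k) k))
  have : Fintype κ := Fintype.ofFinite κ
  let g : Tens.T P S := ∏ k, Ideal.Quotient.mk _ (q' k)
  have hstage : ∀ k, Tens.stage P S (Ideal.Quotient.mk _ (q' k)) = (t k).2 := fun k => by
    rw [Tens.stage_mk, hq', hq]
  have hg : Tens.stage P S g ∈ (center R Ω).primeCompl := by
    rw [map_prod]
    exact Submonoid.prod_mem _ fun k _ => (hstage k).symm ▸ (t k).2.2
  have := stage_etale S hS
  let L := Localization.Away g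
  have hL : Algebra.Etale R L :=
    have : Algebra.Etale (Tens.T P S) L := EtAlg.ZeroLocusNhd.etale_away g
    Algebra.Etale.comp R (Tens.T P S) L
  let ψ₀ : Tens.T P S →ₐ[R] H R Ω := (IsScalarTower.toAlgHom R _ (H R Ω)).comp (Tens.stage P S)
  have hψg : IsUnit (ψ₀ g) :=
    IsLocalization.map_units (H R Ω) (⟨_, hg⟩ : (center R Ω).primeCompl)
  let ψ : L →ₐ[R] H R Ω := IsLocalization.liftAlgHom (M := Submonoid.powers g) (f := ψ₀)
    fun y => by obtain ⟨k, hk⟩ := y.2; rw [← hk, map_pow]; exact hψg.pow k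
  have hψ : ∀ z, ψ (algebraMap (Tens.T P S) L z) =
      algebraMap (Tens.T P Set.univ) (H R Ω) (Tens.stage P S z) :=
    fun z => IsLocalization.lift_eq (M := Submonoid.powers g) _ z
  refine ⟨L, inferInstance, inferInstance, hL, ψ, fun k => ?_⟩
  have hu : IsUnit (algebraMap (Tens.T P S) L (Ideal.Quotient.mk _ (q' k))) :=
    isUnit_of_dvd_unit (map_dvd _ (Finset.dvd_prod_of_mem
      (fun k => (Ideal.Quotient.mk _ (q' k) : Tens.T P S)) (Finset.mem_univ k)))
      (IsLocalization.Away.algebraMap_isUnit g)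
  refine ⟨algebraMap (Tens.T P S) L (Ideal.Quotient.mk _ (p' k)) * ↑hu.unit⁻¹, ?_⟩
  refine (IsUnit.mul_left_inj (IsLocalization.map_units (H R Ω) (t k).2)).mp ?_
  rw [ht k, ← hstage k, ← hψ, ← map_mul, mul_assoc, IsUnit.val_inv_mul, mul_one, hψ, Tens.stage_mk,
    hp', hp]

/-- relations are already true at a finite stage -/
theorem exists_kill {A' : Type u} [CommRing A'] [Algebra R A'] [Algebra.Etale R A']
    (φ : A' →ₐ[R] H R Ω) {κ : Type*} [Finite κ] (s : κ → A') (hs : ∀ k, φ (s k) = 0) :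
    ∃ (A'' : Type u) (_ : CommRing A'') (_ : Algebra R A'') (_ : Algebra.Etale R A'')
      (χ : A'' →ₐ[R] H R Ω) (ψ : A' →ₐ[R] A''), χ.comp ψ = φ ∧ ∀ k, ψ (s k) = 0 := by
  classical
  let P := raw R Ω
  obtain ⟨i, e, he⟩ := exists_idx A' ((π R Ω).comp φ)
  let ι : A' →ₐ[R] Tens.T P Set.univ := (Tens.inj P Set.univ ⟨i, trivial⟩).comp e.symm.toAlgHom
  have hφ : φ = (IsScalarTower.toAlgHom R _ (H R Ω)).comp ι := by
    refine hom_eq_of_π _ _ fun x => ?_
    show π R Ω (φ x) = π R Ω (algebraMap _ _ (Tens.inj P Set.univ ⟨i, trivial⟩ (e.symm x)))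
    rw [π_inj]
    refine Eq.trans ?_ (DFunLike.congr_fun he (e.symm x))
    exact congrArg (fun z => π R Ω (φ z)) (e.apply_symm_apply x).symm
  choose y hy using fun k => Ideal.Quotient.mk_surjective (e.symm (s k))
  have h0 : ∀ k, ∃ m : (center R Ω).primeCompl, (m : Tens.T P Set.univ) *
      Ideal.Quotient.mk _ (Tens.inc P Set.univ ⟨i, trivial⟩ (y k)) = 0 := fun k => by
    have := hs k
    rw [hφ] at this
    exact (IsLocalization.map_eq_zero_iff (center R Ω).primeCompl (H R Ω) _).mp (by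
      rw [← Tens.inj_mk, hy]; exact this)
  choose m hm using h0
  choose q hq using fun k => Ideal.Quotient.mk_surjective (m k : Tens.T P Set.univ)
  have hmem : ∀ k, q k * Tens.inc P Set.univ ⟨i, trivial⟩ (y k) ∈ Ideal.span (Tens.rel P Set.univ) :=
    fun k => by rw [← Ideal.Quotient.eq_zero_iff_mem, map_mul, hq]; exact hm k
  choose Sr hSrf hSr using fun k => Tens.exists_finite_stage P (hmem k)
  choose Sq hSqf hSq using fun k => Tens.exists_rename_finite P (q k)
  let S : Set (Idx R Ω) := insert i (⋃ k, (Sr k ∪ Sq k))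
  have hS : S.Finite := (Set.finite_iUnion fun k => (hSrf k).union (hSqf k)).insert i
  have hsub : ∀ k, Sr k ∪ Sq k ⊆ S := fun k =>
    (Set.subset_iUnion (fun k => Sr k ∪ Sq k) k).trans (Set.subset_insert _ _)
  choose q' hq' using fun k => hSq k S ((Set.subset_union_right).trans (hsub k))
  let iS : S := ⟨i, Set.mem_insert _ _⟩
  have hzero : ∀ k, (Ideal.Quotient.mk _ (q' k) : Tens.T P S) *
      Ideal.Quotient.mk _ (Tens.inc P S iS (y k)) = 0 := fun k => by
    rw [← map_mul, Ideal.Quotient.eq_zero_iff_mem]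
    refine hSr k S ((Set.subset_union_left).trans (hsub k)) _ ?_
    rw [map_mul, hq', Tens.inc, MvPolynomial.rename_rename]
    rfl
  have : Fintype κ := Fintype.ofFinite κ
  let g : Tens.T P S := ∏ k, Ideal.Quotient.mk _ (q' k)
  have hg : Tens.stage P S g ∈ (center R Ω).primeCompl := by
    rw [map_prod]
    refine Submonoid.prod_mem _ fun k _ => ?_
    rw [Tens.stage_mk, hq', hq]; exact (m k).2
  have := stage_etale S hS
  let L := Localization.Away g
  have hL : Algebra.Etale R L :=
    have : Algebra.Etale (Tens.T P S) L := EtAlg.ZeroLocusNhd.etale_away g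
    Algebra.Etale.comp R (Tens.T P S) L
  let ψ₀ : Tens.T P S →ₐ[R] H R Ω := (IsScalarTower.toAlgHom R _ (H R Ω)).comp (Tens.stage P S)
  have hψg : IsUnit (ψ₀ g) :=
    IsLocalization.map_units (H R Ω) (⟨_, hg⟩ : (center R Ω).primeCompl)
  let χ : L →ₐ[R] H R Ω := IsLocalization.liftAlgHom (M := Submonoid.powers g) (f := ψ₀)
    fun y => by obtain ⟨k, hk⟩ := y.2; rw [← hk, map_pow]; exact hψg.pow k
  let ψ : A' →ₐ[R] L := ((IsScalarTower.toAlgHom R (Tens.T P S) L).comp (Tens.inj P S iS)).comp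
    e.symm.toAlgHom
  refine ⟨L, inferInstance, inferInstance, hL, χ, ψ, AlgHom.ext fun x => ?_, fun k => ?_⟩
  · rw [hφ]
    show χ (algebraMap (Tens.T P S) L (Tens.inj P S iS (e.symm x))) = _
    refine (IsLocalization.lift_eq (M := Submonoid.powers g) _ _).trans ?_
    show algebraMap (Tens.T P Set.univ) (H R Ω) (Tens.stage P S (Tens.inj P S iS (e.symm x))) = _
    rw [← AlgHom.comp_apply (Tens.stage P S), Tens.stage_comp_inj]
    rfl
  · show algebraMap (Tens.T P S) L (Tens.inj P S iS (e.symm (s k))) = 0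
    rw [← hy, Tens.inj_mk]
    have hu : IsUnit (algebraMap (Tens.T P S) L (Ideal.Quotient.mk _ (q' k))) :=
      isUnit_of_dvd_unit (map_dvd _ (Finset.dvd_prod_of_mem
        (fun k => (Ideal.Quotient.mk _ (q' k) : Tens.T P S)) (Finset.mem_univ k)))
        (IsLocalization.Away.algebraMap_isUnit g)
    refine hu.mul_right_eq_zero.mp ?_
    rw [← map_mul, hzero, map_zero]

theorem formallyEtale : Algebra.FormallyEtale R (H R Ω) :=
  have : Algebra.FormallyEtale R (Tens.T (raw R Ω) Set.univ) :=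
    Tens.formallyEtale _ _ fun i => (etale_raw R Ω i).formallyEtale
  have : Algebra.FormallyEtale (Tens.T (raw R Ω) Set.univ) (H R Ω) :=
    Algebra.FormallyEtale.of_isLocalization (center R Ω).primeCompl
  Algebra.FormallyEtale.comp R (Tens.T (raw R Ω) Set.univ) (H R Ω)

theorem flat : Module.Flat R (H R Ω) := by
  refine Module.Flat.iff_forall_isTrivialRelation.mpr fun {l f x} hfx => ?_
  obtain ⟨A₁, _, _, _, φ, hr⟩ := exists_rep x
  choose r hr using hr
  obtain ⟨A₂, _, _, _, χ, ψ, hχ, hψ⟩ := exists_kill φ (fun _ : Unit => ∑ j, f j • r j)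
    fun _ => by simpa [map_sum, hr] using hfx
  have h0 : ∑ j, f j • ψ (r j) = 0 := by simpa [map_sum] using hψ ()
  obtain ⟨n, a, y, hy, ha⟩ := Module.Flat.iff_forall_isTrivialRelation.mp
    (inferInstance : Module.Flat R A₂) h0
  refine ⟨n, a, fun j => χ (y j), fun j => ?_, ha⟩
  rw [← hr j, ← hχ, AlgHom.comp_apply, show ψ (r j) = _ from hy j, map_sum]
  simp

/-- algebraic separable elements of the field lie in the residue field -/
theorem mem_range_π (f : R[X]) (hf : f.Monic) (a : Ω) (ha : aeval a f = 0)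
    (hd : aeval a f.derivative ≠ 0) : ∃ x, π R Ω x = a := by
  let P : StandardEtalePair R := ⟨f, hf, f.derivative, 1, 0, 1, by ring⟩
  obtain ⟨τ, hτ⟩ := exists_hom P.Ring (P.lift a ⟨ha, isUnit_iff_ne_zero.mpr hd⟩)
  exact ⟨τ P.X, (DFunLike.congr_fun hτ P.X).trans (P.lift_X a _)⟩

theorem henselian : HenselianLocalRing (H R Ω) := by
  refine { is_henselian := fun f hf a₀ h₀ hu => ?_ }
  obtain ⟨A₁, _, _, _, φ, h⟩ := exists_rep fun k : Option (Fin f.natDegree) =>
    Option.elim k a₀ fun j => f.coeff j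
  choose r hr using h
  let f₁ : A₁[X] := X ^ f.natDegree + ∑ j : Fin f.natDegree, C (r (some j)) * X ^ (j : ℕ)
  have hmon : f₁.Monic := monic_X_pow_add (degree_sum_fin_lt _)
  have hφf : f₁.map φ.toRingHom = f := by
    conv_rhs => rw [hf.as_sum]
    simp only [f₁, Polynomial.map_add, Polynomial.map_pow, Polynomial.map_X, Polynomial.map_sum,
      Polynomial.map_mul, Polynomial.map_C, AlgHom.toRingHom_eq_coe, AlgHom.coe_toRingHom, hr,
      Option.elim_some]
    rw [← Fin.sum_univ_eq_sum_range fun j => C (f.coeff j) * X ^ j]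
  have ha₀ : φ (r none) = a₀ := hr none
  set b := r none with hb
  let σ₁ : A₁ →ₐ[R] Ω := (π R Ω).comp φ
  have hev : φ (f₁.eval b) = f.eval a₀ := by
    refine (eval_map_apply (p := f₁) φ.toRingHom b).symm.trans ?_
    rw [hφf]; exact congrArg (fun z => f.eval z) ha₀
  have hder : φ (f₁.derivative.eval b) = f.derivative.eval a₀ := by
    refine (eval_map_apply (p := derivative f₁) φ.toRingHom b).symm.trans ?_
    rw [← derivative_map, hφf]; exact congrArg (fun z => f.derivative.eval z) ha₀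
  set k : A₁[X] := (f₁ - C (f₁.eval b)) /ₘ (X - C b)
  have hmul : (X - C b) * k = f₁ - C (f₁.eval b) :=
    mul_divByMonic_eq_iff_isRoot.mpr (by simp [IsRoot])
  have hkb : k.eval b = f₁.derivative.eval b := by
    have := congrArg (fun p : A₁[X] => p.derivative.eval b) hmul
    simpa [derivative_mul] using this
  let P : StandardEtalePair A₁ := ⟨f₁, hmon, derivative f₁ * k, k, 0, 1, by ring⟩
  let algR : Algebra R P.Ring := ((algebraMap A₁ P.Ring).comp (algebraMap R A₁)).toAlgebra
  have : IsScalarTower R A₁ P.Ring := IsScalarTower.of_algebraMap_eq' rfl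
  have : Algebra.Etale R P.Ring := Algebra.Etale.comp R A₁ P.Ring
  let algΩ : Algebra A₁ Ω := σ₁.toRingHom.toAlgebra
  have : IsScalarTower R A₁ Ω := IsScalarTower.of_algebraMap_eq fun a => (σ₁.commutes a).symm
  have hmap : P.HasMap (algebraMap A₁ Ω b) := by
    constructor
    · rw [aeval_algebraMap_apply, coe_aeval_eq_eval]
      show π R Ω (φ (f₁.eval b)) = 0
      rw [hev]
      exact (mem_maximalIdeal_iff _).mp h₀
    · rw [aeval_algebraMap_apply, coe_aeval_eq_eval, eval_mul, hkb]
      refine isUnit_iff_ne_zero.mpr fun h0 => ?_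
      rw [map_mul, mul_self_eq_zero] at h0
      have h1 : π R Ω (φ (f₁.derivative.eval b)) = 0 := h0
      rw [hder, ← mem_maximalIdeal_iff] at h1
      exact h1 hu
  obtain ⟨ψ, hψ⟩ := exists_hom P.Ring ((P.lift _ hmap).restrictScalars R)
  have hcomp : ψ.comp (IsScalarTower.toAlgHom R A₁ P.Ring) = φ := by
    refine hom_eq_of_π _ _ fun x => ?_
    refine (DFunLike.congr_fun hψ _).trans ?_
    exact (P.lift _ hmap).commutes x
  refine ⟨ψ P.X, ?_, ?_⟩
  · show f.eval (ψ P.X) = 0
    rw [← hφf, eval_map, ← hcomp]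
    refine (hom_eval₂ f₁ (algebraMap A₁ P.Ring) ψ.toRingHom P.X).symm.trans ?_
    rw [show f₁.eval₂ (algebraMap A₁ P.Ring) P.X = 0 from P.hasMap_X.1, map_zero]
  · rw [mem_maximalIdeal_iff, map_sub, sub_eq_zero, ← ha₀]
    exact (DFunLike.congr_fun hψ P.X).trans (P.lift_X _ hmap)

/-- the universal property -/
theorem existsUnique_algHom (B : Type u) [CommRing B] [Algebra R B] [HenselianLocalRing B]
    (τ : ResidueField (H R Ω) →+* ResidueField B)
    (hτ : ∀ r, τ (residue _ (algebraMap R (H R Ω) r)) = residue B (algebraMap R B r)) :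
    ∃! g : H R Ω →ₐ[R] B, ∀ x, residue B (g x) = τ (residue _ x) := by
  let P := raw R Ω
  let ι : Tens.T P Set.univ →ₐ[R] H R Ω := IsScalarTower.toAlgHom R _ _
  let ρ : H R Ω →ₐ[R] ResidueField B := ⟨τ.comp (residue _), fun r => hτ r⟩
  choose f hf using fun i : (Set.univ : Set (Idx R Ω)) => (HensPair.Basic.existsUnique_lift
    (J := maximalIdeal B) (Tens.Pres (P i)) (ρ.comp (ι.comp (Tens.inj P Set.univ i)))).exists
  let Φ := Tens.lift P Set.univ f
  have hΦ : ∀ t, residue B (Φ t) = τ (residue _ (ι t)) := by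
    have : (Ideal.Quotient.mkₐ R (maximalIdeal B)).comp Φ = ρ.comp ι := by
      refine Tens.ext P Set.univ _ _ fun i => ?_
      rw [AlgHom.comp_assoc, Tens.lift_inj, hf]
      rfl
    exact fun t => DFunLike.congr_fun this t
  have hu : ∀ y : (center R Ω).primeCompl, IsUnit (Φ y) := fun y => by
    have h1 : residue B (Φ y) ≠ 0 := by
      rw [hΦ]
      exact (map_ne_zero τ).mpr (((IsLocalization.map_units (H R Ω) y).map (residue _)).ne_zero)
    exact notMem_maximalIdeal.mp fun hm => h1 ((residue_eq_zero_iff _).mpr hm)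
  let g : H R Ω →ₐ[R] B := IsLocalization.liftAlgHom (M := (center R Ω).primeCompl) (f := Φ) hu
  have hg : ∀ t, g (ι t) = Φ t := fun t => IsLocalization.lift_eq (M := (center R Ω).primeCompl) _ t
  have hres : ∀ x, residue B (g x) = τ (residue _ x) := by
    have : (residue B).comp g.toRingHom = τ.comp (residue (H R Ω)) := by
      refine IsLocalization.ringHom_ext (center R Ω).primeCompl (RingHom.ext fun t => ?_)
      show residue B (g (ι t)) = τ (residue _ (ι t))
      rw [hg, hΦ]
    exact fun x => RingHom.congr_fun this x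
  refine ⟨g, hres, fun g' hg' => AlgHom.ext fun x => ?_⟩
  obtain ⟨A', _, _, _, φ, h⟩ := exists_rep fun _ : Unit => x
  obtain ⟨r, rfl⟩ := h ()
  refine DFunLike.congr_fun (hom_eq (g'.comp φ) (g.comp φ) fun z => ?_) r
  rw [← residue_eq_zero_iff, map_sub]
  show residue B (g' (φ z)) - residue B (g (φ z)) = 0
  rw [hg', hres, sub_self]

/-- the maximal ideal comes from the kernel of the point -/
theorem map_ker_eq :
    (RingHom.ker (algebraMap R Ω)).map (algebraMap R (H R Ω)) = maximalIdeal (H R Ω) := by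
  refine le_antisymm (Ideal.map_le_iff_le_comap.mpr fun a ha => ?_) fun x hx => ?_
  · rw [Ideal.mem_comap, mem_maximalIdeal_iff, AlgHom.commutes]; exact ha
  obtain ⟨A', _, _, _, φ, h⟩ := exists_rep fun _ : Unit => x
  obtain ⟨r, rfl⟩ := h ()
  let q : Ideal A' := RingHom.ker ((π R Ω).comp φ)
  have : q.IsPrime := RingHom.ker_isPrime _
  let p : Ideal R := RingHom.ker (algebraMap R Ω)
  have : p.IsPrime := RingHom.ker_isPrime _
  have : q.LiesOver p := ⟨by
    ext a
    show algebraMap R Ω a = 0 ↔ π R Ω (φ (algebraMap R A' a)) = 0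
    rw [AlgHom.commutes, AlgHom.commutes]⟩
  let : Algebra (Localization.AtPrime p) (Localization.AtPrime q) :=
    Localization.AtPrime.algebraOfLiesOver p q
  have hmax := ((Algebra.isUnramifiedAt_iff_map_eq (R := R) p q).mp inferInstance).2
  have hrq : algebraMap A' (Localization.AtPrime q) r ∈
      (p.map (algebraMap R A')).map (algebraMap A' (Localization.AtPrime q)) := by
    rw [Ideal.map_map, ← IsScalarTower.algebraMap_eq, hmax]
    exact (IsLocalization.AtPrime.to_map_mem_maximal_iff _ q r).mpr ((mem_maximalIdeal_iff _).mp hx)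
  obtain ⟨⟨⟨j, hj⟩, t⟩, ht⟩ := (IsLocalization.mem_map_algebraMap_iff q.primeCompl _).mp hrq
  rw [← map_mul] at ht
  obtain ⟨c, hc⟩ := (IsLocalization.eq_iff_exists q.primeCompl _).mp ht
  have hu : IsUnit (φ ((c : A') * (t : A'))) := notMem_maximalIdeal.mp fun hm => by
    rw [mem_maximalIdeal_iff] at hm
    rcases ‹q.IsPrime›.mem_or_mem (show (c : A') * (t : A') ∈ q from hm) with h1 | h1
    exacts [c.2 h1, t.2 h1]
  refine (Ideal.unit_mul_mem_iff_mem _ hu).mp ?_
  rw [← map_mul, mul_assoc, mul_comm (t : A') r, hc]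
  have := Ideal.mem_map_of_mem φ.toRingHom (Ideal.mul_mem_left _ (c : A') hj)
  rwa [Ideal.map_map, AlgHom.toRingHom_eq_coe, AlgHom.comp_algebraMap] at this

end Groth.Agent.HensPoint.Hull
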