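import Groth.Agent.HensPoint.EtColimLoc
import Groth.Agent.HensPoint.EtRetr
import Groth.Agent.HensPair.EtaleSurjLift
import Groth.Agent.HensPoint.Trans
import Mathlib.RingTheory.Ideal.IdempotentFG
import Mathlib.RingTheory.Unramified.Basic

/-!
Colimits of etale algebras lift along surjections.
-/

set_option autoImplicit false
set_option synthInstance.maxHeartbeats 200000

noncomputable section

open scoped TensorProduct

namespace Groth.Agent.HensPoint.IndEtLift

universe u

variable (A : Type u) [CommRing A] (Cb : Type u) [CommRing Cb] [Algebra A Cb]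

def Idx : Type u :=
  {x : Σ p : Tens.Raw A, (Tens.Pres p →ₐ[A] Cb) // Algebra.Etale A (Tens.Pres x.1)}

def raw (i : Idx A Cb) : Tens.Raw A := i.1.1

abbrev T : Type u := Tens.T (raw A Cb) Set.univ

def point : T A Cb →ₐ[A] Cb := Tens.lift (raw A Cb) Set.univ fun i => i.1.1.2

abbrev M : Submonoid (T A Cb) := (IsUnit.submonoid Cb).comap (point A Cb)

def C : Type u := Localization (M A Cb)

instance instCommRingC : CommRing (C A Cb) := inferInstanceAs (CommRing (Localization (M A Cb)))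

instance instAlgebraC : Algebra A (C A Cb) := inferInstanceAs (Algebra A (Localization (M A Cb)))

instance instAlgebraTC : Algebra (T A Cb) (C A Cb) :=
  inferInstanceAs (Algebra (T A Cb) (Localization (M A Cb)))

instance : IsScalarTower A (T A Cb) (C A Cb) :=
  inferInstanceAs (IsScalarTower A (T A Cb) (Localization (M A Cb)))

instance : IsLocalization (M A Cb) (C A Cb) :=
  inferInstanceAs (IsLocalization (M A Cb) (Localization (M A Cb)))

def π : C A Cb →ₐ[A] Cb :=
  IsLocalization.liftAlgHom (M := M A Cb) (f := point A Cb) fun y => y.2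

variable {A Cb}

theorem π_algebraMap (t : T A Cb) : π A Cb (algebraMap _ (C A Cb) t) = point A Cb t :=
  IsLocalization.lift_eq (M := M A Cb) _ t

theorem isUnit_of_π {z : C A Cb} (h : IsUnit (π A Cb z)) : IsUnit z := by
  obtain ⟨⟨a, m⟩, ha⟩ := IsLocalization.surj (M A Cb) z
  have h1 := congrArg (π A Cb) ha
  rw [map_mul, π_algebraMap, π_algebraMap] at h1
  have ha' : a ∈ M A Cb := show IsUnit (point A Cb a) from h1 ▸ h.mul m.2
  exact isUnit_of_mul_isUnit_left (y := algebraMap _ _ (m : T A Cb))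
    (ha ▸ IsLocalization.map_units (C A Cb) (⟨a, ha'⟩ : M A Cb))

theorem hom_eq {A' : Type u} [CommRing A'] [Algebra A A'] [Algebra.Etale A A']
    (τ₁ τ₂ : A' →ₐ[A] C A Cb) (h : ∀ x, π A Cb (τ₁ x) = π A Cb (τ₂ x)) : τ₁ = τ₂ := by
  let K := RingHom.ker (Algebra.TensorProduct.lmul' A (S := A')).toRingHom
  have hK : IsIdempotentElem K :=
    (Ideal.cotangent_subsingleton_iff _).mp
      ((inferInstance : Subsingleton (KaehlerDifferential A A')))
  obtain ⟨e, he, hKe⟩ := (Ideal.isIdempotentElem_iff_of_fg K (KaehlerDifferential.ideal_fg A A')).mp hK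
  let φ : A' ⊗[A] A' →ₐ[A] C A Cb := Algebra.TensorProduct.lift τ₁ τ₂ fun _ _ => Commute.all _ _
  have hcomp : (π A Cb).comp φ = ((π A Cb).comp τ₁).comp (Algebra.TensorProduct.lmul' A) := by
    apply Algebra.TensorProduct.ext' fun a b => ?_
    simp [φ, h]
  have he0 : π A Cb (φ e) = 0 := by
    have hm : Algebra.TensorProduct.lmul' A (S := A') e = 0 :=
      show e ∈ K from hKe.symm ▸ Ideal.mem_span_singleton_self e
    have := DFunLike.congr_fun hcomp e
    simp only [AlgHom.comp_apply, hm, map_zero] at this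
    exact this
  have hu : IsUnit (1 - φ e) := isUnit_of_π (by rw [map_sub, map_one, he0, sub_zero]; exact isUnit_one)
  have hφe : φ e = 0 := hu.mul_left_eq_zero.mp (by
    rw [mul_sub, mul_one, (he.map φ).eq, sub_self])
  refine AlgHom.ext fun x => ?_
  have hx : x ⊗ₜ[A] (1 : A') - (1 : A') ⊗ₜ x ∈ K := by simp [K, RingHom.mem_ker]
  obtain ⟨c, hc⟩ := Ideal.mem_span_singleton'.mp (show _ ∈ Ideal.span {e} from hKe ▸ hx)
  have := congrArg φ hc
  rw [map_mul, hφe, mul_zero, map_sub] at this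
  simpa [φ, sub_eq_zero] using this.symm

theorem exists_hom (A' : Type u) [CommRing A'] [Algebra A A'] [Algebra.Etale A A'] (σ : A' →ₐ[A] Cb) :
    ∃ τ : A' →ₐ[A] C A Cb, (π A Cb).comp τ = σ := by
  obtain ⟨p, ⟨e⟩⟩ := Tens.exists_pres (R := A) A'
  let i : Idx A Cb := ⟨⟨p, σ.comp e.toAlgHom⟩, Algebra.Etale.of_equiv e.symm⟩
  refine ⟨((IsScalarTower.toAlgHom A _ (C A Cb)).comp
    (Tens.inj (raw A Cb) Set.univ ⟨i, trivial⟩)).comp e.symm.toAlgHom, AlgHom.ext fun x => ?_⟩
  show π A Cb (algebraMap _ _ (Tens.inj (raw A Cb) Set.univ ⟨i, trivial⟩ (e.symm x))) = σ x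
  rw [π_algebraMap]
  have h := Tens.lift_inj (raw A Cb) Set.univ
    (fun j : (Set.univ : Set (Idx A Cb)) => (j.1.1.2 : Tens.Pres (raw A Cb j) →ₐ[A] Cb)) ⟨i, trivial⟩
  refine (DFunLike.congr_fun h (e.symm x)).trans ?_
  exact congrArg σ (e.apply_symm_apply x)

variable (A Cb) in
theorem isEtColim : EtColim.IsEtColim A (C A Cb) := by
  classical
  have he : ∀ i : Idx A Cb, Algebra.Etale A (Tens.Pres (raw A Cb i)) := fun i => i.2
  have hT : EtColim.IsEtColim A (T A Cb) := by
    refine DirColim.isEtColim (J := Finset (Idx A Cb)) (g := EtRetr.tr (raw A Cb))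
      (c := fun S => Tens.stage (raw A Cb) (S : Set (Idx A Cb)))
      (fun i j h x => DFunLike.congr_fun (EtRetr.stage_tr _ i j h) x)
      (fun a => ?_) (fun i x hx => ?_) fun S => ?_
    · obtain ⟨f, rfl⟩ := Ideal.Quotient.mk_surjective a
      obtain ⟨S, hS, hS'⟩ := Tens.exists_rename_finite (raw A Cb) f
      obtain ⟨g, hg⟩ := hS' (hS.toFinset : Set (Idx A Cb)) (by simp)
      exact ⟨hS.toFinset, Ideal.Quotient.mk _ g, by rw [Tens.stage_mk, hg]⟩
    · obtain ⟨f, rfl⟩ := Ideal.Quotient.mk_surjective x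
      rw [Tens.stage_mk, Ideal.Quotient.eq_zero_iff_mem] at hx
      obtain ⟨S, hS, hS'⟩ := Tens.exists_finite_stage (raw A Cb) hx
      refine ⟨i ∪ hS.toFinset, Finset.subset_union_left, ?_⟩
      rw [EtRetr.tr_mk, Ideal.Quotient.eq_zero_iff_mem]
      refine hS' _ (fun a ha => ?_) _ ?_
      · exact Finset.mem_coe.mpr (Finset.mem_union_right _ (hS.mem_toFinset.mpr ha))
      · rw [MvPolynomial.rename_rename]; rfl
    · have := Tens.etale (raw A Cb) _ S.finite_toSet fun i => (he i).formallyEtale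
      exact DirColim.isEtColim_self
  exact Trans.trans hT (show EtColim.IsEtColim (T A Cb) (C A Cb) from EtColimLoc.isEtColim_localization (M A Cb))

theorem exists_lift (I : Ideal A) [Algebra (A ⧸ I) Cb] [IsScalarTower A (A ⧸ I) Cb]
    (h : EtColim.IsEtColim (A ⧸ I) Cb) :
    Nonempty ((C A Cb ⧸ I.map (algebraMap A (C A Cb))) ≃ₐ[A ⧸ I] Cb) := by
  classical
  have hI : ∀ i ∈ I, algebraMap A Cb i = 0 := fun i hi => by
    rw [IsScalarTower.algebraMap_apply A (A ⧸ I) Cb, Ideal.Quotient.algebraMap_eq,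
      Ideal.Quotient.eq_zero_iff_mem.mpr hi, map_zero]
  have hle : I.map (algebraMap A (C A Cb)) ≤ RingHom.ker (π A Cb) :=
    Ideal.map_le_iff_le_comap.mpr fun i hi => by
      rw [Ideal.mem_comap, RingHom.mem_ker, AlgHom.commutes, hI i hi]
  let f : (C A Cb ⧸ I.map (algebraMap A (C A Cb))) →ₐ[A ⧸ I] Cb :=
    { toRingHom := Ideal.Quotient.lift _ (π A Cb).toRingHom fun a ha => hle ha
      commutes' := fun a => by
        obtain ⟨a, rfl⟩ := Ideal.Quotient.mk_surjective a
        show π A Cb (algebraMap A (C A Cb) a) = _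
        rw [AlgHom.commutes]
        exact IsScalarTower.algebraMap_apply A (A ⧸ I) Cb a }
  refine ⟨AlgEquiv.ofBijective f ⟨?_, ?_⟩⟩
  · rw [injective_iff_map_eq_zero]
    intro z hz
    obtain ⟨x, rfl⟩ := Ideal.Quotient.mk_surjective z
    replace hz : π A Cb x = 0 := hz
    obtain ⟨A', _, _, _, φ, hr⟩ := (isEtColim A Cb).rep fun _ : Unit => x
    obtain ⟨r, hr⟩ := hr ()
    let φb : ((A ⧸ I) ⊗[A] A') →ₐ[A ⧸ I] Cb :=
      Algebra.TensorProduct.lift (Algebra.ofId _ _) ((π A Cb).comp φ) fun _ _ => Commute.all _ _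
    obtain ⟨E, _, _, _, χ, ψ, hχ, hψ⟩ := h.kill φb (fun _ : Unit => (1 : A ⧸ I) ⊗ₜ[A] r)
      fun _ => by simp only [φb, Algebra.TensorProduct.lift_tmul, map_one, one_mul, AlgHom.comp_apply, hr, hz]
    let : Algebra ((A ⧸ I) ⊗[A] A') E := ψ.toRingHom.toAlgebra
    have : IsScalarTower (A ⧸ I) ((A ⧸ I) ⊗[A] A') E := ⟨fun a q z => by show ψ (a • q) * z = a • (ψ q * z); rw [map_smul, smul_mul_assoc]⟩
    have : Algebra.Etale ((A ⧸ I) ⊗[A] A') E := Algebra.Etale.of_restrictScalars (A ⧸ I) ((A ⧸ I) ⊗[A] A') E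
    let : Algebra A' ((A ⧸ I) ⊗[A] A') := (Algebra.TensorProduct.includeRight (R := A) (A := A ⧸ I)).toRingHom.toAlgebra
    have hsurj : Function.Surjective (algebraMap A' ((A ⧸ I) ⊗[A] A')) := by
      intro q
      induction q using TensorProduct.induction_on with
      | zero => exact ⟨0, map_zero _⟩
      | tmul a b =>
        obtain ⟨a, rfl⟩ := Ideal.Quotient.mk_surjective a
        refine ⟨a • b, ?_⟩
        show (1 : A ⧸ I) ⊗ₜ[A] (a • b) = _
        rw [← TensorProduct.smul_tmul, Algebra.smul_def, mul_one]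
        rfl
      | add p q hp hq =>
        obtain ⟨p', hp⟩ := hp
        obtain ⟨q', hq⟩ := hq
        exact ⟨p' + q', by rw [map_add, hp, hq]⟩
    obtain ⟨A'', _, _, _, ⟨e⟩⟩ := HensPair.EtaleSurjLift.exists_lift (A := A') (Ā := ((A ⧸ I) ⊗[A] A')) (B := E) hsurj
    let : Algebra A A'' := ((algebraMap A' A'').comp (algebraMap A A')).toAlgebra
    have : IsScalarTower A A' A'' := IsScalarTower.of_algebraMap_eq' rfl
    have : Algebra.Etale A A'' := Algebra.Etale.comp A A' A''
    let w : A'' →+* Cb := χ.toRingHom.comp (e.toRingEquiv.toRingHom.comp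
      (Algebra.TensorProduct.includeRight (R := A') (A := ((A ⧸ I) ⊗[A] A')) (B := A'')).toRingHom)
    have hw : ∀ a : A', w (algebraMap A' A'' a) = π A Cb (φ a) := fun a => by
      show χ (e ((1 : ((A ⧸ I) ⊗[A] A')) ⊗ₜ[A'] algebraMap A' A'' a)) = _
      rw [← Algebra.TensorProduct.tmul_one_eq_one_tmul]
      refine (congrArg χ (e.commutes (algebraMap A' ((A ⧸ I) ⊗[A] A') a))).trans ?_
      refine (DFunLike.congr_fun hχ (algebraMap A' ((A ⧸ I) ⊗[A] A') a)).trans ?_
      show φb ((1 : A ⧸ I) ⊗ₜ[A] a) = _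
      simp [φb]
    let σ : A'' →ₐ[A] Cb :=
      { toRingHom := w
        commutes' := fun a => (hw (algebraMap A A' a)).trans (by rw [φ.commutes, AlgHom.commutes]) }
    obtain ⟨τ, hτ⟩ := exists_hom A'' σ
    have hτφ : τ.comp (IsScalarTower.toAlgHom A A' A'') = φ :=
      hom_eq _ _ fun a => (DFunLike.congr_fun hτ (algebraMap A' A'' a)).trans (hw a)
    have hmem : algebraMap A' A'' r ∈ I.map (algebraMap A A'') := by
      let lA : (A ⧸ I) →ₐ[A] A'' ⧸ I.map (algebraMap A A'') :=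
        Ideal.Quotient.liftₐ I (Algebra.ofId A _) fun i hi =>
          Ideal.Quotient.eq_zero_iff_mem.mpr (Ideal.mem_map_of_mem _ hi)
      let lQ : ((A ⧸ I) ⊗[A] A') →ₐ[A] A'' ⧸ I.map (algebraMap A A'') :=
        Algebra.TensorProduct.lift lA (IsScalarTower.toAlgHom A A' _) fun _ _ => Commute.all _ _
      let lQ' : ((A ⧸ I) ⊗[A] A') →ₐ[A'] A'' ⧸ I.map (algebraMap A A'') :=
        { toRingHom := lQ.toRingHom
          commutes' := fun a => by
            show lQ ((1 : A ⧸ I) ⊗ₜ[A] a) = _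
            simp [lQ] }
      let l : ((A ⧸ I) ⊗[A] A') ⊗[A'] A'' →ₐ[A'] A'' ⧸ I.map (algebraMap A A'') :=
        Algebra.TensorProduct.lift lQ' (IsScalarTower.toAlgHom A' A'' _) fun _ _ => Commute.all _ _
      have h0 : e ((1 : ((A ⧸ I) ⊗[A] A')) ⊗ₜ[A'] algebraMap A' A'' r) = 0 := by
        rw [← Algebra.TensorProduct.tmul_one_eq_one_tmul]
        exact (e.commutes (algebraMap A' ((A ⧸ I) ⊗[A] A') r)).trans (hψ ())
      have h1 : l ((1 : ((A ⧸ I) ⊗[A] A')) ⊗ₜ[A'] algebraMap A' A'' r) = 0 := by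
        rw [(map_eq_zero_iff e e.injective).mp h0, map_zero]
      rw [← Ideal.Quotient.eq_zero_iff_mem]
      simpa [l] using h1
    rw [Ideal.Quotient.eq_zero_iff_mem, ← hr, ← hτφ]
    have := Ideal.mem_map_of_mem τ.toRingHom hmem
    rw [Ideal.map_map, AlgHom.toRingHom_eq_coe, AlgHom.comp_algebraMap] at this
    exact this
  · intro y
    obtain ⟨E, _, _, _, φ, hr⟩ := h.rep fun _ : Unit => y
    obtain ⟨r, hr⟩ := hr ()
    obtain ⟨A', _, _, _, ⟨e⟩⟩ := HensPair.EtaleSurjLift.exists_lift (A := A) (Ā := A ⧸ I) (B := E)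
      Ideal.Quotient.mk_surjective
    let σ : A' →ₐ[A] Cb := ((φ.comp e.toAlgHom).restrictScalars A).comp Algebra.TensorProduct.includeRight
    obtain ⟨τ, hτ⟩ := exists_hom A' σ
    obtain ⟨q, hq⟩ := e.surjective r
    obtain ⟨a, ha⟩ : ∃ a : A', (1 : A ⧸ I) ⊗ₜ[A] a = q := by
      clear hq
      induction q using TensorProduct.induction_on with
      | zero => exact ⟨0, TensorProduct.tmul_zero _ _⟩
      | tmul a b =>
        obtain ⟨a, rfl⟩ := Ideal.Quotient.mk_surjective a
        refine ⟨a • b, ?_⟩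
        rw [← TensorProduct.smul_tmul, Algebra.smul_def, mul_one]
        rfl
      | add p q hp hq =>
        obtain ⟨p', hp⟩ := hp
        obtain ⟨q', hq⟩ := hq
        exact ⟨p' + q', by rw [TensorProduct.tmul_add, hp, hq]⟩
    refine ⟨Ideal.Quotient.mk _ (τ a), ?_⟩
    show π A Cb (τ a) = y
    refine (DFunLike.congr_fun hτ a).trans ?_
    show φ (e ((1 : A ⧸ I) ⊗ₜ[A] a)) = y
    rw [ha, hq, hr]

end Groth.Agent.HensPoint.IndEtLift
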