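import Groth.Agent.HensPoint.EtColim
import Groth.Agent.HensPoint.Tens
import Groth.Prelude.Def_PBC
import Mathlib.Algebra.Category.Ring.Under.Basic
import Mathlib.Algebra.Category.Ring.FilteredColimits
import Mathlib.CategoryTheory.Limits.Types.Filtered
import Mathlib.RingTheory.Etale.Basic

/-!
Ind-etale algebras are the colimits of etale algebras given by elements and relations.
-/

set_option autoImplicit false

noncomputable section

open CategoryTheory CategoryTheory.Limits
open scoped TensorProduct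

namespace Groth.Agent.HensPoint.IndEtale

universe u

section

variable {A : Type u} [CommRing A]

/-- the forgetful functor to types -/
abbrev U (A : Type u) [CommRing A] : Under (CommRingCat.of A) ⥤ Type u :=
  Under.forget _ ⋙ forget CommRingCat.{u}

theorem preserves (J : Type u) [SmallCategory J] [IsFiltered J] :
    PreservesColimitsOfShape J (U A) := inferInstance

theorem reflects (J : Type u) [SmallCategory J] [IsFiltered J] :
    ReflectsColimitsOfShape J (U A) :=
  have := preserves (A := A) J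
  reflectsColimitsOfShape_of_reflectsIsomorphisms

variable {J : Type u} [SmallCategory J] [IsFiltered J] {D : J ⥤ Under (CommRingCat.of A)}
  {c : Cocone D} (hc : IsColimit c)

include hc

theorem jointly_surjective (x : c.pt.right) : ∃ j y, (c.ι.app j).right y = x :=
  have := preserves (A := A) J
  Types.jointly_surjective _ (isColimitOfPreserves (U A) hc) x

theorem exists_eq {i : J} (y z : (D.obj i).right) (h : (c.ι.app i).right y = (c.ι.app i).right z) :
    ∃ (j : J) (f : i ⟶ j), (D.map f).right y = (D.map f).right z := by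
  have := preserves (A := A) J
  obtain ⟨k, f, g, hfg⟩ :=
    (Types.FilteredColimit.isColimit_eq_iff _ (isColimitOfPreserves (U A) hc)).mp h
  obtain ⟨m, n, hmn⟩ : ∃ (m : J) (n : k ⟶ m), f ≫ n = g ≫ n :=
    ⟨IsFiltered.coeq f g, IsFiltered.coeqHom f g, IsFiltered.coeq_condition f g⟩
  refine ⟨m, f ≫ n, ?_⟩
  have h1 : (D.map n).right ((D.map f).right y) = (D.map n).right ((D.map g).right z) :=
    congrArg _ hfg
  rw [show (D.map (f ≫ n)).right y = (D.map n).right ((D.map f).right y) by simp,
    show (D.map (f ≫ n)).right z = (D.map (g ≫ n)).right z by rw [hmn], h1]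
  simp

/-- finitely many elements of the colimit come from one stage -/
theorem exists_stage {n : ℕ} (x : Fin n → c.pt.right) :
    ∃ j, ∀ k, ∃ y, (c.ι.app j).right y = x k := by
  classical
  choose j y hy using fun k => jointly_surjective hc (x k)
  obtain ⟨m, hm⟩ := IsFiltered.sup_objs_exists (Finset.univ.image j)
  refine ⟨m, fun k => ?_⟩
  obtain ⟨f⟩ := hm (Finset.mem_image_of_mem j (Finset.mem_univ k))
  refine ⟨(D.map f).right (y k), ?_⟩
  rw [← hy k]
  exact DFunLike.congr_fun (congrArg (fun t => CommRingCat.Hom.hom (CommaMorphism.right t)) (c.w f)) (y k)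

end

variable {A B : Type u} [CommRing A] [CommRing B] [Algebra A B]

variable (A B) in
/-- etale algebras over `B` -/
def Obj : Type u :=
  {x : Σ p : Tens.Raw A, (Tens.Pres p →ₐ[A] B) // Algebra.Etale A (Tens.Pres x.1)}

/-- the algebra -/
abbrev Obj.Ring (i : Obj A B) : Type u := Tens.Pres i.1.1

/-- the map -/
abbrev Obj.map (i : Obj A B) : i.Ring →ₐ[A] B := i.1.2

instance etale (i : Obj A B) : Algebra.Etale A i.Ring := i.2

instance category : SmallCategory (Obj A B) where
  Hom i j := {f : i.Ring →ₐ[A] j.Ring // j.map.comp f = i.map}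
  id i := ⟨AlgHom.id A _, AlgHom.comp_id _⟩
  comp f g := ⟨g.1.comp f.1, by rw [← AlgHom.comp_assoc, g.2, f.2]⟩
  id_comp f := Subtype.ext (AlgHom.comp_id _)
  comp_id f := Subtype.ext (AlgHom.id_comp _)
  assoc f g h := Subtype.ext (AlgHom.comp_assoc _ _ _).symm

theorem exists_obj (A' : Type u) [CommRing A'] [Algebra A A'] [Algebra.Etale A A'] (φ : A' →ₐ[A] B) :
    ∃ (i : Obj A B) (e : i.Ring ≃ₐ[A] A'), i.map = φ.comp e.toAlgHom := by
  obtain ⟨p, ⟨e⟩⟩ := Tens.exists_pres (R := A) A'
  exact ⟨⟨⟨p, φ.comp e.toAlgHom⟩, Algebra.Etale.of_equiv e.symm⟩, e, rfl⟩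

theorem isFiltered (hB : EtColim.IsEtColim A B) : IsFiltered (Obj A B) := by
  have : Nonempty (Obj A B) := by
    obtain ⟨A', _, _, _, φ, -⟩ := hB.rep (fun e : Empty => e.elim)
    exact ⟨(exists_obj A' φ).choose⟩
  refine { cocone_objs := fun i j => ?_, cocone_maps := fun i j f g => ?_ }
  · have : Algebra.Etale A (i.Ring ⊗[A] j.Ring) := Algebra.Etale.comp A i.Ring _
    let Φ : i.Ring ⊗[A] j.Ring →ₐ[A] B :=
      Algebra.TensorProduct.lift i.map j.map fun _ _ => Commute.all _ _
    obtain ⟨k, e, he⟩ := exists_obj (i.Ring ⊗[A] j.Ring) Φ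
    refine ⟨k, ⟨e.symm.toAlgHom.comp Algebra.TensorProduct.includeLeft, ?_⟩,
      ⟨e.symm.toAlgHom.comp Algebra.TensorProduct.includeRight, ?_⟩, trivial⟩
    · ext x; simp [he, Φ]
    · ext x; simp [he, Φ]
  · obtain ⟨A'', _, _, _, χ, ψ, hc, hψ⟩ := hB.kill j.map
      (fun k : Fin i.1.1.1 => f.1 (Ideal.Quotient.mk _ (MvPolynomial.X k)) -
        g.1 (Ideal.Quotient.mk _ (MvPolynomial.X k))) fun k => by
      rw [map_sub, ← AlgHom.comp_apply, ← AlgHom.comp_apply, f.2, g.2, sub_self]
    obtain ⟨k, e, he⟩ := exists_obj A'' χ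
    refine ⟨k, ⟨e.symm.toAlgHom.comp ψ, ?_⟩, Subtype.ext ?_⟩
    · ext x; simp [he, ← hc]
    · show (e.symm.toAlgHom.comp ψ).comp f.1 = (e.symm.toAlgHom.comp ψ).comp g.1
      refine Ideal.Quotient.algHom_ext _ (MvPolynomial.algHom_ext fun k => ?_)
      have h := hψ k
      rw [map_sub, sub_eq_zero] at h
      exact congrArg e.symm h

variable (A B) in
/-- the tautological diagram -/
def diagram : Obj A B ⥤ Under (CommRingCat.of A) where
  obj i := CommRingCat.mkUnder (CommRingCat.of A) i.Ring
  map f := f.1.toUnder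
  map_id i := by ext x; rfl
  map_comp f g := by ext x; rfl

variable (A B) in
/-- the tautological cocone -/
def cocone : Cocone (diagram A B) where
  pt := CommRingCat.mkUnder (CommRingCat.of A) B
  ι :=
    { app := fun i => i.map.toUnder
      naturality := fun i j f => by
        ext x
        exact DFunLike.congr_fun f.2 x }

theorem isIndEtale_of_isEtColim (hB : EtColim.IsEtColim A B) : EtPBC.IsIndEtale A B := by
  have := isFiltered hB
  have := reflects (A := A) (Obj A B)
  have hc : IsColimit ((U A).mapCocone (cocone A B)) := by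
    refine Types.FilteredColimit.isColimitOf' _ _ (fun x => ?_) (fun i y z h => ?_)
    · obtain ⟨A', _, _, _, φ, hr⟩ := hB.rep fun _ : Unit => (x : B)
      obtain ⟨r, hr⟩ := hr ()
      obtain ⟨i, e, he⟩ := exists_obj A' φ
      refine ⟨i, e.symm r, ?_⟩
      show (x : B) = i.map (e.symm r)
      rw [he]
      show x = φ (e (e.symm r))
      rw [e.apply_symm_apply, hr]
    · obtain ⟨A'', _, _, _, χ, ψ, hc, hψ⟩ := hB.kill i.map
        (fun _ : Unit => (show i.Ring from y) - (show i.Ring from z)) fun _ => by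
          rw [map_sub]; exact sub_eq_zero.mpr h
      obtain ⟨j, e, he⟩ := exists_obj A'' χ
      refine ⟨j, ⟨e.symm.toAlgHom.comp ψ, by ext x; simp [he, ← hc]⟩, ?_⟩
      have h1 := hψ ()
      rw [map_sub, sub_eq_zero] at h1
      exact congrArg e.symm h1
  refine ⟨Obj A B, inferInstance, inferInstance, diagram A B, cocone A B, isColimitOfReflects (U A) hc,
    fun i => ?_, ⟨Iso.refl _⟩⟩
  let : Algebra A ((diagram A B).obj i).right := ((diagram A B).obj i).hom.hom.toAlgebra
  exact Algebra.Etale.of_equiv (A := i.Ring) { RingEquiv.refl _ with commutes' := fun a => rfl }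

theorem isEtColim_of_isIndEtale (h : EtPBC.IsIndEtale A B) : EtColim.IsEtColim A B := by
  obtain ⟨J, _, _, D, c, hc, het, ⟨e⟩⟩ := h
  let ι : ∀ j : J, letI := (D.obj j).hom.hom.toAlgebra; (D.obj j).right →ₐ[A] B := fun j =>
    letI := (D.obj j).hom.hom.toAlgebra
    { toRingHom := (c.ι.app j ≫ e.hom).right.hom
      commutes' := fun a =>
        DFunLike.congr_fun (congrArg CommRingCat.Hom.hom (Under.w (c.ι.app j ≫ e.hom))) a }
  have hinv : ∀ y, e.hom.right (e.inv.right y) = y := fun y =>
    DFunLike.congr_fun (congrArg (fun t => CommRingCat.Hom.hom (CommaMorphism.right t)) e.inv_hom_id) y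
  have hinv' : ∀ y, e.inv.right (e.hom.right y) = y := fun y =>
    DFunLike.congr_fun (congrArg (fun t => CommRingCat.Hom.hom (CommaMorphism.right t)) e.hom_inv_id) y
  have hι : ∀ j y, (letI := (D.obj j).hom.hom.toAlgebra; ι j y) = e.hom.right ((c.ι.app j).right y) :=
    fun j y => rfl
  refine ⟨fun {n} x => ?_, fun {A'} _ _ _ φ {n} s hs => ?_⟩
  · obtain ⟨j, hj⟩ := exists_stage hc fun k => e.inv.right (x k)
    let := (D.obj j).hom.hom.toAlgebra
    refine ⟨(D.obj j).right, inferInstance, inferInstance, het j, ι j, fun k => ?_⟩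
    obtain ⟨y, hy⟩ := hj k
    exact ⟨y, (hι j y).trans ((congrArg (fun t => e.hom.right t) hy).trans (hinv _))⟩
  · classical
    obtain ⟨m, π, hπ, hker⟩ := (inferInstance : Algebra.FinitePresentation A A').out
    obtain ⟨G, hG⟩ := hker
    obtain ⟨j, hj⟩ := exists_stage hc fun k : Fin m => e.inv.right (φ (π (MvPolynomial.X k)))
    choose y hy using hj
    let := (D.obj j).hom.hom.toAlgebra
    let ρ : MvPolynomial (Fin m) A →ₐ[A] (D.obj j).right := MvPolynomial.aeval y
    have hρ : (ι j).comp ρ = φ.comp π := MvPolynomial.algHom_ext fun k => by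
      show ι j (MvPolynomial.aeval y (MvPolynomial.X k)) = _
      rw [MvPolynomial.aeval_X, hι, hy, hinv]
      rfl
    choose s' hs' using fun k => hπ (s k)
    let G' : Finset (MvPolynomial (Fin m) A) := G ∪ Finset.univ.image s'
    have hG' : ∀ g ∈ G', (c.ι.app j).right (ρ g) = (c.ι.app j).right 0 := fun g hg => by
      have h0 : φ (π g) = 0 := by
        rcases Finset.mem_union.mp hg with hg | hg
        · have hgk : g ∈ RingHom.ker π.toRingHom := hG ▸ Ideal.subset_span hg
          rw [show π g = 0 from hgk, map_zero]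
        · obtain ⟨k, -, rfl⟩ := Finset.mem_image.mp hg
          rw [hs', hs]
      rw [map_zero, ← hinv' ((c.ι.app j).right (ρ g)), ← hι,
        show ι j (ρ g) = 0 from (DFunLike.congr_fun hρ g).trans h0, map_zero]
    choose l f hf using fun g : G' => exists_eq hc (ρ g.1) 0 (hG' g.1 g.2)
    obtain ⟨l', t, f', hf'⟩ : ∃ (l' : J) (t : j ⟶ l') (f' : ∀ g : G', l g ⟶ l'),
        ∀ g, f g ≫ f' g = t := by
      obtain ⟨l₀, hl₀⟩ := IsFiltered.sup_objs_exists (insert j (Finset.univ.image l))
      obtain ⟨t₀⟩ := hl₀ (Finset.mem_insert_self _ _)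
      have hg₀ : ∀ g : G', Nonempty (l g ⟶ l₀) := fun g =>
        hl₀ (Finset.mem_insert_of_mem (Finset.mem_image_of_mem l (Finset.mem_univ g)))
      suffices ∀ T : Finset G', ∃ (l' : J) (q : l₀ ⟶ l'), ∀ g ∈ T,
          f g ≫ (hg₀ g).some ≫ q = t₀ ≫ q by
        obtain ⟨l', q, hq⟩ := this Finset.univ
        exact ⟨l', t₀ ≫ q, fun g => (hg₀ g).some ≫ q, fun g => hq g (Finset.mem_univ g)⟩
      intro T
      induction T using Finset.induction_on with
      | empty => exact ⟨l₀, 𝟙 _, fun g hg => absurd hg (Finset.notMem_empty g)⟩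
      | insert g T _ ih =>
        obtain ⟨l₁, q, hq⟩ := ih
        refine ⟨IsFiltered.coeq (f g ≫ (hg₀ g).some ≫ q) (t₀ ≫ q),
          q ≫ IsFiltered.coeqHom _ _, fun g' hg' => ?_⟩
        rcases Finset.mem_insert.mp hg' with rfl | hg'
        · simpa using IsFiltered.coeq_condition (f g' ≫ (hg₀ g').some ≫ q) (t₀ ≫ q)
        · rw [← Category.assoc t₀, ← hq g' hg', Category.assoc, Category.assoc]
    let := (D.obj l').hom.hom.toAlgebra
    let τ : (D.obj j).right →ₐ[A] (D.obj l').right :=
      { toRingHom := (D.map t).right.hom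
        commutes' := fun a => DFunLike.congr_fun (congrArg CommRingCat.Hom.hom (Under.w (D.map t))) a }
    have hzero : ∀ g ∈ G', τ (ρ g) = 0 := fun g hg => by
      show (D.map t).right (ρ g) = 0
      rw [← hf' ⟨g, hg⟩, D.map_comp]
      show (D.map (f' ⟨g, hg⟩)).right ((D.map (f ⟨g, hg⟩)).right (ρ g)) = 0
      rw [hf ⟨g, hg⟩, map_zero, map_zero]
    have hkerle : RingHom.ker π.toRingHom ≤ RingHom.ker (τ.comp ρ).toRingHom := by
      rw [← hG]
      exact Ideal.span_le.mpr fun g hg => hzero g (Finset.mem_union_left _ hg)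
    let ψ : A' →ₐ[A] (D.obj l').right :=
      (Ideal.Quotient.liftₐ (RingHom.ker π) (τ.comp ρ) hkerle).comp
        (Ideal.quotientKerAlgEquivOfSurjective hπ).symm.toAlgHom
    have hψ : ψ.comp π = τ.comp ρ := AlgHom.ext fun g => by
      show Ideal.Quotient.liftₐ (RingHom.ker π) (τ.comp ρ) hkerle
        ((Ideal.quotientKerAlgEquivOfSurjective hπ).symm (π g)) = _
      rw [show (Ideal.quotientKerAlgEquivOfSurjective hπ).symm (π g) = Ideal.Quotient.mk _ g from
        (Ideal.quotientKerAlgEquivOfSurjective hπ).injective (by simp)]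
      rfl
    have hτ : (ι l').comp τ = ι j := AlgHom.ext fun y => by
      show ι l' ((D.map t).right y) = _
      rw [hι, hι]
      congr 1
      exact DFunLike.congr_fun (congrArg (fun t => CommRingCat.Hom.hom (CommaMorphism.right t)) (c.w t)) y
    refine ⟨(D.obj l').right, inferInstance, inferInstance, het l', ι l', ψ,
      AlgHom.ext fun x => ?_, fun k => ?_⟩
    · obtain ⟨g, rfl⟩ := hπ x
      show ι l' (ψ (π g)) = _
      rw [show ψ (π g) = τ (ρ g) from DFunLike.congr_fun hψ g]
      exact (DFunLike.congr_fun hτ (ρ g)).trans (DFunLike.congr_fun hρ g)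
    · rw [← hs', show ψ (π (s' k)) = τ (ρ (s' k)) from DFunLike.congr_fun hψ (s' k)]
      exact hzero _ (Finset.mem_union_right _ (Finset.mem_image_of_mem _ (Finset.mem_univ k)))

theorem iff : EtPBC.IsIndEtale A B ↔ EtColim.IsEtColim A B :=
  ⟨isEtColim_of_isIndEtale, isIndEtale_of_isEtColim⟩

end Groth.Agent.HensPoint.IndEtale
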