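import Groth.Agent.HensPoint.WeaklyEtale
import Groth.Agent.HensPoint.IndEtale
import Groth.Agent.FlatMor.AbsFlat
import Mathlib.RingTheory.Etale.Field

/-!
Weakly etale algebras over fields.
-/

set_option autoImplicit false

noncomputable section

open scoped TensorProduct

namespace Groth.Agent.HensPoint.OverField

universe u

variable {K B : Type u} [Field K] [CommRing B] [Algebra K B]

theorem isSeparable_quotient [Algebra.WeaklyEtale K B] (M : Ideal B) [M.IsMaximal] :
    letI := Ideal.Quotient.field M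
    Algebra.IsSeparable K (B ⧸ M) := by
  let := Ideal.Quotient.field M
  have hB : FlatMor.AbsFlat.IsAbsFlat B :=
    FlatMor.AbsFlat.isAbsFlat_of_weaklyEtale (FlatMor.AbsFlat.isAbsFlat_of_field K)
  have : Algebra.WeaklyEtale B (B ⧸ M) :=
    { flat := hB.flat (B ⧸ M)
      flat_lmul' := by
        refine RingHom.Flat.of_bijective ⟨fun x y h => ?_, fun z => ⟨z ⊗ₜ 1, by simp⟩⟩
        obtain ⟨a, rfl⟩ := TensorProduct.mk_surjective B (B ⧸ M) (B ⧸ M) Ideal.Quotient.mk_surjective x
        obtain ⟨b, rfl⟩ := TensorProduct.mk_surjective B (B ⧸ M) (B ⧸ M) Ideal.Quotient.mk_surjective y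
        simp only [TensorProduct.mk_apply] at h ⊢
        simpa using congrArg (fun t => (1 : B ⧸ M) ⊗ₜ[B] t) (show a = b by simpa using h) }
  have : Algebra.WeaklyEtale K (B ⧸ M) := Algebra.WeaklyEtale.trans K B (B ⧸ M)
  exact FlatMor.AbsFlat.isSeparable_of_weaklyEtale K (B ⧸ M)

theorem isIntegral [Algebra.WeaklyEtale K B] : Algebra.IsIntegral K B := by
  classical
  refine ⟨fun x => ?_⟩
  have hB : FlatMor.AbsFlat.IsAbsFlat B :=
    FlatMor.AbsFlat.isAbsFlat_of_weaklyEtale (FlatMor.AbsFlat.isAbsFlat_of_field K)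
  -- polynomials killing `x` near each point
  let T : Ideal B := Ideal.span {s : B | ∃ p : Polynomial K, p.Monic ∧ s * Polynomial.aeval x p = 0}
  have hT : T = ⊤ := by
    by_contra hne
    obtain ⟨M, hM, hTM⟩ := Ideal.exists_le_maximal _ hne
    let := Ideal.Quotient.field M
    have := isSeparable_quotient (K := K) M
    have hi : IsIntegral K (Ideal.Quotient.mk M x) :=
      Algebra.IsSeparable.isIntegral K (Ideal.Quotient.mk M x)
    obtain ⟨p, hp, hpx⟩ := hi
    have hy : Polynomial.aeval x p ∈ M := by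
      rw [← Ideal.Quotient.eq_zero_iff_mem, ← Ideal.Quotient.mkₐ_eq_mk K, ← Polynomial.aeval_algHom_apply]
      exact hpx
    obtain ⟨a, ha⟩ := hB (Polynomial.aeval x p)
    have hs : 1 - a * Polynomial.aeval x p ∈ M := hTM (Ideal.subset_span ⟨p, hp, by
      linear_combination ha⟩)
    refine hM.ne_top ((Ideal.eq_top_iff_one _).mpr ?_)
    simpa using add_mem hs (M.mul_mem_left a hy)
  have h1 : (1 : B) ∈ T := hT ▸ Submodule.mem_top
  obtain ⟨f, hf, hsum⟩ := (Submodule.mem_span_set (R := B) (M := B)).mp h1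
  choose p hp hpx using fun s : f.support => hf s.2
  refine ⟨∏ s : f.support, p s, Polynomial.monic_prod_of_monic _ _ fun s _ => hp s, ?_⟩
  rw [← Polynomial.aeval_def]
  calc Polynomial.aeval x (∏ s : f.support, p s) = Polynomial.aeval x (∏ s : f.support, p s) * 1 :=
        (mul_one _).symm
    _ = 0 := by
      rw [← hsum, Finsupp.sum, Finset.mul_sum]
      refine Finset.sum_eq_zero fun s hs => ?_
      rw [← Finset.mul_prod_erase Finset.univ p (Finset.mem_univ ⟨s, hs⟩), map_mul, smul_eq_mul]
      linear_combination (f s * Polynomial.aeval x (∏ t ∈ Finset.univ.erase ⟨s, hs⟩, p t)) * hpx ⟨s, hs⟩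

theorem etale_of_fg [Algebra.WeaklyEtale K B] (S : Subalgebra K B) (hS : S.FG) :
    Algebra.Etale K S := by
  classical
  have := isIntegral (K := K) (B := B)
  have hB : FlatMor.AbsFlat.IsAbsFlat B :=
    FlatMor.AbsFlat.isAbsFlat_of_weaklyEtale (FlatMor.AbsFlat.isAbsFlat_of_field K)
  have : IsReduced B := hB.isReduced
  have : IsReduced S := isReduced_of_injective S.val Subtype.val_injective
  have : Algebra.IsIntegral K S := Algebra.IsIntegral.of_injective S.val Subtype.val_injective
  have : Algebra.FiniteType K S := S.fg_iff_finiteType.mp hS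
  have : Module.Finite K S := Algebra.IsIntegral.finite
  have : IsArtinianRing S := IsArtinianRing.of_finite K S
  let (I : MaximalSpectrum S) : Field (S ⧸ I.asIdeal) := Ideal.Quotient.field _
  refine (Algebra.Etale.iff_exists_algEquiv_prod (K := K) (A := S)).mpr ⟨MaximalSpectrum S, inferInstance,
    fun I => S ⧸ I.asIdeal, fun I => inferInstance, fun I => inferInstance,
    (IsArtinianRing.equivPi S).restrictScalars K, fun I => ⟨?_, ?_⟩⟩
  · exact Module.Finite.of_surjective (Ideal.Quotient.mkₐ K I.asIdeal).toLinearMap Ideal.Quotient.mk_surjective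
  · have : Algebra.IsIntegral S B := Algebra.IsIntegral.tower_top K
    obtain ⟨M, hM, hMI⟩ := Ideal.exists_ideal_over_maximal_of_isIntegral (R := S) (S := B) I.asIdeal
      (by rw [show RingHom.ker (algebraMap S B) = ⊥ from
        (RingHom.injective_iff_ker_eq_bot _).mp Subtype.val_injective]; exact bot_le)
    let := Ideal.Quotient.field M
    have := isSeparable_quotient (K := K) M
    exact Algebra.IsSeparable.of_algHom K (B ⧸ M)
      (Ideal.Quotient.liftₐ I.asIdeal ((Ideal.Quotient.mkₐ K M).comp S.val) fun a ha =>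
        Ideal.Quotient.eq_zero_iff_mem.mpr (show a ∈ M.comap (algebraMap S B) from hMI.symm ▸ ha))

theorem isEtColim [Algebra.WeaklyEtale K B] : EtColim.IsEtColim K B := by
  classical
  refine ⟨fun {n} x => ?_, fun {A'} _ _ _ φ {n} s hs => ?_⟩
  · have := etale_of_fg (Algebra.adjoin K (Set.range x)) (Subalgebra.fg_def.mpr ⟨Set.range x, Set.finite_range x, rfl⟩)
    exact ⟨Algebra.adjoin K (Set.range x), inferInstance, inferInstance, this,
      Subalgebra.val _, fun k => ⟨⟨x k, Algebra.subset_adjoin ⟨k, rfl⟩⟩, rfl⟩⟩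
  · have : φ.range.FG := (Subalgebra.fg_iff_finiteType _).mpr
      (Algebra.FiniteType.of_surjective φ.rangeRestrict φ.rangeRestrict_surjective)
    have := etale_of_fg φ.range this
    exact ⟨φ.range, inferInstance, inferInstance, this, φ.range.val, φ.rangeRestrict,
      AlgHom.val_comp_rangeRestrict φ, fun k => Subtype.ext (hs k)⟩

end Groth.Agent.HensPoint.OverField
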