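import Groth.Agent.HensPoint.OverField
import Mathlib.RingTheory.TensorProduct.Maps

/-!
Subalgebras, quotients and suprema of weakly etale algebras over fields.
-/

set_option autoImplicit false

noncomputable section

open scoped TensorProduct

namespace Groth.Agent.HensPoint.OverFieldAlg

universe u

variable {K B : Type u} [Field K] [CommRing B] [Algebra K B]

theorem weaklyEtale_quot_self {R : Type u} [CommRing R] (hR : FlatMor.AbsFlat.IsAbsFlat R)
    (I : Ideal R) : Algebra.WeaklyEtale R (R ⧸ I) :=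
  { flat := hR.flat (R ⧸ I)
    flat_lmul' := by
      refine RingHom.Flat.of_bijective ⟨fun x y h => ?_, fun z => ⟨z ⊗ₜ 1, by simp⟩⟩
      obtain ⟨a, rfl⟩ := TensorProduct.mk_surjective R (R ⧸ I) (R ⧸ I) Ideal.Quotient.mk_surjective x
      obtain ⟨b, rfl⟩ := TensorProduct.mk_surjective R (R ⧸ I) (R ⧸ I) Ideal.Quotient.mk_surjective y
      simp only [TensorProduct.mk_apply] at h ⊢
      simpa using congrArg (fun t => (1 : R ⧸ I) ⊗ₜ[R] t) (show a = b by simpa using h) }

theorem weaklyEtale_quotient [Algebra.WeaklyEtale K B] (I : Ideal B) :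
    Algebra.WeaklyEtale K (B ⧸ I) := by
  have := weaklyEtale_quot_self
    (FlatMor.AbsFlat.isAbsFlat_of_weaklyEtale (S := B) (FlatMor.AbsFlat.isAbsFlat_of_field K)) I
  exact Algebra.WeaklyEtale.trans K B (B ⧸ I)

/-- A `K`-algebra whose finitely generated subalgebras are étale is weakly étale. -/
theorem weaklyEtale_of_fg (h : ∀ S : Subalgebra K B, S.FG → Algebra.Etale K S) :
    Algebra.WeaklyEtale K B := by
  classical
  refine WeaklyEtale.weaklyEtale ⟨fun {n} x => ?_, fun {A'} _ _ _ φ {n} s hs => ?_⟩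
  · have := h (Algebra.adjoin K (Set.range x))
      (Subalgebra.fg_def.mpr ⟨Set.range x, Set.finite_range x, rfl⟩)
    exact ⟨Algebra.adjoin K (Set.range x), inferInstance, inferInstance, this,
      Subalgebra.val _, fun k => ⟨⟨x k, Algebra.subset_adjoin ⟨k, rfl⟩⟩, rfl⟩⟩
  · have : φ.range.FG := (Subalgebra.fg_iff_finiteType _).mpr
      (Algebra.FiniteType.of_surjective φ.rangeRestrict φ.rangeRestrict_surjective)
    have := h φ.range this
    exact ⟨φ.range, inferInstance, inferInstance, this, φ.range.val, φ.rangeRestrict,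
      AlgHom.val_comp_rangeRestrict φ, fun k => Subtype.ext (hs k)⟩

theorem weaklyEtale_of_injective {C : Type u} [CommRing C] [Algebra K C] [Algebra.WeaklyEtale K B]
    (f : C →ₐ[K] B) (hf : Function.Injective f) : Algebra.WeaklyEtale K C := by
  refine weaklyEtale_of_fg fun S hS => ?_
  have := OverField.etale_of_fg (S.map f) (hS.map f)
  exact Algebra.Etale.of_equiv (S.equivMapOfInjective f hf).symm

theorem weaklyEtale_of_surjective {C : Type u} [CommRing C] [Algebra K C] [Algebra.WeaklyEtale K B]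
    (f : B →ₐ[K] C) (hf : Function.Surjective f) : Algebra.WeaklyEtale K C := by
  have := weaklyEtale_quotient (K := K) (RingHom.ker f)
  exact weaklyEtale_of_injective (Ideal.quotientKerAlgEquivOfSurjective hf).symm.toAlgHom
    (AlgEquiv.injective _)

theorem weaklyEtale_sup (S T : Subalgebra K B) [Algebra.WeaklyEtale K S] [Algebra.WeaklyEtale K T] :
    Algebra.WeaklyEtale K ↥(S ⊔ T) := by
  have : Algebra.WeaklyEtale K (↥S ⊗[K] ↥T) := Algebra.WeaklyEtale.trans K S (↥S ⊗[K] ↥T)
  have h := Algebra.TensorProduct.productMap_range S.val T.val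
  rw [S.range_val, T.range_val] at h
  rw [← h]
  exact weaklyEtale_of_surjective (Algebra.TensorProduct.productMap S.val T.val).rangeRestrict
    (AlgHom.rangeRestrict_surjective _)

theorem weaklyEtale_sSup (𝒮 : Set (Subalgebra K B)) (h𝒮 : ∀ S ∈ 𝒮, Algebra.WeaklyEtale K S) :
    Algebra.WeaklyEtale K ↥(sSup 𝒮) := by
  classical
  refine weaklyEtale_of_fg fun T hT => ?_
  have hsub : T.map (sSup 𝒮).val ≤ sSup 𝒮 := by
    rintro _ ⟨x, -, rfl⟩
    exact x.2
  -- a finitely generated subalgebra lies in a finite supremum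
  have key : ∀ s : Finset B, (↑s : Set B) ⊆ ↑(sSup 𝒮) →
      ∃ F : Subalgebra K B, Algebra.WeaklyEtale K F ∧ (↑s : Set B) ⊆ F := by
    intro s
    have : ∀ x ∈ sSup 𝒮, ∃ F : Subalgebra K B, Algebra.WeaklyEtale K F ∧ x ∈ F := by
      intro x hx
      have hb : Algebra.WeaklyEtale K (⊥ : Subalgebra K B) :=
        weaklyEtale_of_surjective (Algebra.ofId K (⊥ : Subalgebra K B)) fun y => by
          obtain ⟨a, ha⟩ := Algebra.mem_bot.mp y.2
          exact ⟨a, Subtype.ext ha⟩
      have hle : sSup 𝒮 ≤ Algebra.adjoin K (⋃ S ∈ 𝒮, (S : Set B)) :=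
        sSup_le fun S hS y hy => Algebra.subset_adjoin (Set.mem_biUnion hS hy)
      have hx' := hle hx
      clear hx
      induction hx' using Algebra.adjoin_induction with
      | mem y hy =>
        obtain ⟨S, hS, hy⟩ := Set.mem_iUnion₂.mp hy
        exact ⟨S, h𝒮 S hS, hy⟩
      | algebraMap a => exact ⟨⊥, hb, Subalgebra.algebraMap_mem _ a⟩
      | add y z hy hz ihy ihz =>
        obtain ⟨F, hF, hy⟩ := ihy
        obtain ⟨G, hG, hz⟩ := ihz
        exact ⟨F ⊔ G, weaklyEtale_sup F G, add_mem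
          ((le_sup_left : F ≤ F ⊔ G) hy) ((le_sup_right : G ≤ F ⊔ G) hz)⟩
      | mul y z hy hz ihy ihz =>
        obtain ⟨F, hF, hy⟩ := ihy
        obtain ⟨G, hG, hz⟩ := ihz
        exact ⟨F ⊔ G, weaklyEtale_sup F G, mul_mem
          ((le_sup_left : F ≤ F ⊔ G) hy) ((le_sup_right : G ≤ F ⊔ G) hz)⟩
    induction s using Finset.induction_on with
    | empty =>
      exact fun _ => ⟨⊥, weaklyEtale_of_surjective (Algebra.ofId K (⊥ : Subalgebra K B)) fun y => by
          obtain ⟨a, ha⟩ := Algebra.mem_bot.mp y.2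
          exact ⟨a, Subtype.ext ha⟩, by simp⟩
    | insert a s has ih =>
      intro hs
      rw [Finset.coe_insert, Set.insert_subset_iff] at hs
      obtain ⟨F, hF, ha⟩ := this a hs.1
      obtain ⟨G, hG, hs'⟩ := ih hs.2
      refine ⟨F ⊔ G, weaklyEtale_sup F G, ?_⟩
      rw [Finset.coe_insert, Set.insert_subset_iff]
      exact ⟨(le_sup_left : F ≤ F ⊔ G) ha, fun y hy => (le_sup_right : G ≤ F ⊔ G) (hs' hy)⟩
  have hT' : (T.map (sSup 𝒮).val).FG := hT.map _
  obtain ⟨t, ht⟩ := hT'
  obtain ⟨F, hF, hFt⟩ := key t fun x hx => hsub (ht ▸ Algebra.subset_adjoin hx)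
  have hle : T.map (sSup 𝒮).val ≤ F := ht ▸ Algebra.adjoin_le hFt
  let g : T →ₐ[K] F :=
    ((Subalgebra.inclusion hle).comp (T.equivMapOfInjective (sSup 𝒮).val Subtype.val_injective).toAlgHom)
  have hg : Function.Injective g :=
    (Subalgebra.inclusion_injective hle).comp (AlgEquiv.injective _)
  have := OverField.etale_of_fg g.range ((Subalgebra.fg_iff_finiteType _).mpr
    (@Algebra.FiniteType.of_surjective _ _ _ _ _ _ _ _ (T.fg_iff_finiteType.mp hT) g.rangeRestrict
      g.rangeRestrict_surjective))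
  exact Algebra.Etale.of_equiv (AlgEquiv.ofInjective g hg).symm

end Groth.Agent.HensPoint.OverFieldAlg
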