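import Groth.Agent.HensPoint.GeomUniTop
import Groth.Agent.HensPair.BranchScheme
import Mathlib.AlgebraicGeometry.Morphisms.FlatMono
import Mathlib.AlgebraicGeometry.Morphisms.Separated
import Mathlib.AlgebraicGeometry.Morphisms.UniversallyInjective

/-!
Rational sections of unramified separated morphisms at geometrically unibranch points.
-/

set_option autoImplicit false

noncomputable section

open CategoryTheory CategoryTheory.Limits AlgebraicGeometry TopologicalSpace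

namespace Groth.Agent.HensPoint.RatSection

universe u

set_option backward.isDefEq.respectTransparency false

/-- separated etale over an irreducible scheme with a section around the only generic point -/
theorem isOpenImmersion_of_generic {Z V : Scheme.{u}} (g : Z ⟶ V) [Etale g] [IsSeparated g] [IrreducibleSpace V]
    (W : V.Opens) (j : (W : Scheme.{u}) ⟶ Z) (hj : j ≫ g = W.ι)
    (huniq : ∀ z : Z, g z = genericPoint V → z ∈ Set.range j) :
    IsOpenImmersion g := by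
  have : Etale (j ≫ g) := hj.symm ▸ inferInstance
  have : Etale j := Etale.of_comp j g
  have : Mono (j ≫ g) := hj.symm ▸ inferInstance
  have : Mono j := mono_of_mono j g
  have : IsOpenImmersion j := IsOpenImmersion.of_flat_of_mono j
  have : UniversallyInjective g := by
    rw [UniversallyInjective.iff_diagonal, surjective_iff]
    intro d
    by_contra hd
    let D := pullback g g
    let h := pullback.fst g g ≫ g
    have : Etale h := inferInstance
    have hη : genericPoint V ⤳ h d := (genericPoint_spec V).specializes trivial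
    obtain ⟨d', hd', hfd'⟩ := Flat.generalizingMap h hη
    have hclosed : IsClosed (Set.range (pullback.diagonal g)) := (pullback.diagonal g).isClosedEmbedding.isClosed_range
    have hd'' : d' ∈ Set.range (pullback.diagonal g) := by
      let φ := D.fromSpecResidueField d'
      have hφ : ∀ z, φ z = d' := fun z => Scheme.fromSpecResidueField_apply d' z
      have hr1 : Set.range (φ ≫ pullback.fst g g) ⊆ Set.range j := by
        rintro _ ⟨z, rfl⟩
        refine huniq _ ?_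
        rw [Scheme.Hom.comp_apply, hφ, ← hfd']
        rfl
      have hr2 : Set.range (φ ≫ pullback.snd g g) ⊆ Set.range j := by
        rintro _ ⟨z, rfl⟩
        refine huniq _ ?_
        rw [Scheme.Hom.comp_apply, hφ, ← hfd', ← Scheme.Hom.comp_apply, ← pullback.condition]
      have he : IsOpenImmersion.lift j _ hr1 = IsOpenImmersion.lift j _ hr2 := by
        have h1 := IsOpenImmersion.lift_fac j _ hr1
        have h2 := IsOpenImmersion.lift_fac j _ hr2
        rw [← cancel_mono W.ι, ← hj, ← Category.assoc, ← Category.assoc, h1, h2, Category.assoc, Category.assoc,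
          pullback.condition]
      have hφ₁ : φ ≫ pullback.fst g g = φ ≫ pullback.snd g g := by
        rw [← IsOpenImmersion.lift_fac j _ hr1, he, IsOpenImmersion.lift_fac j _ hr2]
      have hφ₂ : φ = (φ ≫ pullback.fst g g) ≫ pullback.diagonal g := by
        apply pullback.hom_ext
        · simp
        · simp [hφ₁]
      refine ⟨(φ ≫ pullback.fst g g) (IsLocalRing.closedPoint _), ?_⟩
      rw [← Scheme.Hom.comp_apply, ← hφ₂]
      exact hφ _
    exact hd (hd'.mem_closed hclosed hd'')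
  have : Surjective (pullback.diagonal g) := (UniversallyInjective.iff_diagonal g).mp inferInstance
  have : Epi (pullback.diagonal g).base := (TopCat.epi_iff_surjective _).mpr this.1
  have : IsIso (pullback.diagonal g) := IsOpenImmersion.isIso (pullback.diagonal g)
  have : Mono g := (pullback.isIso_diagonal_iff g).mp inferInstance
  exact IsOpenImmersion.of_flat_of_mono g

theorem exists_integral_nhd {Y : Scheme.{u}} [IsReduced Y]
    (hcomp : LocallyFinite (fun Z : ↥(irreducibleComponents ↥Y) => (Z : Set ↥Y))) (y : Y)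
    (hy : CAlg2.IsGeomUnibranch (Y.presheaf.stalk y)) :
    ∃ V : Y.Opens, y ∈ V ∧ IsIntegral (V : Scheme.{u}) := by
  classical
  have h1 : {Z : Set ↑Y | Z ∈ irreducibleComponents ↑Y ∧ y ∈ Z}.encard = 1 := by
    rw [HensPair.BranchScheme.card_components, HensPair.BranchUnibranch.card_eq_one_iff]
    have := hy.1.1
    have hN : (nilradical (Y.presheaf.stalk y)).IsPrime := (Ideal.Quotient.isDomain_iff_prime _).mp this
    exact ⟨nilradical _, ⟨⟨hN, bot_le⟩, fun J ⟨hJ, _⟩ _ => nilradical_le_prime J⟩,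
      fun J hJ => le_antisymm (hJ.2 ⟨hN, bot_le⟩ (haveI := hJ.1.1; nilradical_le_prime J))
        (haveI := hJ.1.1; nilradical_le_prime J)⟩
  obtain ⟨Z₀, hZ₀⟩ := Set.encard_eq_one.mp h1
  let C : Set Y := ⋃ Z : {Z : ↥(irreducibleComponents ↥Y) // (Z : Set Y) ≠ Z₀}, (Z.1 : Set Y)
  have hC : IsClosed C := (hcomp.comp_injective Subtype.val_injective).isClosed_iUnion fun Z =>
    isClosed_of_mem_irreducibleComponents _ Z.1.2
  have hyC : y ∉ C := fun h => by
    obtain ⟨Z, hZ⟩ := Set.mem_iUnion.mp h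
    have : (Z.1 : Set Y) ∈ {Z : Set ↑Y | Z ∈ irreducibleComponents ↑Y ∧ y ∈ Z} := ⟨Z.1.2, hZ⟩
    rw [hZ₀] at this
    exact Z.2 this
  let V : Y.Opens := ⟨Cᶜ, hC.isOpen_compl⟩
  refine ⟨V, hyC, ?_⟩
  have hZ₀mem : Z₀ ∈ irreducibleComponents ↥Y :=
    (show Z₀ ∈ {Z : Set ↑Y | Z ∈ irreducibleComponents ↑Y ∧ y ∈ Z} by rw [hZ₀]; rfl).1
  have hsub : (V : Set Y) ⊆ Z₀ := fun z hz => by
    by_contra hzZ
    refine hz (Set.mem_iUnion.mpr ⟨⟨⟨irreducibleComponent z, irreducibleComponent_mem_irreducibleComponents z⟩,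
      fun h => hzZ (h ▸ mem_irreducibleComponent)⟩, mem_irreducibleComponent⟩)
  have hirr : IsIrreducible (V : Set Y) := by
    refine ⟨⟨y, hyC⟩, fun u v hu hv ⟨a, haV, hau⟩ ⟨b, hbV, hbv⟩ => ?_⟩
    obtain ⟨z, -, hzV, hz⟩ := hZ₀mem.1.2 (↑V ∩ u) (↑V ∩ v) (V.2.inter hu) (V.2.inter hv)
      ⟨a, hsub haV, haV, hau⟩ ⟨b, hsub hbV, hbV, hbv⟩
    exact ⟨z, hzV.1, hzV.2, hz.2⟩
  have : IrreducibleSpace (V : Scheme.{u}) :=
    (Subtype.irreducibleSpace hirr : IrreducibleSpace (V : Set Y))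
  exact isIntegral_of_irreducibleSpace_of_isReduced _

theorem agree {X Y : Scheme.{u}} [IsReduced Y] (f : X ⟶ Y) [IsSeparated f] (U : Y.Opens)
    (u : (U : Scheme.{u}) ⟶ X) (hu : u ≫ f = U.ι) (V V₂ : Y.Opens) [IsIntegral (V : Scheme.{u})] (hle : V₂ ≤ V)
    (hηU : (genericPoint (V : Scheme.{u})).1 ∈ U) (v : (V₂ : Scheme.{u}) ⟶ X) (hv : v ≫ f = V₂.ι)
    {Z : Scheme.{u}} (i : Z ⟶ X) [IsOpenImmersion i] [IsOpenImmersion (i ≫ f)]
    (hvi : Set.range v ⊆ Set.range i) (hui : u ⟨(genericPoint (V : Scheme.{u})).1, hηU⟩ ∈ Set.range i) :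
    Y.homOfLE (inf_le_left : U ⊓ V₂ ≤ U) ≫ u = Y.homOfLE (inf_le_right : U ⊓ V₂ ≤ V₂) ≫ v := by
  let a := Y.homOfLE (inf_le_left : U ⊓ V₂ ≤ U) ≫ u
  let b := Y.homOfLE (inf_le_right : U ⊓ V₂ ≤ V₂) ≫ v
  have hab : a ≫ f = b ≫ f := by
    simp only [a, b, Category.assoc, hu, hv, Scheme.homOfLE_ι]
  by_cases hne : Nonempty ((U ⊓ V₂ : Y.Opens) : Scheme.{u})
  swap
  · have : IsEmpty ((U ⊓ V₂ : Y.Opens) : Scheme.{u}) := not_nonempty_iff.mp hne
    exact isInitialOfIsEmpty.hom_ext _ _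
  obtain ⟨⟨p, hpU, hp₂⟩⟩ := hne
  have hη₂ : (genericPoint (V : Scheme.{u})).1 ∈ V₂ :=
    (((genericPoint_spec (V : Scheme.{u})).specializes (show (⟨p, hle hp₂⟩ : (V : Scheme.{u})) ∈ Set.univ from trivial)).map
      V.ι.continuous).mem_open V₂.2 hp₂
  let η₂ : ((U ⊓ V₂ : Y.Opens) : Scheme.{u}) := ⟨_, hηU, hη₂⟩
  let O := a ⁻¹ᵁ i.opensRange
  have hηO : η₂ ∈ O := by
    show a η₂ ∈ Set.range i
    rw [show a η₂ = u ⟨(genericPoint (V : Scheme.{u})).1, hηU⟩ from by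
      show u (Y.homOfLE (inf_le_left : U ⊓ V₂ ≤ U) η₂) = _
      congr 1
      exact Subtype.ext (by simp [η₂])]
    exact hui
  have : IsDominant O.ι := by
    rw [isDominant_iff, denseRange_iff_closure_range, Scheme.Opens.range_ι, Set.eq_univ_iff_forall]
    intro z
    refine closure_mono (Set.singleton_subset_iff.mpr hηO) (specializes_iff_mem_closure.mp ?_)
    rw [subtype_specializes_iff]
    exact ((genericPoint_spec (V : Scheme.{u})).specializes (show (⟨z.1, hle z.2.2⟩ : (V : Scheme.{u})) ∈ Set.univ from trivial)).map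
      V.ι.continuous
  refine ext_of_isDominant_of_isSeparated f hab O.ι ?_
  have hr1 : Set.range (O.ι ≫ a) ⊆ Set.range i := by
    rintro _ ⟨p, rfl⟩
    exact p.2
  have hr2 : Set.range (O.ι ≫ b) ⊆ Set.range i := by
    rintro _ ⟨p, rfl⟩
    exact hvi ⟨_, rfl⟩
  have heq : IsOpenImmersion.lift i _ hr1 = IsOpenImmersion.lift i _ hr2 := by
    have h1 := IsOpenImmersion.lift_fac i _ hr1
    have h2 := IsOpenImmersion.lift_fac i _ hr2
    rw [← cancel_mono (i ≫ f)]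
    simp only [reassoc_of% h1, reassoc_of% h2]
    simp only [Category.assoc, hu, hv, Scheme.homOfLE_ι, a, b]
  rw [← IsOpenImmersion.lift_fac i _ hr1, heq, IsOpenImmersion.lift_fac i _ hr2]

/-- near a geometrically unibranch point an unramified morphism with a section at the generic point is an
open immersion -/
theorem exists_openImmersion_nhd {X V : Scheme.{u}} [IsIntegral V] (f : X ⟶ V) [IsSeparated f] [LocallyOfFiniteType f]
    [FormallyUnramified f] (W : V.Opens) (hηW : genericPoint V ∈ W) (u : (W : Scheme.{u}) ⟶ X) (hu : u ≫ f = W.ι)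
    (x : X) (hy : CAlg2.IsGeomUnibranch (V.presheaf.stalk (f x))) (hsp : u ⟨genericPoint V, hηW⟩ ⤳ x) :
    ∃ Z : X.Opens, x ∈ Z ∧ IsOpenImmersion (Z.ι ≫ f) := by
  classical
  let η := genericPoint V
  let ζ := u ⟨η, hηW⟩
  have hfζ : f ζ = η := by
    rw [← Scheme.Hom.comp_apply, hu]; rfl
  have hunr : (f.stalkMap x).hom.FormallyUnramified := by
    refine (Locus.Basic.exists_formallyUnramified_nhd_iff f x).mp ⟨⊤, trivial, ?_⟩
    exact MorphismProperty.comp_mem (W := @FormallyUnramified) _ _ inferInstance ‹_›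
  obtain ⟨O, hxO, hO⟩ := GeomUniScheme.exists_etale_nhd f x hy ⟨ζ, hsp, hfζ⟩ hunr
  have huni := (GeomUniScheme.geomUnibranch_of_etale f x hy ⟨O, hxO, hO⟩).1
  obtain ⟨N, hxN, hfin⟩ := GeomUniTop.finite_generic f x
  let Cs : Set X := ⋃ p ∈ {p | p ∈ N ∧ f p = η} \ {ζ}, closure {p}
  have hCs : IsClosed Cs := (hfin.sdiff).isClosed_biUnion fun p _ => isClosed_closure
  have hxCs : x ∉ Cs := fun h => by
    obtain ⟨p, hp, hpx⟩ := Set.mem_iUnion₂.mp h
    exact hp.2 (Set.mem_singleton_iff.mpr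
      (GeomUniTop.unique_gen x huni (specializes_iff_mem_closure.mpr hpx) hp.1.2 hsp hfζ))
  let Z : X.Opens := O ⊓ N ⊓ ⟨Csᶜ, hCs.isOpen_compl⟩
  have hxZ : x ∈ Z := ⟨⟨hxO, hxN⟩, hxCs⟩
  have hζZ : ζ ∈ Z := hsp.mem_open Z.2 hxZ
  let g := Z.ι ≫ f
  have : Etale g := by
    show Etale (Z.ι ≫ f)
    rw [← Scheme.homOfLE_ι _ (inf_le_left.trans inf_le_left : Z ≤ O), Category.assoc]
    infer_instance
  let T : V.Opens := W.ι ''ᵁ (u ⁻¹ᵁ Z)
  have hTW : T ≤ W := by rintro _ ⟨p, -, rfl⟩; exact p.2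
  let k := V.homOfLE hTW
  have hk : Set.range (k ≫ u) ⊆ Set.range Z.ι := by
    rintro _ ⟨p, rfl⟩
    obtain ⟨q, hq, hqp⟩ := p.2
    rw [Scheme.Opens.range_ι]
    have : k p = q := Subtype.ext (by simpa [k] using hqp.symm)
    rw [Scheme.Hom.comp_apply, this]
    exact hq
  let j := IsOpenImmersion.lift Z.ι (k ≫ u) hk
  have hjfac : j ≫ Z.ι = k ≫ u := IsOpenImmersion.lift_fac _ _ _
  have hj : j ≫ g = T.ι := by
    show j ≫ Z.ι ≫ f = T.ι
    rw [← Category.assoc, hjfac, Category.assoc, hu]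
    exact Scheme.homOfLE_ι _ _
  have : IsSeparated g := inferInstance
  refine ⟨Z, hxZ, isOpenImmersion_of_generic g T j hj fun z hz => ?_⟩
  have hzζ : z.1 = ζ := by
    by_contra hne
    exact z.2.2 (Set.mem_biUnion (x := z.1) ⟨⟨z.2.1.2, hz⟩, hne⟩ (subset_closure rfl))
  have hηT : η ∈ T := ⟨⟨η, hηW⟩, hζZ, rfl⟩
  refine ⟨⟨η, hηT⟩, Subtype.ext ?_⟩
  show Z.ι (j ⟨η, hηT⟩) = z.1
  rw [← Scheme.Hom.comp_apply, hjfac, hzζ, Scheme.Hom.comp_apply]
  congr 1
  exact Subtype.ext (by simp [k])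

theorem exists_extension {X Y : Scheme.{u}} [IsReduced Y]
    (hcomp : LocallyFinite (fun Z : ↥(irreducibleComponents ↥Y) => (Z : Set ↥Y)))
    (f : X ⟶ Y) [IsSeparated f] [LocallyOfFiniteType f] [FormallyUnramified f]
    (U : Y.Opens) (hU : Dense (U : Set ↥Y)) (u : (U : Scheme.{u}) ⟶ X) (hu : u ≫ f = U.ι)
    (y : Y) (hy : CAlg2.IsGeomUnibranch (Y.presheaf.stalk y))
    (hZ : (closure (Set.range u) ∩ f ⁻¹' {y}).Nonempty) :
    ∃ (V : Y.Opens) (v : (V : Scheme.{u}) ⟶ X), y ∈ V ∧ v ≫ f = V.ι ∧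
      Y.homOfLE (inf_le_left : U ⊓ V ≤ U) ≫ u = Y.homOfLE (inf_le_right : U ⊓ V ≤ V) ≫ v := by
  classical
  obtain ⟨x, hxu, rfl⟩ := hZ
  obtain ⟨V, hyV, hV⟩ := exists_integral_nhd hcomp (f x) hy
  let η := genericPoint (V : Scheme.{u})
  have hηsp : ∀ p : Y, p ∈ V → η.1 ⤳ p := fun p hp =>
    ((genericPoint_spec (V : Scheme.{u})).specializes (show (⟨p, hp⟩ : (V : Scheme.{u})) ∈ Set.univ from trivial)).map
      V.ι.continuous
  obtain ⟨p₀, hp₀V, hp₀U⟩ := hU.inter_open_nonempty _ V.2 ⟨_, hyV⟩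
  have hηU : η.1 ∈ U := (hηsp p₀ hp₀V).mem_open U.2 hp₀U
  have hfu : ∀ p : (U : Scheme.{u}), f (u p) = p.1 := fun p => by
    rw [← Scheme.Hom.comp_apply, hu]; rfl
  have hζx : u ⟨η.1, hηU⟩ ⤳ x := by
    rw [specializes_iff_forall_open]
    intro O hO hxO
    obtain ⟨_, ⟨hpO, hpV⟩, p, rfl⟩ := mem_closure_iff.mp hxu (O ∩ f ⁻¹' (V : Set Y))
      (hO.inter (V.2.preimage f.continuous)) ⟨hxO, hyV⟩
    have hpV' : p.1 ∈ V := by rw [← hfu p]; exact hpV
    have : (⟨η.1, hηU⟩ : (U : Scheme.{u})) ⤳ p := (subtype_specializes_iff _ _).mpr (hηsp p.1 hpV')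
    exact (this.map u.continuous).mem_open hO hpO
  -- over `V`
  let W : (V : Scheme.{u}).Opens := V.ι ⁻¹ᵁ U
  let q : (W : Scheme.{u}) ⟶ (U : Scheme.{u}) := IsOpenImmersion.lift U.ι (W.ι ≫ V.ι) (by
    rintro _ ⟨p, rfl⟩
    rw [Scheme.Opens.range_ι]
    exact p.2)
  have hq : q ≫ U.ι = W.ι ≫ V.ι := IsOpenImmersion.lift_fac _ _ _
  let uV : (W : Scheme.{u}) ⟶ (↑(f ⁻¹ᵁ V) : Scheme.{u}) := IsOpenImmersion.lift (f ⁻¹ᵁ V).ι (q ≫ u) (by
    rintro _ ⟨p, rfl⟩
    rw [Scheme.Opens.range_ι]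
    show f ((q ≫ u) p) ∈ V
    rw [← Scheme.Hom.comp_apply, Category.assoc, hu, hq]
    exact p.1.2)
  have huV : uV ≫ (f ⁻¹ᵁ V).ι = q ≫ u := IsOpenImmersion.lift_fac _ _ _
  have huVf : uV ≫ (f ∣_ V) = W.ι := by
    rw [← cancel_mono V.ι, Category.assoc, morphismRestrict_ι, ← Category.assoc, huV, Category.assoc, hu, hq]
  have : FormallyUnramified (f ∣_ V) := IsZariskiLocalAtTarget.restrict (P := @FormallyUnramified) ‹_› V
  let x' : (↑(f ⁻¹ᵁ V) : Scheme.{u}) := ⟨x, hyV⟩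
  have hY' : CAlg2.IsGeomUnibranch ((V : Scheme.{u}).presheaf.stalk ((f ∣_ V) x')) := by
    have e := (asIso (V.ι.stalkMap ((f ∣_ V) x'))).commRingCatIsoToRingEquiv
    refine GeomUniScheme.geomUnibranch_of_ringEquiv' e ?_
    rw [show V.ι ((f ∣_ V) x') = f x from morphismRestrict_base_coe f V x']
    exact hy
  have hqη : q ⟨η, hηU⟩ = ⟨η.1, hηU⟩ := Subtype.ext (by
    show U.ι (q ⟨η, hηU⟩) = η.1
    rw [← Scheme.Hom.comp_apply, hq]
    rfl)
  have hsp : uV ⟨η, hηU⟩ ⤳ x' := (subtype_specializes_iff _ _).mpr (by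
    show (f ⁻¹ᵁ V).ι (uV ⟨η, hηU⟩) ⤳ x
    rw [← Scheme.Hom.comp_apply, huV, Scheme.Hom.comp_apply, hqη]
    exact hζx)
  obtain ⟨Z, hxZ, hopen⟩ := exists_openImmersion_nhd (f ∣_ V) W hηU uV huVf x' hY' hsp
  -- the extension
  let i : (Z : Scheme.{u}) ⟶ X := Z.ι ≫ (f ⁻¹ᵁ V).ι
  let e : (Z : Scheme.{u}) ⟶ Y := i ≫ f
  have : IsOpenImmersion e := by
    have : e = (Z.ι ≫ (f ∣_ V)) ≫ V.ι := by simp [e, i]
    rw [this]; infer_instance
  let V₂ : Y.Opens := e.opensRange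
  let v : (V₂ : Scheme.{u}) ⟶ X := e.isoOpensRange.inv ≫ i
  have hvf : v ≫ f = V₂.ι := by
    simp only [v, Category.assoc]
    exact e.isoOpensRange_inv_comp
  refine ⟨V₂, v, ⟨⟨x', hxZ⟩, rfl⟩, hvf, ?_⟩
  exact agree f U u hu V V₂ (by rintro _ ⟨z, rfl⟩; exact z.1.2) hηU v hvf i
    (by rintro _ ⟨p, rfl⟩; exact ⟨e.isoOpensRange.inv p, rfl⟩)
    ⟨⟨uV ⟨η, hηU⟩, hsp.mem_open Z.2 hxZ⟩, by
      show (f ⁻¹ᵁ V).ι (uV ⟨η, hηU⟩) = _
      rw [← Scheme.Hom.comp_apply, huV, Scheme.Hom.comp_apply, hqη]⟩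

theorem isOpen_isClosed_range {X Y : Scheme.{u}} [IsReduced Y]
    (hcomp : LocallyFinite (fun Z : ↥(irreducibleComponents ↥Y) => (Z : Set ↥Y)))
    (f : X ⟶ Y) [IsSeparated f] [LocallyOfFiniteType f] [FormallyUnramified f]
    (U : Y.Opens) (hU : Dense (U : Set ↥Y)) (u : (U : Scheme.{u}) ⟶ X) (hu : u ≫ f = U.ι)
    (hY : ∀ y : Y, CAlg2.IsGeomUnibranch (Y.presheaf.stalk y))
    (hmax : ∀ (V : Y.Opens) (v : (V : Scheme.{u}) ⟶ X), v ≫ f = V.ι →
      Y.homOfLE (inf_le_left : U ⊓ V ≤ U) ≫ u = Y.homOfLE (inf_le_right : U ⊓ V ≤ V) ≫ v → V ≤ U) :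
    IsOpen (Set.range u) ∧ IsClosed (Set.range u) := by
  have hs : Set.range u ⊆ f ⁻¹' (U : Set Y) := by
    rintro _ ⟨p, rfl⟩
    rw [Set.mem_preimage, ← Scheme.Hom.comp_apply, hu]
    exact p.2
  let u' : (U : Scheme.{u}) ⟶ (↑(f ⁻¹ᵁ U) : Scheme.{u}) :=
    IsOpenImmersion.lift (f ⁻¹ᵁ U).ι u (by rw [Scheme.Opens.range_ι]; exact hs)
  have hu' : u' ≫ (f ⁻¹ᵁ U).ι = u := IsOpenImmersion.lift_fac _ _ _
  have hsec : u' ≫ (f ∣_ U) = 𝟙 _ := by
    rw [← cancel_mono U.ι, Category.assoc, morphismRestrict_ι, ← Category.assoc, hu', hu, Category.id_comp]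
  have hcl : IsClosedImmersion u' := by
    have : IsClosedImmersion (u' ≫ (f ∣_ U)) := hsec.symm ▸ inferInstance
    exact IsClosedImmersion.of_comp u' (f ∣_ U)
  have hop : IsOpen (Set.range u') := by
    have : FormallyUnramified (f ∣_ U) := IsZariskiLocalAtTarget.restrict (P := @FormallyUnramified) ‹_› U
    let ψ := pullback.lift ((f ∣_ U) ≫ u') (𝟙 _) (by rw [Category.assoc, hsec, Category.comp_id, Category.id_comp]) (f := f ∣_ U) (g := f ∣_ U)
    have : Set.range u' = ψ ⁻¹' Set.range (pullback.diagonal (f ∣_ U)) := by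
      ext z
      constructor
      · rintro ⟨p, rfl⟩
        refine ⟨u' p, ?_⟩
        rw [← Scheme.Hom.comp_apply, ← Scheme.Hom.comp_apply]
        suffices h : u' ≫ pullback.diagonal (f ∣_ U) = u' ≫ ψ by rw [h]
        apply pullback.hom_ext
        · simp [ψ, reassoc_of% hsec]
        · simp [ψ]
      · rintro ⟨w, hw⟩
        have h1 := congrArg (pullback.fst (f ∣_ U) (f ∣_ U)) hw
        have h2 := congrArg (pullback.snd (f ∣_ U) (f ∣_ U)) hw
        rw [← Scheme.Hom.comp_apply, ← Scheme.Hom.comp_apply, pullback.diagonal_fst, pullback.lift_fst] at h1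
        rw [← Scheme.Hom.comp_apply, ← Scheme.Hom.comp_apply, pullback.diagonal_snd, pullback.lift_snd] at h2
        refine ⟨(f ∣_ U) z, ?_⟩
        rw [← Scheme.Hom.comp_apply, ← h1]
        exact h2
    rw [this]
    exact (pullback.diagonal (f ∣_ U)).isOpenEmbedding.isOpen_range.preimage ψ.continuous
  have hr : Set.range u = (f ⁻¹ᵁ U).ι '' Set.range u' := by
    rw [← hu', Scheme.Hom.comp_base, TopCat.coe_comp, Set.range_comp]
  refine ⟨?_, ?_⟩
  · rw [hr]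
    exact (f ⁻¹ᵁ U).ι.isOpenEmbedding.isOpenMap _ hop
  · rw [← closure_subset_iff_isClosed]
    intro x hx
    obtain ⟨V, v, hyV, hv, hvu⟩ := exists_extension hcomp f U hU u hu (f x) (hY _) ⟨x, hx, rfl⟩
    have hxU : x ∈ f ⁻¹ᵁ U := hmax V v hv hvu hyV
    have : (⟨x, hxU⟩ : (↑(f ⁻¹ᵁ U) : Scheme.{u})) ∈ closure (Set.range u') := by
      rw [(f ⁻¹ᵁ U).ι.isOpenEmbedding.isInducing.closure_eq_preimage_closure_image, Set.mem_preimage, ← hr]
      exact hx
    rw [u'.isClosedEmbedding.isClosed_range.closure_eq] at this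
    rw [hr]
    exact ⟨_, this, rfl⟩

theorem exists_extension_of_closed {X Y : Scheme.{u}} [IsReduced Y]
    (hcomp : LocallyFinite (fun Z : ↥(irreducibleComponents ↥Y) => (Z : Set ↥Y)))
    (f : X ⟶ Y) [IsSeparated f] [LocallyOfFiniteType f] [FormallyUnramified f]
    (U : Y.Opens) (hU : Dense (U : Set ↥Y)) (u : (U : Scheme.{u}) ⟶ X) (hu : u ≫ f = U.ι)
    (hcl : ∀ T : Set ↥X, IsClosed T → IsIrreducible T → IsClosed (f '' T))
    (y : Y) (hy : CAlg2.IsGeomUnibranch (Y.presheaf.stalk y)) :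
    ∃ (V : Y.Opens) (v : (V : Scheme.{u}) ⟶ X), y ∈ V ∧ v ≫ f = V.ι ∧
      Y.homOfLE (inf_le_left : U ⊓ V ≤ U) ≫ u = Y.homOfLE (inf_le_right : U ⊓ V ≤ V) ≫ v := by
  refine exists_extension hcomp f U hU u hu y hy ?_
  obtain ⟨V, hyV, hV⟩ := exists_integral_nhd hcomp y hy
  let η := genericPoint (V : Scheme.{u})
  obtain ⟨p₀, hp₀V, hp₀U⟩ := hU.inter_open_nonempty _ V.2 ⟨_, hyV⟩
  have hηsp : ∀ p : Y, p ∈ V → η.1 ⤳ p := fun p hp =>
    ((genericPoint_spec (V : Scheme.{u})).specializes (show (⟨p, hp⟩ : (V : Scheme.{u})) ∈ Set.univ from trivial)).map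
      V.ι.continuous
  have hηU : η.1 ∈ U := (hηsp p₀ hp₀V).mem_open U.2 hp₀U
  let ζ : X := u ⟨η.1, hηU⟩
  have hfζ : f ζ = η.1 := by
    rw [← Scheme.Hom.comp_apply, hu]; rfl
  have h1 := hcl (closure {ζ}) isClosed_closure isIrreducible_singleton.closure
  obtain ⟨x, hx, hfx⟩ := (hηsp y hyV).mem_closed h1 (show η.1 ∈ f '' closure {ζ} from ⟨ζ, subset_closure rfl, hfζ⟩)
  exact ⟨x, closure_mono (Set.singleton_subset_iff.mpr (show ζ ∈ Set.range u from ⟨⟨η.1, hηU⟩, rfl⟩)) hx, hfx⟩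

end Groth.Agent.HensPoint.RatSection
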