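import Mathlib.RingTheory.Smooth.Flat
import Mathlib.RingTheory.Ideal.GoingDown
import Mathlib.RingTheory.Etale.StandardEtale
import Mathlib.RingTheory.Etale.Pi
import Mathlib.RingTheory.Henselian
import Mathlib.RingTheory.Flat.FaithfullyFlat.Algebra
import Mathlib.RingTheory.Spectrum.Prime.Chevalley
import Mathlib.RingTheory.LocalRing.ResidueField.Ideal
import Mathlib.FieldTheory.IsSepClosed

/-!
Local rings at closed points of rings whose faithfully flat etale algebras have retractions.
-/

set_option autoImplicit false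

noncomputable section

open Polynomial

namespace Groth.Agent.HensPoint.Retract

universe u

variable {A : Type u} [CommRing A]
  (h : ∀ (B : Type u) [CommRing B] [Algebra A B],
    Module.FaithfullyFlat A B → Algebra.Etale A B → Nonempty (B →ₐ[A] A))

include h

theorem exists_algHom (m : Ideal A) [m.IsMaximal] (B : Type u) [CommRing B] [Algebra A B]
    [Algebra.Etale A B] (Q : PrimeSpectrum B) (hQ : Q.asIdeal.comap (algebraMap A B) = m) :
    Nonempty (B →ₐ[A] Localization.AtPrime m) := by
  classical
  have hopen : IsOpen (Set.range (PrimeSpectrum.comap (algebraMap A B))) :=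
    (PrimeSpectrum.isOpenMap_comap_of_hasGoingDown_of_finitePresentation).isOpen_range
  obtain ⟨J, hJ⟩ := (PrimeSpectrum.isClosed_iff_zeroLocus_ideal _).mp hopen.isClosed_compl
  have hJm : ¬ J ≤ m := fun hle => by
    have : (⟨m, inferInstance⟩ : PrimeSpectrum A) ∈ PrimeSpectrum.zeroLocus (J : Set A) := hle
    rw [← hJ] at this
    exact this ⟨Q, PrimeSpectrum.ext hQ⟩
  obtain ⟨j, hj, g, hg, hjg⟩ : ∃ j ∈ J, ∃ g ∈ m, j + g = 1 := by
    have : J ⊔ m = ⊤ := (Ideal.IsMaximal.out (I := m)).2 _ (lt_of_le_of_ne le_sup_right fun he =>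
      hJm (he ▸ le_sup_left))
    exact Submodule.mem_sup.mp (this ▸ Submodule.mem_top : (1 : A) ∈ J ⊔ m)
  let X : Bool → Type u := fun b => match b with
    | true => B
    | false => Localization.Away g
  letI iC : ∀ b, CommRing (X b) := fun b => match b with
    | true => inferInstanceAs (CommRing B)
    | false => inferInstanceAs (CommRing (Localization.Away g))
  letI iA : ∀ b, Algebra A (X b) := fun b => match b with
    | true => inferInstanceAs (Algebra A B)
    | false => inferInstanceAs (Algebra A (Localization.Away g))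
  haveI : ∀ b, Algebra.Etale A (X b) := fun b => match b with
    | true => inferInstanceAs (Algebra.Etale A B)
    | false => Algebra.Etale.of_isLocalizationAway g
  have hff : Module.FaithfullyFlat A (∀ b, X b) := by
    haveI : Module.Flat A (∀ b, X b) := Algebra.Smooth.flat A (∀ b, X b)
    refine Module.FaithfullyFlat.of_comap_surjective fun p => ?_
    by_cases hp : p ∈ Set.range (PrimeSpectrum.comap (algebraMap A B))
    · obtain ⟨q, rfl⟩ := hp
      exact ⟨PrimeSpectrum.comap (Pi.evalRingHom X true) q, PrimeSpectrum.ext (Ideal.ext fun a => Iff.rfl)⟩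
    · have hgp : g ∉ p.asIdeal := fun hgp => by
        have hJp : J ≤ p.asIdeal := (show p ∈ PrimeSpectrum.zeroLocus (J : Set A) from hJ ▸ hp)
        exact p.2.ne_top ((Ideal.eq_top_iff_one _).mpr (hjg ▸ add_mem (hJp hj) hgp))
      obtain ⟨q, rfl⟩ : p ∈ Set.range (PrimeSpectrum.comap (algebraMap A (Localization.Away g))) := by
        rw [PrimeSpectrum.localization_away_comap_range (Localization.Away g) g]
        exact hgp
      exact ⟨PrimeSpectrum.comap (Pi.evalRingHom X false) q, PrimeSpectrum.ext (Ideal.ext fun a => Iff.rfl)⟩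
  obtain ⟨r⟩ := h (∀ b, X b) hff inferInstance
  let ψ : (∀ b, X b) →ₐ[A] Localization.AtPrime m :=
    (Algebra.ofId A (Localization.AtPrime m)).comp r
  let e : ∀ b, X b := Pi.single true 1
  have he : IsIdempotentElem (ψ e) := by
    have : e * e = e := by rw [← Pi.single_mul, mul_one]
    exact (IsIdempotentElem.map (show IsIdempotentElem e from this) ψ)
  have hsum : e + Pi.single false 1 = 1 := by
    funext b; cases b <;> simp [e]
  have he1 : ψ e = 1 := by
    have h01 : ψ e = 0 ∨ ψ e = 1 := by
      have h2 : ψ e * (1 - ψ e) = 0 := by rw [mul_sub, mul_one, he.eq, sub_self]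
      rcases IsLocalRing.isUnit_or_isUnit_one_sub_self (ψ e) with hu | hu
      · exact Or.inr (sub_eq_zero.mp (hu.mul_right_eq_zero.mp h2)).symm
      · exact Or.inl (hu.mul_left_eq_zero.mp h2)
    refine h01.resolve_left fun h0 => ?_
    have h1 : ψ (Pi.single false 1) = 1 := by
      simpa [h0] using congrArg ψ hsum
    have hu : IsUnit (algebraMap A (Localization.Away g) g) :=
      IsLocalization.Away.algebraMap_isUnit g
    obtain ⟨v, hv⟩ := hu.exists_right_inv
    have : ψ (algebraMap A (∀ b, X b) g) * ψ (Pi.single false v) = 1 := by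
      rw [← map_mul, ← h1]
      congr 1
      funext b; cases b
      · simpa using hv
      · simp
    rw [ψ.commutes] at this
    have := (IsLocalization.AtPrime.isUnit_to_map_iff (Localization.AtPrime m) m g).mp
      (IsUnit.of_mul_eq_one _ this)
    exact this hg
  exact ⟨AlgHom.ofLinearMap (ψ.toLinearMap.comp (LinearMap.single A X true)) he1 fun x y => by
    show ψ (Pi.single true (x * y)) = ψ (Pi.single true x) * ψ (Pi.single true y)
    rw [← map_mul, ← Pi.single_mul]⟩

theorem henselianLocalRing (m : Ideal A) [m.IsMaximal] :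
    HenselianLocalRing (Localization.AtPrime m) := by
  classical
  set L := Localization.AtPrime m
  refine { is_henselian := fun f hf a₀ h₀ hu => ?_ }
  obtain ⟨s, hs, hlift⟩ : ∃ s : A, s ∉ m ∧ ∀ k, ∃ b : A, algebraMap A L b = algebraMap A L s * f.coeff k := by
    obtain ⟨⟨s, hs⟩, hint⟩ := IsLocalization.exist_integer_multiples_of_finset m.primeCompl
      ((Finset.range (f.natDegree + 1)).image f.coeff)
    refine ⟨s, hs, fun k => ?_⟩
    by_cases hk : k ∈ Finset.range (f.natDegree + 1)
    · obtain ⟨b, hb⟩ := hint _ (Finset.mem_image_of_mem _ hk)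
      exact ⟨b, hb.trans (Algebra.smul_def _ _)⟩
    · exact ⟨0, by rw [coeff_eq_zero_of_natDegree_lt (by simpa using hk), map_zero, mul_zero]⟩
  choose b hb using hlift
  obtain ⟨su, hsu⟩ : IsUnit (algebraMap A L s) := IsLocalization.map_units L (⟨s, hs⟩ : m.primeCompl)
  set n := f.natDegree
  let F : A[X] := X ^ n + ∑ k : Fin n, C (b k * s ^ (n - 1 - k)) * X ^ (k : ℕ)
  have hF : F.Monic := monic_X_pow_add (degree_sum_fin_lt _)
  have hscale : F.map (algebraMap A L) = f.scaleRoots (algebraMap A L s) := by
    ext k
    rw [coeff_map, coeff_scaleRoots]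
    simp only [F, coeff_add, coeff_X_pow, finset_sum_coeff, coeff_C_mul, mul_ite, mul_one, mul_zero]
    rcases lt_trichotomy k n with hk | rfl | hk
    · rw [if_neg hk.ne, zero_add, Finset.sum_eq_single ⟨k, hk⟩]
      · rw [if_pos rfl, map_mul, map_pow, hb,
          show f.natDegree - k = (n - 1 - k) + 1 by omega, pow_succ]
        ring
      · intro j _ hj
        rw [if_neg fun h => hj (Fin.ext h.symm)]
      · simp
    · rw [if_pos rfl, Finset.sum_eq_zero fun j _ => if_neg j.2.ne', add_zero, map_one, hf.coeff_natDegree]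
      simp [n]
    · rw [if_neg hk.ne', Finset.sum_eq_zero fun j _ => if_neg (by omega), coeff_eq_zero_of_natDegree_lt hk]
      simp
  have hsur : Function.Surjective (algebraMap A (IsLocalRing.ResidueField L)) :=
    Ideal.algebraMap_residueField_surjective m
  obtain ⟨α, hα⟩ := hsur (IsLocalRing.residue L (algebraMap A L s * a₀))
  obtain ⟨q, hq⟩ := Polynomial.X_sub_C_dvd_sub_C_eval (p := F) (a := α)
  have hres : ∀ a, IsLocalRing.residue L (algebraMap A L a) = algebraMap A (IsLocalRing.ResidueField L) a :=
    fun a => rfl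
  have hF0 : aeval (algebraMap A (IsLocalRing.ResidueField L) α) F = 0 := by
    rw [hα, show (algebraMap A (IsLocalRing.ResidueField L)) = (IsLocalRing.residue L).comp (algebraMap A L) from rfl] at *
    rw [aeval_def, show algebraMap A (IsLocalRing.ResidueField L) = (IsLocalRing.residue L).comp (algebraMap A L) from rfl,
      ← hom_eval₂, ← eval_map, hscale, scaleRoots_eval_mul, map_mul,
      (IsLocalRing.residue_eq_zero_iff _).mpr h₀, mul_zero]
  have hFq : F = (X - C α) * q + C (F.eval α) := by linear_combination hq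
  have hFd : aeval (algebraMap A (IsLocalRing.ResidueField L) α) q ≠ 0 := by
    have h1 : aeval (algebraMap A (IsLocalRing.ResidueField L) α) (derivative F) =
        aeval (algebraMap A (IsLocalRing.ResidueField L) α) q := by
      conv_lhs => rw [hFq]
      simp
    rw [← h1, hα]
    have hcomp : (F.map (algebraMap A L)).comp (C (algebraMap A L s) * X) =
        C (algebraMap A L s ^ n) * f := by
      rw [hscale, comp, scaleRoots_eval₂_mul, eval₂_C_X, C_pow]
    have h2 : algebraMap A L s * (F.map (algebraMap A L)).derivative.eval (algebraMap A L s * a₀) =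
        algebraMap A L s ^ n * f.derivative.eval a₀ := by
      have h6 := congrArg (fun p => (derivative p).eval a₀) hcomp
      simp only [derivative_comp, eval_mul, eval_comp, derivative_C_mul, derivative_X, eval_C,
        eval_X, mul_one, eval_one] at h6
      exact h6
    have h2' : IsUnit ((F.map (algebraMap A L)).derivative.eval (algebraMap A L s * a₀)) :=
      isUnit_of_mul_isUnit_right (h2 ▸ ((hsu ▸ su.isUnit).pow n).mul hu)
    rw [aeval_def, show algebraMap A (IsLocalRing.ResidueField L) = (IsLocalRing.residue L).comp (algebraMap A L) from rfl,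
      ← hom_eval₂, ← eval_map, ← derivative_map]
    exact (h2'.map (IsLocalRing.residue L)).ne_zero
  let P : StandardEtalePair A := ⟨F, hF, derivative F * q, q, 0, 1, by ring⟩
  have hP : P.HasMap (algebraMap A (IsLocalRing.ResidueField L) α) := ⟨hF0, by
    show IsUnit (aeval _ (derivative F * q))
    rw [map_mul]
    refine (IsUnit.mk0 _ ?_).mul (IsUnit.mk0 _ hFd)
    conv => rw [hFq]
    simpa using hFd⟩
  let ev := P.lift _ hP
  have hker : (RingHom.ker ev.toRingHom).comap (algebraMap A P.Ring) = m := by
    ext a
    rw [Ideal.mem_comap, RingHom.mem_ker]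
    show ev (algebraMap A P.Ring a) = 0 ↔ _
    rw [ev.commutes]
    exact Ideal.algebraMap_residueField_eq_zero
  obtain ⟨ψ⟩ := exists_algHom h m P.Ring ⟨RingHom.ker ev.toRingHom, RingHom.ker_isPrime _⟩ hker
  have hy := (StandardEtalePair.hasMap_X (P := P)).map ψ
  set y := ψ P.X
  obtain ⟨hy1, hy2⟩ := hy
  have hy2' : IsUnit (aeval y q) := isUnit_of_mul_isUnit_right (map_mul (aeval y) (derivative F) q ▸ hy2)
  have hres2 : IsLocalRing.residue L y = IsLocalRing.residue L (algebraMap A L s * a₀) := by
    rw [← hα]
    have h3 : IsLocalRing.residue L (aeval y F) = 0 := by rw [hy1, map_zero]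
    rw [hFq] at h3
    simp only [map_add, map_mul, map_sub, aeval_X, aeval_C, hres] at h3
    have h4 : algebraMap A (IsLocalRing.ResidueField L) (eval α F) = 0 := by
      rw [← hF0, aeval_algebraMap_apply_eq_algebraMap_eval]
    rw [show IsLocalRing.residue L (algebraMap A L (eval α F)) = 0 from h4, add_zero] at h3
    exact sub_eq_zero.mp ((mul_eq_zero.mp h3).resolve_right (hy2'.map (IsLocalRing.residue L)).ne_zero)
  refine ⟨(↑su⁻¹ : L) * y, ?_, ?_⟩
  · have h5 : (f.scaleRoots (algebraMap A L s)).eval (algebraMap A L s * ((↑su⁻¹ : L) * y)) = 0 := by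
      rw [← hscale, ← hsu, Units.mul_inv_cancel_left, eval_map_algebraMap, hy1]
    rw [scaleRoots_eval_mul] at h5
    exact ((hsu ▸ su.isUnit).pow _).mul_right_eq_zero.mp h5
  · rw [← IsLocalRing.residue_eq_zero_iff, map_sub, map_mul, hres2, ← map_mul, ← hsu,
      Units.inv_mul_cancel_left, sub_self]

theorem isSepClosed_residueField (m : Ideal A) [m.IsMaximal] :
    IsSepClosed (IsLocalRing.ResidueField (Localization.AtPrime m)) := by
  set L := Localization.AtPrime m
  refine IsSepClosed.of_exists_root _ fun p hp hirr hsep => ?_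
  obtain ⟨q, hq, hqd, hqm⟩ := Polynomial.lifts_and_natDegree_eq_and_monic
    (f := algebraMap A (IsLocalRing.ResidueField L))
    ((Polynomial.lifts_iff_coeff_lifts p).mpr fun _ => Ideal.algebraMap_residueField_surjective m _) hp
  let P : StandardEtalePair A := ⟨q, hqm, derivative q, 1, 0, 1, by simp⟩
  let K := AlgebraicClosure (IsLocalRing.ResidueField L)
  obtain ⟨z, hz⟩ := IsAlgClosed.exists_root (p.map (algebraMap _ K))
    (by rw [degree_map]; exact (degree_pos_of_irreducible hirr).ne')
  have hz' : aeval z p = 0 := by rwa [← eval_map_algebraMap]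
  have hP : P.HasMap z := ⟨by
      show aeval z q = 0
      rw [← aeval_map_algebraMap (IsLocalRing.ResidueField L), hq, hz'], by
      show IsUnit (aeval z (derivative q))
      rw [← aeval_map_algebraMap (IsLocalRing.ResidueField L), ← derivative_map, hq]
      exact (hsep.aeval_derivative_ne_zero hz').isUnit⟩
  let ev := P.lift _ hP
  have hker : (RingHom.ker ev.toRingHom).comap (algebraMap A P.Ring) = m := by
    ext a
    rw [Ideal.mem_comap, RingHom.mem_ker]
    show ev (algebraMap A P.Ring a) = 0 ↔ _
    rw [ev.commutes, IsScalarTower.algebraMap_apply A (IsLocalRing.ResidueField L) K,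
      FaithfulSMul.algebraMap_eq_zero_iff]
    exact Ideal.algebraMap_residueField_eq_zero
  obtain ⟨ψ⟩ := exists_algHom h m P.Ring ⟨RingHom.ker ev.toRingHom, RingHom.ker_isPrime _⟩ hker
  let φ : P.Ring →ₐ[A] IsLocalRing.ResidueField L := (IsScalarTower.toAlgHom A L _).comp ψ
  refine ⟨φ P.X, ?_⟩
  rw [← hq, eval_map_algebraMap]
  exact ((StandardEtalePair.hasMap_X (P := P)).map φ).1

end Groth.Agent.HensPoint.Retract
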