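import Groth.Agent.HensPair.EtaleSurjLift
import Mathlib.RingTheory.Etale.Pi
import Mathlib.RingTheory.Smooth.Flat
import Mathlib.RingTheory.Flat.FaithfullyFlat.Algebra
import Mathlib.RingTheory.Spectrum.Prime.Chevalley
import Mathlib.RingTheory.Ideal.GoingDown
import Mathlib.RingTheory.Localization.Away.Basic

/-!
Etale retractions pass to quotient rings.
-/

set_option autoImplicit false

noncomputable section

open scoped TensorProduct

namespace Groth.Agent.HensPoint.RetractQuot

universe u

variable {A : Type u} [CommRing A]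
  (h : ∀ (B : Type u) [CommRing B] [Algebra A B],
    Module.FaithfullyFlat A B → Algebra.Etale A B → Nonempty (B →ₐ[A] A))

include h

theorem quotient (I : Ideal A) (B : Type u) [CommRing B] [Algebra (A ⧸ I) B]
    [Module.FaithfullyFlat (A ⧸ I) B] [Algebra.Etale (A ⧸ I) B] :
    Nonempty (B →ₐ[A ⧸ I] A ⧸ I) := by
  classical
  obtain ⟨C, _, _, _, ⟨e⟩⟩ := HensPair.EtaleSurjLift.exists_lift (A := A) (Ā := A ⧸ I) (B := B)
    Ideal.Quotient.mk_surjective
  have hopen : IsOpen (Set.range (PrimeSpectrum.comap (algebraMap A C))) :=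
    (PrimeSpectrum.isOpenMap_comap_of_hasGoingDown_of_finitePresentation).isOpen_range
  obtain ⟨J, hJ⟩ := (PrimeSpectrum.isClosed_iff_zeroLocus_ideal _).mp hopen.isClosed_compl
  have hIJ : I ⊔ J = ⊤ := by
    by_contra hne
    obtain ⟨M, hM, hle⟩ := Ideal.exists_le_maximal _ hne
    let M' : PrimeSpectrum (A ⧸ I) := ⟨M.map (Ideal.Quotient.mk I),
      Ideal.map_isPrime_of_surjective Ideal.Quotient.mk_surjective
        (by rw [Ideal.mk_ker]; exact le_sup_left.trans hle)⟩
    obtain ⟨q, hq⟩ := PrimeSpectrum.comap_surjective_of_faithfullyFlat (A := A ⧸ I) (B := B) M'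
    let w : C →+* B := e.toRingEquiv.toRingHom.comp
      (Algebra.TensorProduct.includeRight (R := A) (A := A ⧸ I) (B := C)).toRingHom
    have hw : ∀ a : A, w (algebraMap A C a) = algebraMap (A ⧸ I) B (Ideal.Quotient.mk I a) := fun a => by
      show e ((1 : A ⧸ I) ⊗ₜ[A] algebraMap A C a) = _
      rw [← Algebra.TensorProduct.tmul_one_eq_one_tmul]
      exact e.commutes _
    have hmem : (⟨M, hM.isPrime⟩ : PrimeSpectrum A) ∈ PrimeSpectrum.zeroLocus (J : Set A) :=
      le_sup_right.trans hle
    rw [← hJ] at hmem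
    refine hmem ⟨PrimeSpectrum.comap w q, PrimeSpectrum.ext (Ideal.ext fun a => ?_)⟩
    show w (algebraMap A C a) ∈ q.asIdeal ↔ a ∈ M
    rw [hw]
    have h1 : q.asIdeal.comap (algebraMap (A ⧸ I) B) = M.map (Ideal.Quotient.mk I) :=
      congrArg PrimeSpectrum.asIdeal hq
    rw [← Ideal.mem_comap, h1, Ideal.mem_quotient_iff_mem (le_sup_left.trans hle)]
  obtain ⟨g, hg, j, hj, hgj⟩ := Submodule.mem_sup.mp (show (1 : A) ∈ I ⊔ J from hIJ ▸ Submodule.mem_top)
  let X : Bool → Type u := fun b => match b with
    | true => C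
    | false => Localization.Away g
  letI iC : ∀ b, CommRing (X b) := fun b => match b with
    | true => inferInstanceAs (CommRing C)
    | false => inferInstanceAs (CommRing (Localization.Away g))
  letI iA : ∀ b, Algebra A (X b) := fun b => match b with
    | true => inferInstanceAs (Algebra A C)
    | false => inferInstanceAs (Algebra A (Localization.Away g))
  haveI : ∀ b, Algebra.Etale A (X b) := fun b => match b with
    | true => inferInstanceAs (Algebra.Etale A C)
    | false => Algebra.Etale.of_isLocalizationAway g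
  have hff : Module.FaithfullyFlat A (∀ b, X b) := by
    haveI : Module.Flat A (∀ b, X b) := Algebra.Smooth.flat A (∀ b, X b)
    refine Module.FaithfullyFlat.of_comap_surjective fun p => ?_
    by_cases hp : p ∈ Set.range (PrimeSpectrum.comap (algebraMap A C))
    · obtain ⟨q, rfl⟩ := hp
      exact ⟨PrimeSpectrum.comap (Pi.evalRingHom X true) q, PrimeSpectrum.ext (Ideal.ext fun a => Iff.rfl)⟩
    · have hgp : g ∉ p.asIdeal := fun hgp => by
        have hJp : J ≤ p.asIdeal := (show p ∈ PrimeSpectrum.zeroLocus (J : Set A) from hJ ▸ hp)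
        exact p.2.ne_top ((Ideal.eq_top_iff_one _).mpr (hgj ▸ add_mem hgp (hJp hj)))
      obtain ⟨q, rfl⟩ : p ∈ Set.range (PrimeSpectrum.comap (algebraMap A (Localization.Away g))) := by
        rw [PrimeSpectrum.localization_away_comap_range (Localization.Away g) g]
        exact hgp
      exact ⟨PrimeSpectrum.comap (Pi.evalRingHom X false) q, PrimeSpectrum.ext (Ideal.ext fun a => Iff.rfl)⟩
  obtain ⟨r⟩ := h (∀ b, X b) hff inferInstance
  let ψ : (∀ b, X b) →ₐ[A] A ⧸ I := (Algebra.ofId A (A ⧸ I)).comp r
  have hz : ψ (Pi.single false 1) = 0 := by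
    obtain ⟨v, hv⟩ := (IsLocalization.Away.algebraMap_isUnit (S := Localization.Away g) g).exists_right_inv
    have : algebraMap A (∀ b, X b) g * Pi.single false v = Pi.single false 1 := by
      funext b; cases b
      · simpa using hv
      · simp
    rw [← this, map_mul, ψ.commutes, Ideal.Quotient.algebraMap_eq,
      Ideal.Quotient.eq_zero_iff_mem.mpr hg, zero_mul]
  have he1 : ψ (Pi.single true 1) = 1 := by
    have hsum : (Pi.single true 1 : ∀ b, X b) + Pi.single false 1 = 1 := by
      funext b; cases b <;> simp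
    simpa [hz] using congrArg ψ hsum
  let f : C →ₐ[A] A ⧸ I :=
    AlgHom.ofLinearMap (ψ.toLinearMap.comp (LinearMap.single A X true)) he1 fun x y => by
      show ψ (Pi.single true (x * y)) = ψ (Pi.single true x) * ψ (Pi.single true y)
      rw [← map_mul, ← Pi.single_mul]
  exact ⟨(Algebra.TensorProduct.lift (Algebra.ofId (A ⧸ I) (A ⧸ I)) f fun _ _ => Commute.all _ _).comp
    e.symm.toAlgHom⟩

end Groth.Agent.HensPoint.RetractQuot
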