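import Groth.Prelude.Def_Hensel
import Mathlib.FieldTheory.IsSepClosed

/-!
Local maps onto strict henselizations.
-/

set_option autoImplicit false

open IsLocalRing

namespace Groth.Agent.HensPoint.StrictSurj

universe u

theorem surjective {L D E : Type u} [CommRing L] [IsLocalRing L] [CommRing D] [HenselianLocalRing D]
    [IsSepClosed (ResidueField D)] [CommRing E] [IsLocalRing E] [Algebra L E]
    [IsLocalHom (algebraMap L E)] [hE : Hensel.IsStrictHenselization L E] (θ : L →+* D) [IsLocalHom θ]
    (g : D →+* E) [IsLocalHom g] (hgθ : g.comp θ = algebraMap L E) : Function.Surjective g := by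
  let gb := ResidueField.map g
  have hgb : Function.Surjective gb := by
    let := gb.toAlgebra
    let : Algebra (ResidueField L) (ResidueField D) := (ResidueField.map θ).toAlgebra
    have : IsScalarTower (ResidueField L) (ResidueField D) (ResidueField E) :=
      IsScalarTower.of_algebraMap_eq fun x => by
        obtain ⟨x, rfl⟩ := residue_surjective x
        show residue E (algebraMap L E x) = residue E (g (θ x))
        rw [← hgθ]; rfl
    have := hE.isSepClosure.2
    have : Algebra.IsSeparable (ResidueField D) (ResidueField E) :=
      Algebra.isSeparable_tower_top_of_isSeparable (ResidueField L) _ _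
    exact IsSepClosed.algebraMap_surjective (ResidueField D) (ResidueField E)
  let eb := RingEquiv.ofBijective gb ⟨gb.injective, hgb⟩
  have hτ : eb.symm.toRingHom.comp (ResidueField.map (algebraMap L E)) = ResidueField.map θ := by
    refine RingHom.ext fun x => gb.injective ?_
    obtain ⟨x, rfl⟩ := residue_surjective x
    refine (eb.apply_symm_apply _).trans ?_
    simp only [gb, ResidueField.map_residue]
    rw [← hgθ]; rfl
  obtain ⟨h, ⟨hh, hhτ⟩, -⟩ := hE.universal D θ eb.symm.toRingHom hτ
  have := hE.henselian
  have hgh : g.comp h = RingHom.id E :=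
    (hE.universal E (algebraMap L E) (RingHom.id _) (RingHom.id_comp _)).unique
      ⟨by rw [RingHom.comp_assoc, hh, hgθ], fun x => by
        rw [RingHom.comp_apply, ← ResidueField.map_residue g, hhτ]
        exact eb.apply_symm_apply _⟩
      ⟨RingHom.id_comp _, fun _ => rfl⟩
  exact fun z => ⟨h z, RingHom.congr_fun hgh z⟩

end Groth.Agent.HensPoint.StrictSurj
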