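import Groth.Agent.HensPair.LocalFacts
import Groth.Agent.HensPoint.Strict
import Mathlib.RingTheory.TensorProduct.Basic

/-!
Henselizations of localizations of `Rh ⊗ S`.
-/

set_option autoImplicit false

open IsLocalRing

namespace Groth.Agent.HensPoint.TensorLoc

universe u

theorem unique_hens {L E S : Type u} [CommRing L] [IsLocalRing L] [CommRing E] [IsLocalRing E]
    [CommRing S] [IsLocalRing S] [Algebra L E] [IsLocalHom (algebraMap L E)] [Algebra L S]
    [IsLocalHom (algebraMap L S)] (hE : Hensel.IsHenselization L E) (hS : Hensel.IsHenselization L S) :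
    Nonempty (E ≃ₐ[L] S) := by
  have h1 := HensPair.Local.isPairHenselization (A := L) (B := E) (hB := hE)
  have h2 := HensPair.Local.isPairHenselization (A := L) (B := S) (hB := hS)
  exact HensPair.Henselization.unique h1 h2

theorem unique_strict {L E S : Type u} [CommRing L] [IsLocalRing L] [CommRing E] [IsLocalRing E]
    [CommRing S] [IsLocalRing S] [Algebra L E] [IsLocalHom (algebraMap L E)] [Algebra L S]
    [IsLocalHom (algebraMap L S)] (hE : Hensel.IsStrictHenselization L E)
    (hS : Hensel.IsStrictHenselization L S) : Nonempty (E ≃ₐ[L] S) := by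
  obtain ⟨e⟩ := Strict.exists_equiv (R := L) (S := E) (hS := hE)
  obtain ⟨e'⟩ := Strict.exists_equiv (R := L) (S := S) (hS := hS)
  exact ⟨e.trans e'.symm⟩

variable {R S : Type u} [CommRing R] [CommRing S] [Algebra R S] {Sh : Type u} [CommRing Sh]
  [IsLocalRing Sh]

/-- the map from the local ring at the pullback of the maximal ideal -/
noncomputable def locMap {D : Type u} [CommRing D] (φ : D →+* Sh) :
    Localization.AtPrime ((maximalIdeal Sh).comap φ) →+* Sh :=
  IsLocalization.lift (M := ((maximalIdeal Sh).comap φ).primeCompl) (g := φ)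
    fun d => notMem_maximalIdeal.mp d.2

theorem locMap_algebraMap {D : Type u} [CommRing D] (φ : D →+* Sh) (d : D) :
    locMap φ (algebraMap D _ d) = φ d :=
  IsLocalization.lift_eq _ d

theorem isLocalHom_locMap {D : Type u} [CommRing D] (φ : D →+* Sh) : IsLocalHom (locMap φ) := ⟨fun x hx => by
  obtain ⟨a, s, rfl⟩ := IsLocalization.exists_mk'_eq ((maximalIdeal Sh).comap φ).primeCompl x
  refine (IsLocalization.AtPrime.isUnit_mk'_iff _ ((maximalIdeal Sh).comap φ) a s).mpr fun ha => ?_
  have h1 : IsUnit (locMap φ (algebraMap D _ (s : D))) := by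
    rw [locMap_algebraMap]; exact notMem_maximalIdeal.mp s.2
  have h2 := hx.mul h1
  rw [← map_mul, IsLocalization.mk'_spec, locMap_algebraMap] at h2
  exact (show φ a ∈ maximalIdeal Sh from ha) h2⟩

end Groth.Agent.HensPoint.TensorLoc
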