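import Groth.Agent.HensPoint.WeakAssEt
import Groth.Prelude.Def_FlatCA
import Mathlib.RingTheory.Ideal.MinimalPrime.Localization
import Mathlib.RingTheory.Ideal.AssociatedPrime.Basic
import Mathlib.RingTheory.Localization.AtPrime.Basic
import Mathlib.Algebra.Module.LocalizedModule.Basic

/-!
Elementary properties of weakly associated primes.
-/

set_option autoImplicit false

noncomputable section

namespace Groth.Agent.HensPoint.WeakAssBasic

universe u

open WeakAssEt

variable {R : Type u} [CommRing R] {M : Type u} [AddCommGroup M] [Module R M]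

theorem isPrime_of_mem {p : Ideal R} (hp : p ∈ FlatCA.weakAss R M) : p.IsPrime := by
  obtain ⟨m, hm⟩ := hp
  exact hm.1.1

theorem mem_iff_isAssociatedPrime (p : Ideal R) [p.IsPrime] :
    p ∈ FlatCA.weakAss R M ↔
      IsAssociatedPrime (IsLocalRing.maximalIdeal (Localization.AtPrime p)) (LocalizedModule p.primeCompl M) := by
  rw [← weakAss_localization p (Localization.AtPrime p) (LocalizedModule.mkLinearMap p.primeCompl M),
    maximalIdeal_mem_weakAss_iff]
  unfold IsAssociatedPrime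
  rw [Submodule.isAssociatedPrime_def, and_iff_right (IsLocalRing.maximalIdeal.isMaximal (Localization.AtPrime p)).isPrime]
  refine exists_congr fun m => ⟨fun ⟨h0, h⟩ => ?_, fun h => ⟨fun h0 => ?_, fun a ha => ?_⟩⟩
  · refine le_antisymm (fun a ha => ?_) (Ideal.IsPrime.radical_le_iff inferInstance |>.mpr fun a ha => ?_)
    · obtain ⟨n, hn⟩ := h a ha
      exact ⟨n, Submodule.mem_colon_singleton.mpr ((Submodule.mem_bot _).mpr hn)⟩
    · by_contra hc
      exact h0 ((IsLocalRing.notMem_maximalIdeal.mp hc).smul_eq_zero.mp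
        ((Submodule.mem_bot _).mp (Submodule.mem_colon_singleton.mp ha)))
  · refine (IsLocalRing.maximalIdeal.isMaximal (Localization.AtPrime p)).ne_top (top_le_iff.mp ?_)
    rw [h]
    refine le_trans ?_ Ideal.le_radical
    intro a _
    rw [Submodule.mem_colon_singleton, h0, smul_zero]
    exact Submodule.zero_mem _
  · rw [h] at ha
    obtain ⟨n, hn⟩ := ha
    exact ⟨n, (Submodule.mem_bot _).mp (Submodule.mem_colon_singleton.mp hn)⟩

theorem weakAss_self [IsReduced R] : FlatCA.weakAss R R = minimalPrimes R := by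
  ext p
  constructor
  · intro hp
    have := isPrime_of_mem hp
    obtain ⟨m, hm, hkill⟩ := (mem_weakAss_iff p).mp hp
    have hmp : m ∉ p := fun hmp => by
      obtain ⟨n, t, ht, h⟩ := hkill m hmp
      refine hm t ht (IsNilpotent.eq_zero ⟨n + 1, ?_⟩)
      rw [smul_eq_mul] at h ⊢
      calc (t * m) ^ (n + 1) = t ^ n * (t * m ^ n * m) := by ring
        _ = 0 := by rw [h, mul_zero]
    refine ⟨⟨inferInstance, bot_le⟩, fun r ⟨hr, _⟩ hrp a ha => ?_⟩
    obtain ⟨n, t, ht, h⟩ := hkill a ha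
    rw [smul_eq_mul] at h
    have hmem : t * a ^ n * m ∈ r := h ▸ zero_mem _
    rcases hr.mem_or_mem hmem with h1 | h1
    · rcases hr.mem_or_mem h1 with h2 | h2
      · exact absurd (hrp h2) ht
      · exact hr.mem_of_pow_mem n h2
    · exact absurd (hrp h1) hmp
  · intro hp
    refine ⟨1, ?_⟩
    have : (Submodule.span R {(1 : R)}).annihilator = ⊥ := by
      rw [eq_bot_iff]
      intro a ha
      rw [Submodule.mem_annihilator_span_singleton, smul_eq_mul, mul_one] at ha
      exact (Submodule.mem_bot R).mpr ha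
    rw [this]
    exact hp

theorem exact_subset {M' M'' : Type u} [AddCommGroup M'] [Module R M'] [AddCommGroup M''] [Module R M'']
    (f : M' →ₗ[R] M) (g : M →ₗ[R] M'') (hf : Function.Injective f) (hfg : Function.Exact f g) :
    FlatCA.weakAss R M' ⊆ FlatCA.weakAss R M ∧
      FlatCA.weakAss R M ⊆ FlatCA.weakAss R M' ∪ FlatCA.weakAss R M'' := by
  constructor
  · intro p hp
    have := isPrime_of_mem hp
    obtain ⟨m, hm, hkill⟩ := (mem_weakAss_iff p).mp hp
    refine (mem_weakAss_iff p).mpr ⟨f m, fun t ht h => hm t ht (hf ?_), fun a ha => ?_⟩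
    · rw [map_smul, map_zero, h]
    · obtain ⟨n, t, ht, h⟩ := hkill a ha
      exact ⟨n, t, ht, by rw [← map_smul, h, map_zero]⟩
  · intro p hp
    have := isPrime_of_mem hp
    obtain ⟨m, hm, hkill⟩ := (mem_weakAss_iff p).mp hp
    by_cases h : ∀ t ∉ p, t • g m ≠ 0
    · refine Or.inr ((mem_weakAss_iff p).mpr ⟨g m, h, fun a ha => ?_⟩)
      obtain ⟨n, t, ht, h⟩ := hkill a ha
      exact ⟨n, t, ht, by rw [← map_smul, h, map_zero]⟩
    · push Not at h
      obtain ⟨t₀, ht₀, h0⟩ := h
      obtain ⟨m', hm'⟩ := (hfg (t₀ • m)).mp (by rw [map_smul, h0])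
      refine Or.inl ((mem_weakAss_iff p).mpr ⟨m', fun t ht h => hm (t * t₀) ?_ ?_, fun a ha => ?_⟩)
      · exact Ideal.IsPrime.mul_notMem inferInstance ht ht₀
      · rw [mul_smul, ← hm', ← map_smul, h, map_zero]
      · obtain ⟨n, t, ht, h⟩ := hkill a ha
        refine ⟨n, t, ht, hf ?_⟩
        rw [map_smul, hm', smul_comm, h, smul_zero, map_zero]

theorem exists_mem_of_ne_zero {m : M} (hm : m ≠ 0) :
    ∃ p ∈ FlatCA.weakAss R M, p.IsPrime ∧ (Submodule.span R {m}).annihilator ≤ p := by
  have h : (Submodule.span R {m}).annihilator ≠ ⊤ := fun h => hm (by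
    have := (Submodule.mem_annihilator_span_singleton m (1 : R)).mp (h ▸ Submodule.mem_top)
    rwa [one_smul] at this)
  obtain ⟨p, hp⟩ := Ideal.nonempty_minimalPrimes h
  exact ⟨p, ⟨m, hp⟩, hp.1.1, hp.1.2⟩

theorem eq_empty_iff : FlatCA.weakAss R M = ∅ ↔ Subsingleton M := by
  refine ⟨fun h => subsingleton_of_forall_eq 0 fun m => ?_, fun h => ?_⟩
  · by_contra hm
    obtain ⟨p, hp, -⟩ := exists_mem_of_ne_zero (R := R) hm
    rw [h] at hp
    exact hp
  · rw [Set.eq_empty_iff_forall_notMem]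
    intro p hp
    have := isPrime_of_mem hp
    obtain ⟨m, hm, -⟩ := (mem_weakAss_iff p).mp hp
    exact hm 1 ((Ideal.ne_top_iff_one p).mp (Ideal.IsPrime.ne_top inferInstance)) (Subsingleton.elim _ _)

theorem not_regular_of_mem {p : Ideal R} (hp : p ∈ FlatCA.weakAss R M) {a : R} (ha : a ∈ p) :
    ¬ IsSMulRegular M a := by
  intro hreg
  have := isPrime_of_mem hp
  obtain ⟨m, hm, hkill⟩ := (mem_weakAss_iff p).mp hp
  obtain ⟨n, t, ht, h⟩ := hkill a ha
  refine hm t ht ((hreg.pow n) ?_)
  show a ^ n • t • m = a ^ n • (0 : M)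
  rw [smul_zero, smul_smul, mul_comm, h]

theorem biUnion_eq : ⋃ q ∈ FlatCA.weakAss R M, (q : Set R) = {f : R | ¬ IsSMulRegular M f} := by
  ext a
  simp only [Set.mem_iUnion, SetLike.mem_coe, Set.mem_ofPred_eq]
  refine ⟨fun ⟨q, hq, ha⟩ => not_regular_of_mem hq ha, fun h => ?_⟩
  rw [isSMulRegular_iff_right_eq_zero_of_smul] at h
  push Not at h
  obtain ⟨m, hm0, hm⟩ := h
  obtain ⟨p, hp, -, hle⟩ := exists_mem_of_ne_zero (R := R) hm
  exact ⟨p, hp, hle ((Submodule.mem_annihilator_span_singleton m a).mpr hm0)⟩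

theorem ass_iff (p : Ideal R) [p.IsPrime] (hp : p.FG) : p ∈ FlatCA.ass R M ↔ p ∈ FlatCA.weakAss R M := by
  classical
  refine ⟨fun ⟨_, m, hm⟩ => ⟨m, ?_⟩, fun h => ?_⟩
  · rw [← hm, Ideal.minimalPrimes_eq_subsingleton_self]
    rfl
  obtain ⟨m, hm, hkill⟩ := (mem_weakAss_iff p).mp h
  -- simultaneous killing of finitely generated ideals
  have fin : ∀ J : Ideal R, J.FG → (∀ a ∈ J, ∃ t ∉ p, t • a • m = 0) → ∃ t ∉ p, ∀ a ∈ J, t • a • m = 0 := by
    intro J ⟨s, hs⟩ hJ
    choose t ht h0 using fun a : s => hJ a.1 (hs ▸ Submodule.subset_span a.2)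
    refine ⟨∏ a, t a, fun hc => ?_, fun a ha => ?_⟩
    · obtain ⟨a, -, ha⟩ := Ideal.IsPrime.prod_mem_iff.mp hc
      exact ht a ha
    · rw [← hs] at ha
      induction ha using Submodule.span_induction with
      | mem a ha =>
        rw [← Finset.prod_erase_mul _ _ (Finset.mem_univ (⟨a, ha⟩ : s)), mul_smul, h0, smul_zero]
      | zero => rw [zero_smul, smul_zero]
      | add a b _ _ h1 h2 => rw [add_smul, smul_add, h1, h2, add_zero]
      | smul c a _ h1 => rw [smul_eq_mul, mul_smul, smul_comm, h1, smul_zero]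
  let J : Ideal R :=
    { carrier := {a | ∃ t ∉ p, t • a • m = 0}
      zero_mem' := ⟨1, (Ideal.ne_top_iff_one p).mp (Ideal.IsPrime.ne_top inferInstance), by simp⟩
      add_mem' := fun {a b} ⟨t, ht, h1⟩ ⟨t', ht', h2⟩ => ⟨t * t', Ideal.IsPrime.mul_notMem inferInstance ht ht', by
        rw [add_smul, smul_add, mul_comm, mul_smul, h1, smul_zero, mul_comm t' t, mul_smul, h2, smul_zero,
          add_zero]⟩
      smul_mem' := fun c a ⟨t, ht, h1⟩ => ⟨t, ht, by rw [smul_eq_mul, mul_smul, smul_comm, h1, smul_zero]⟩ }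
  have hrad : p ≤ J.radical := fun a ha => by
    obtain ⟨n, t, ht, h⟩ := hkill a ha
    exact ⟨n, t, ht, by rw [smul_smul, h]⟩
  obtain ⟨N, hN⟩ := Ideal.exists_pow_le_of_le_radical_of_fg hrad hp
  have hex : ∃ N, p ^ N ≤ J := ⟨N, hN⟩
  let n₀ := Nat.find hex
  have hn₀ : p ^ n₀ ≤ J := Nat.find_spec hex
  have hne : n₀ ≠ 0 := fun h0 => by
    obtain ⟨t, ht, h1⟩ : (1 : R) ∈ J := hn₀ (by rw [h0, pow_zero, Ideal.one_eq_top]; trivial)
    exact hm t ht (by rwa [one_smul] at h1)
  obtain ⟨a, ha, haJ⟩ := SetLike.not_le_iff_exists.mp (Nat.find_min hex (Nat.sub_one_lt hne))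
  obtain ⟨t, ht, hkill'⟩ := fin (p ^ n₀) (Submodule.FG.pow hp n₀) (fun b hb => hn₀ hb)
  refine ⟨inferInstance, t • a • m, le_antisymm (fun c hc => ?_) fun c hc => ?_⟩
  · rw [Submodule.mem_annihilator_span_singleton, smul_comm, smul_smul c a m]
    refine hkill' _ ?_
    rw [show n₀ = n₀ - 1 + 1 by omega, pow_succ']
    exact Ideal.mul_mem_mul hc ha
  · rw [Submodule.mem_annihilator_span_singleton, smul_smul c t] at hc
    by_contra hcp
    exact haJ ⟨c * t, Ideal.IsPrime.mul_notMem inferInstance hcp ht, hc⟩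

theorem quotient_eq (I : Ideal R) (M : Type u) [AddCommGroup M] [Module (R ⧸ I) M] [Module R M]
    [IsScalarTower R (R ⧸ I) M] :
    FlatCA.weakAss R M = Ideal.comap (Ideal.Quotient.mk I) '' FlatCA.weakAss (R ⧸ I) M := by
  have key : ∀ m : M, (Submodule.span R {m}).annihilator.minimalPrimes =
      Ideal.comap (Ideal.Quotient.mk I) '' (Submodule.span (R ⧸ I) {m}).annihilator.minimalPrimes := fun m => by
    rw [← Ideal.comap_minimalPrimes_eq_of_surjective Ideal.Quotient.mk_surjective]
    congr 1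
    ext a
    rw [Ideal.mem_comap, Submodule.mem_annihilator_span_singleton, Submodule.mem_annihilator_span_singleton,
      ← Ideal.Quotient.algebraMap_eq, algebraMap_smul]
  ext p
  constructor
  · rintro ⟨m, hm⟩
    rw [key] at hm
    obtain ⟨q, hq, rfl⟩ := hm
    exact ⟨q, ⟨m, hq⟩, rfl⟩
  · rintro ⟨q, ⟨m, hm⟩, rfl⟩
    exact ⟨m, (key m).symm.subset ⟨q, hm, rfl⟩⟩

variable (S : Submonoid R)

theorem localization_eq :
    FlatCA.weakAss R (LocalizedModule S M) =
      Ideal.comap (algebraMap R (Localization S)) '' FlatCA.weakAss (Localization S) (LocalizedModule S M) := by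
  have key : ∀ x : LocalizedModule S M, (Submodule.span R {x}).annihilator.minimalPrimes =
      Ideal.comap (algebraMap R (Localization S)) ''
        (Submodule.span (Localization S) {x}).annihilator.minimalPrimes := fun x => by
    have hc : (Submodule.span R {x}).annihilator =
        (Submodule.span (Localization S) {x}).annihilator.comap (algebraMap R (Localization S)) := by
      ext a
      rw [Ideal.mem_comap, Submodule.mem_annihilator_span_singleton, Submodule.mem_annihilator_span_singleton,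
        algebraMap_smul]
    rw [hc, IsLocalization.minimalPrimes_comap S]
  ext p
  constructor
  · rintro ⟨m, hm⟩
    rw [key] at hm
    obtain ⟨q, hq, rfl⟩ := hm
    exact ⟨q, ⟨m, hq⟩, rfl⟩
  · rintro ⟨q, ⟨m, hm⟩, rfl⟩
    exact ⟨m, (key m).symm.subset ⟨q, hm, rfl⟩⟩

theorem mem_iff_of_disjoint (p : Ideal R) [p.IsPrime] (hS : Disjoint (S : Set R) (p : Set R)) :
    p ∈ FlatCA.weakAss R M ↔ p ∈ FlatCA.weakAss R (LocalizedModule S M) := by
  let f := LocalizedModule.mkLinearMap S M
  rw [mem_weakAss_iff, mem_weakAss_iff]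
  have hSp : ∀ s ∈ S, s ∉ p := fun s hs hp => Set.disjoint_left.mp hS hs hp
  constructor
  · rintro ⟨m, hm, hkill⟩
    refine ⟨f m, fun t ht h => ?_, fun a ha => ?_⟩
    · obtain ⟨s, hs⟩ := IsLocalizedModule.exists_of_eq (S := S) (f := f) (show f (t • m) = f 0 by
        rw [map_smul, h, map_zero])
      exact hm (s * t) (Ideal.IsPrime.mul_notMem inferInstance (hSp s s.2) ht)
        (by rw [mul_smul]; simpa [Submonoid.smul_def] using hs)
    · obtain ⟨n, t, ht, h⟩ := hkill a ha
      exact ⟨n, t, ht, by rw [← map_smul, h, map_zero]⟩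
  · rintro ⟨x, hx, hkill⟩
    obtain ⟨⟨m, s⟩, hm⟩ := IsLocalizedModule.surj S f x
    replace hm : (s : R) • x = f m := hm
    refine ⟨m, fun t ht h => hx (t * s) (Ideal.IsPrime.mul_notMem inferInstance ht (hSp s s.2)) ?_, fun a ha => ?_⟩
    · rw [mul_smul, hm, ← map_smul, h, map_zero]
    · obtain ⟨n, t, ht, h⟩ := hkill a ha
      obtain ⟨s', hs'⟩ := IsLocalizedModule.exists_of_eq (S := S) (f := f)
        (show f ((t * a ^ n) • m) = f 0 by rw [map_smul, ← hm, smul_comm, h, smul_zero, map_zero])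
      refine ⟨n, s' * t, Ideal.IsPrime.mul_notMem inferInstance (hSp s' s'.2) ht, ?_⟩
      rw [mul_assoc, mul_smul]
      simpa [Submonoid.smul_def] using hs'

theorem map_mem_iff (p : Ideal R) [p.IsPrime] (hS : Disjoint (S : Set R) (p : Set R)) :
    p ∈ FlatCA.weakAss R M ↔
      Ideal.map (algebraMap R (Localization S)) p ∈ FlatCA.weakAss (Localization S) (LocalizedModule S M) := by
  rw [mem_iff_of_disjoint S p hS, localization_eq S]
  constructor
  · rintro ⟨q, hq, h⟩
    rwa [← h, IsLocalization.map_comap S]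
  · exact fun h => ⟨_, h, IsLocalization.comap_map_of_isPrime_disjoint S (Localization S) inferInstance hS⟩

theorem eq_of_regular (hS : ∀ s ∈ S, IsSMulRegular M s) :
    FlatCA.weakAss R M = FlatCA.weakAss R (LocalizedModule S M) := by
  ext p
  constructor
  · intro hp
    have := isPrime_of_mem hp
    exact (mem_iff_of_disjoint S p (Set.disjoint_left.mpr fun s hs hsp =>
      not_regular_of_mem hp hsp (hS s hs))).mp hp
  · intro hp
    have := isPrime_of_mem hp
    refine (mem_iff_of_disjoint S p (Set.disjoint_left.mpr fun s hs hsp => ?_)).mpr hp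
    refine not_regular_of_mem hp hsp fun x y h => ?_
    exact ((Module.End.isUnit_iff _).mp (IsLocalizedModule.map_units (LocalizedModule.mkLinearMap S M)
      (⟨s, hs⟩ : S))).1 h

theorem eq_zero_of_localization (x : M)
    (hx : ∀ (p : Ideal R) [p.IsPrime], p ∈ FlatCA.weakAss R M → LocalizedModule.mkLinearMap p.primeCompl M x = 0) :
    x = 0 := by
  by_contra h
  obtain ⟨p, hp, hpp, hle⟩ := exists_mem_of_ne_zero (R := R) h
  obtain ⟨t, ht⟩ := IsLocalizedModule.exists_of_eq (S := p.primeCompl) (f := LocalizedModule.mkLinearMap p.primeCompl M)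
    ((hx p hp).trans (map_zero _).symm)
  exact t.2 (hle ((Submodule.mem_annihilator_span_singleton x _).mpr (by simpa [Submonoid.smul_def] using ht)))

end Groth.Agent.HensPoint.WeakAssBasic
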