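import Groth.Prelude.Def_FlatCA
import Groth.Agent.HensPoint.Trans
import Groth.Agent.HensPoint.DirColim
import Mathlib.RingTheory.Flat.Localization
import Mathlib.RingTheory.Flat.FaithfullyFlat.Basic
import Mathlib.RingTheory.Unramified.LocalStructure
import Mathlib.RingTheory.QuasiFinite.Basic
import Mathlib.RingTheory.Localization.BaseChange

/-!
Weakly associated primes under localization and under local maps which are colimits of etale
algebras.
-/

set_option autoImplicit false

namespace Groth.Agent.HensPoint.WeakAssEt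

universe u v w

open TensorProduct

section crit

variable {A : Type u} [CommRing A] {M : Type v} [AddCommGroup M] [Module A M]

theorem mem_minimalPrimes_iff (I p : Ideal A) [hp : p.IsPrime] :
    p ∈ I.minimalPrimes ↔ I ≤ p ∧ ∀ a ∈ p, ∃ n : ℕ, ∃ t ∉ p, t * a ^ n ∈ I := by
  constructor
  · intro h
    refine ⟨h.1.2, fun a ha => ?_⟩
    by_contra! hc
    have hd : Disjoint (I : Set A) ↑(p.primeCompl ⊔ Submonoid.powers a) := by
      rw [Set.disjoint_left]
      intro x hx hx'
      obtain ⟨t, ht, s, ⟨n, rfl⟩, rfl⟩ := Submonoid.mem_sup.mp hx'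
      exact hc n t ht hx
    obtain ⟨r, hr, hIr, hdr⟩ := Ideal.exists_le_prime_disjoint I _ hd
    have hrp : r ≤ p := fun x hx => by
      by_contra hxp
      exact Set.disjoint_left.mp hdr hx ((le_sup_left : p.primeCompl ≤ _) hxp)
    exact Set.disjoint_left.mp hdr (h.2 ⟨hr, hIr⟩ hrp ha)
      ((le_sup_right : Submonoid.powers a ≤ _) (Submonoid.mem_powers a))
  · rintro ⟨h1, h2⟩
    refine ⟨⟨hp, h1⟩, fun r ⟨hr, hIr⟩ hrp a ha => ?_⟩
    obtain ⟨n, t, ht, hta⟩ := h2 a ha
    rcases hr.mem_or_mem (hIr hta) with h | h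
    · exact absurd (hrp h) ht
    · exact hr.mem_of_pow_mem n h

theorem mem_weakAss_iff (p : Ideal A) [p.IsPrime] :
    p ∈ FlatCA.weakAss A M ↔
      ∃ m : M, (∀ t ∉ p, t • m ≠ 0) ∧ ∀ a ∈ p, ∃ n : ℕ, ∃ t ∉ p, (t * a ^ n) • m = 0 := by
  refine exists_congr fun m => ?_
  rw [mem_minimalPrimes_iff]
  simp only [Submodule.mem_annihilator_span_singleton]
  refine and_congr_left fun _ => ⟨fun h t ht h0 => ht (h (Submodule.mem_annihilator_span_singleton m t |>.mpr h0)),
    fun h t ht => by_contra fun htp => h t htp ((Submodule.mem_annihilator_span_singleton m t).mp ht)⟩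

theorem maximalIdeal_mem_weakAss_iff [IsLocalRing A] :
    IsLocalRing.maximalIdeal A ∈ FlatCA.weakAss A M ↔
      ∃ m : M, m ≠ 0 ∧ ∀ a ∈ IsLocalRing.maximalIdeal A, ∃ n : ℕ, a ^ n • m = 0 := by
  rw [mem_weakAss_iff]
  refine exists_congr fun m => and_congr ⟨fun h h0 => h 1 ?_ (by rw [h0, smul_zero]),
      fun h t ht h0 => h ?_⟩
    (forall₂_congr fun a _ => exists_congr fun n => ⟨fun ⟨t, ht, h⟩ => ?_, fun h => ⟨1, ?_, ?_⟩⟩)
  · exact (Ideal.ne_top_iff_one _).mp (IsLocalRing.maximalIdeal.isMaximal A).ne_top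
  · exact (IsLocalRing.notMem_maximalIdeal.mp ht).smul_eq_zero.mp h0
  · rw [mul_smul] at h
    exact (IsLocalRing.notMem_maximalIdeal.mp ht).smul_eq_zero.mp h
  · exact (Ideal.ne_top_iff_one _).mp (IsLocalRing.maximalIdeal.isMaximal A).ne_top
  · rw [one_mul]; exact h

end crit

/-- weakly associated primes and localization at that prime -/
theorem weakAss_localization {A : Type u} [CommRing A] (p : Ideal A) [p.IsPrime]
    (A' : Type u) [CommRing A'] [Algebra A A'] [IsLocalization.AtPrime A' p] [IsLocalRing A']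
    {M : Type v} {M' : Type w} [AddCommGroup M] [AddCommGroup M'] [Module A M] [Module A M']
    [Module A' M'] [IsScalarTower A A' M'] (f : M →ₗ[A] M') [IsLocalizedModule p.primeCompl f] :
    IsLocalRing.maximalIdeal A' ∈ FlatCA.weakAss A' M' ↔ p ∈ FlatCA.weakAss A M := by
  rw [maximalIdeal_mem_weakAss_iff, mem_weakAss_iff]
  constructor
  · rintro ⟨y, hy, hya⟩
    obtain ⟨⟨m, s⟩, hm⟩ := IsLocalizedModule.surj p.primeCompl f y
    replace hm : (s : A) • y = f m := hm
    refine ⟨m, fun t ht h0 => hy ?_, fun a ha => ?_⟩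
    · have : (t * s : A) • y = 0 := by rw [mul_smul, hm, ← map_smul, h0, map_zero]
      rw [← algebraMap_smul A' (t * s : A) y] at this
      exact ((IsLocalization.AtPrime.isUnit_to_map_iff A' p _).mpr
        (show (t * s : A) ∈ p.primeCompl from Submonoid.mul_mem _ ht s.2)).smul_eq_zero.mp this
    · obtain ⟨n, hn⟩ := hya (algebraMap A A' a)
        ((IsLocalization.AtPrime.to_map_mem_maximal_iff A' p a).mpr ha)
      have : f (a ^ n • m) = f 0 := by
        rw [map_zero, map_smul, ← hm, smul_comm, ← algebraMap_smul A' (a ^ n) y, map_pow, hn, smul_zero]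
      obtain ⟨t, ht⟩ := IsLocalizedModule.exists_of_eq (S := p.primeCompl) this
      exact ⟨n, t, t.2, by simpa [mul_smul, Submonoid.smul_def] using ht⟩
  · rintro ⟨m, hm, hma⟩
    refine ⟨f m, fun h0 => ?_, fun b hb => ?_⟩
    · obtain ⟨t, ht⟩ := IsLocalizedModule.exists_of_eq (S := p.primeCompl)
        (show f m = f 0 by rw [h0, map_zero])
      exact hm t t.2 (by simpa [Submonoid.smul_def] using ht)
    · obtain ⟨a, s, rfl⟩ := IsLocalization.exists_mk'_eq p.primeCompl b
      obtain ⟨n, t, ht, h⟩ := hma a ((IsLocalization.AtPrime.mk'_mem_maximal_iff A' p a s).mp hb)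
      refine ⟨n, ?_⟩
      have hu : IsUnit (algebraMap A A' t) :=
        (IsLocalization.AtPrime.isUnit_to_map_iff A' p _).mpr ht
      have : (IsLocalization.mk' A' a s) ^ n =
          algebraMap A A' (a ^ n) * (IsLocalization.mk' A' (1 : A) s) ^ n := by
        rw [map_pow, ← mul_pow, IsLocalization.mul_mk'_eq_mk'_of_mul, mul_one]
      rw [this, mul_comm, mul_smul, algebraMap_smul, ← map_smul]
      have h0 : f (a ^ n • m) = 0 := hu.smul_eq_zero.mp (by
        rw [algebraMap_smul, ← map_smul, ← mul_smul, h, map_zero])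
      rw [h0, smul_zero]

/-- a weakly associated prime which is maximal, in a ring with finitely many maximal ideals, is
the radical of the annihilator of an element -/
theorem exists_ne_zero_of_mem_weakAss {F : Type u} [CommRing F]
    (hfin : {r : Ideal F | r.IsMaximal}.Finite) {N : Type v} [AddCommGroup N] [Module F N]
    (q : Ideal F) [hqm : q.IsMaximal] (h : q ∈ FlatCA.weakAss F N) :
    ∃ z : N, z ≠ 0 ∧ ∀ a ∈ q, ∃ n : ℕ, a ^ n • z = 0 := by
  classical
  obtain ⟨z, hz1, hz2⟩ := (mem_weakAss_iff q).mp h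
  set I := (Submodule.span F {z}).annihilator with hI
  let T : Submonoid F := ⨅ r ∈ {r : Ideal F | ∃ _ : r.IsMaximal, r ≠ q}, 
    if hr : r.IsMaximal then (haveI := hr.isPrime; r.primeCompl) else ⊤
  have hT : ∀ u, u ∈ T ↔ ∀ r : Ideal F, r.IsMaximal → r ≠ q → u ∉ r := by
    intro u
    simp only [T, Submonoid.mem_iInf, Set.mem_setOf_eq]
    refine ⟨fun h r hr hne => ?_, fun h r ⟨hr, hne⟩ => ?_⟩
    · have := h r ⟨hr, hne⟩
      rw [dif_pos hr] at this
      exact this
    · rw [dif_pos hr]
      exact h r hr hne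
  obtain ⟨u, hu, e, he, hue⟩ : ∃ u ∈ T, ∃ e ∉ q, (u * e) • z = 0 := by
    by_contra! hc
    have hd : Disjoint (I : Set F) ↑(T ⊔ q.primeCompl) := by
      rw [Set.disjoint_left]
      intro x hx hx'
      obtain ⟨u, hu, e, he, rfl⟩ := Submonoid.mem_sup.mp hx'
      exact hc u hu e he ((Submodule.mem_annihilator_span_singleton z _).mp hx)
    obtain ⟨r, hr, hIr, hdr⟩ := Ideal.exists_le_prime_disjoint I _ hd
    have hrq : r ≤ q := fun x hx => by
      by_contra hxp
      exact Set.disjoint_left.mp hdr hx ((le_sup_right : q.primeCompl ≤ _) hxp)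
    have heq : q ≤ r := fun a ha => by
      obtain ⟨n, t, ht, hta⟩ := hz2 a ha
      rcases hr.mem_or_mem (hIr ((Submodule.mem_annihilator_span_singleton z _).mpr hta)) with h | h
      · exact absurd (hrq h) ht
      · exact hr.mem_of_pow_mem n h
    have hsub : (q : Set F) ⊆ ⋃ r ∈ (hfin.toFinset.erase q : Set (Ideal F)), (r : Set F) := by
      intro x hx
      by_contra hxn
      refine Set.disjoint_left.mp hdr (heq hx) ((le_sup_left : T ≤ _) ((hT x).mpr fun r hr hne hxr => hxn ?_))
      exact Set.mem_biUnion (by simp [hne, hr]) hxr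
    obtain ⟨r', hr', hle⟩ := (Ideal.subset_union_prime q q fun r hr _ _ => by
      have h := (Finset.mem_erase.mp hr).2
      rw [Set.Finite.mem_toFinset] at h
      exact Ideal.IsMaximal.isPrime h).mp hsub
    obtain ⟨hne, hr'⟩ := Finset.mem_erase.mp hr'
    rw [Set.Finite.mem_toFinset] at hr'
    exact hne (hqm.eq_of_le (Ideal.IsMaximal.ne_top hr') hle).symm
  refine ⟨e • z, hz1 e he, fun a ha => ?_⟩
  suffices a ∈ ((Submodule.span F {e • z}).annihilator).radical by
    obtain ⟨n, hn⟩ := this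
    exact ⟨n, (Submodule.mem_annihilator_span_singleton _ _).mp hn⟩
  rw [Ideal.radical_eq_sInf, Ideal.mem_sInf]
  rintro r ⟨hle, hr⟩
  obtain ⟨M', hM', hrM⟩ := Ideal.exists_le_maximal r hr.ne_top
  have hur : u ∈ r := hle ((Submodule.mem_annihilator_span_singleton _ _).mpr (by
    rw [← mul_smul, hue]))
  have hrq : r ≤ q := by
    by_cases hM : M' = q
    · exact hM ▸ hrM
    · exact absurd (hrM hur) ((hT u).mp hu M' hM' hM)
  obtain ⟨n, t, ht, hta⟩ := hz2 a ha
  have : t * a ^ n ∈ r := hle ((Submodule.mem_annihilator_span_singleton _ _).mpr (by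
    rw [smul_comm, hta, smul_zero]))
  rcases hr.mem_or_mem this with h | h
  · exact absurd (hrq h) ht
  · exact hr.mem_of_pow_mem n h

/-- reduction along the localization of a finite free algebra -/
theorem exists_of_finite_free {R : Type u} [CommRing R] [IsLocalRing R]
    (F : Type u) [CommRing F] [Algebra R F] [Module.Finite R F] [Module.Free R F]
    (q : Ideal F) [q.IsMaximal] (T : Type u) [CommRing T] [IsLocalRing T] [Algebra F T] [Algebra R T]
    [IsScalarTower R F T] [IsLocalization.AtPrime T q]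
    (M : Type u) [AddCommGroup M] [Module R M]
    (h : IsLocalRing.maximalIdeal T ∈ FlatCA.weakAss T (T ⊗[R] M)) :
    IsLocalRing.maximalIdeal R ∈ FlatCA.weakAss R M := by
  classical
  have hfin : {r : Ideal F | r.IsMaximal}.Finite :=
    (Algebra.QuasiFinite.finite_primesOver (S := F) (IsLocalRing.maximalIdeal R)).subset
      fun r (hr : r.IsMaximal) => ⟨hr.isPrime, ⟨(IsLocalRing.eq_maximalIdeal
        (Ideal.isMaximal_comap_of_isIntegral_of_isMaximal r)).symm⟩⟩
  let f : F ⊗[R] M →ₗ[F] T ⊗[R] M := TensorProduct.AlgebraTensorModule.rTensor R M (Algebra.linearMap F T)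
  have hb : IsBaseChange T f := by
    refine IsBaseChange.of_comp (TensorProduct.isBaseChange R M F) ?_
    have : (f.restrictScalars R).comp (TensorProduct.mk R F M 1) = TensorProduct.mk R T M 1 := by
      ext m
      simp [f]
    rw [this]
    exact TensorProduct.isBaseChange R M T
  have := (isLocalizedModule_iff_isBaseChange q.primeCompl T f).mpr hb
  obtain ⟨z, hz, hza⟩ := exists_ne_zero_of_mem_weakAss hfin q
    ((weakAss_localization q T f).mp h)
  have hq : q.comap (algebraMap R F) = IsLocalRing.maximalIdeal R :=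
    IsLocalRing.eq_maximalIdeal (Ideal.isMaximal_comap_of_isIntegral_of_isMaximal q)
  let e : F ⊗[R] M ≃ₗ[R] (Module.Free.ChooseBasisIndex R F →₀ M) :=
    TensorProduct.equivFinsuppOfBasisLeft (Module.Free.chooseBasis R F)
  obtain ⟨i, hi⟩ : ∃ i, e z i ≠ 0 := by
    by_contra! hc
    exact hz (e.map_eq_zero_iff.mp (Finsupp.ext hc))
  rw [maximalIdeal_mem_weakAss_iff]
  refine ⟨e z i, hi, fun a ha => ?_⟩
  obtain ⟨n, hn⟩ := hza (algebraMap R F a) (by rw [← Ideal.mem_comap, hq]; exact ha)
  refine ⟨n, ?_⟩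
  rw [← map_pow, algebraMap_smul] at hn
  have := congrArg (fun w => e w i) hn
  simpa using this

theorem weakAss_of_isEtColim {R S : Type u} [CommRing R] [IsLocalRing R] [CommRing S] [IsLocalRing S]
    [Algebra R S] [IsLocalHom (algebraMap R S)] (hS : EtColim.IsEtColim R S)
    (M : Type u) [AddCommGroup M] [Module R M]
    (h : IsLocalRing.maximalIdeal S ∈ FlatCA.weakAss S (S ⊗[R] M)) :
    IsLocalRing.maximalIdeal R ∈ FlatCA.weakAss R M := by
  classical
  obtain ⟨x, hx, hxa⟩ := maximalIdeal_mem_weakAss_iff.mp h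
  obtain ⟨sm, hsm⟩ := TensorProduct.exists_finset x
  obtain ⟨E, _, _, hE, φ, hr⟩ := hS.rep (fun k : sm => k.1.1)
  choose r hr using hr
  let qE : Ideal E := (IsLocalRing.maximalIdeal S).comap φ.toRingHom
  obtain ⟨f, hfq, hstd⟩ := Algebra.IsEtaleAt.exists_isStandardEtale (R := R) qE
  have hfu : IsUnit (φ f) := by
    by_contra hc
    exact hfq ((IsLocalRing.mem_maximalIdeal _).mpr hc)
  let Ef := Localization.Away f
  let φf : Ef →ₐ[R] S := IsLocalization.Away.liftAlgHom f (f := φ) hfu
  let 𝓟 := Classical.ofNonempty (α := StandardEtalePresentation R Ef)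
  let e := 𝓟.equivRing.trans 𝓟.equivAwayAdjoinRoot
  let : Algebra (AdjoinRoot 𝓟.f) Ef :=
    (e.symm.toAlgHom.comp (IsScalarTower.toAlgHom R (AdjoinRoot 𝓟.f) _)).toRingHom.toAlgebra
  have : IsScalarTower R (AdjoinRoot 𝓟.f) Ef := IsScalarTower.of_algebraMap_eq fun c =>
    ((e.symm.toAlgHom.comp (IsScalarTower.toAlgHom R (AdjoinRoot 𝓟.f) _)).commutes c).symm
  have := IsLocalization.isLocalization_of_algEquiv (R := AdjoinRoot 𝓟.f) (.powers (.mk _ 𝓟.g))
      { toRingEquiv := e.symm.toRingEquiv, commutes' := by simp [RingHom.algebraMap_toAlgebra] }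
  have := 𝓟.monic_f.finite_adjoinRoot
  have := 𝓟.monic_f.free_adjoinRoot
  let : Algebra Ef S := φf.toRingHom.toAlgebra
  have : IsScalarTower R Ef S := IsScalarTower.of_algebraMap_eq fun c => (φf.commutes c).symm
  have hflat : Module.Flat Ef S :=
    (Trans.cancel (DirColim.isEtColim_self (R := R) (E := Ef)) hS).flat
  let q1 : Ideal Ef := (IsLocalRing.maximalIdeal S).comap (algebraMap Ef S)
  let qF : Ideal (AdjoinRoot 𝓟.f) := q1.comap (algebraMap (AdjoinRoot 𝓟.f) Ef)
  have : qF.IsMaximal := by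
    refine Ideal.isMaximal_of_isIntegral_of_isMaximal_comap (R := R) qF ?_
    convert IsLocalRing.maximalIdeal.isMaximal R using 1
    rw [Ideal.comap_comap, ← IsScalarTower.algebraMap_eq, Ideal.comap_comap,
      ← IsScalarTower.algebraMap_eq]
    exact ((IsLocalRing.local_hom_TFAE (algebraMap R S)).out 0 4).mp ‹_›
  let T := Localization.AtPrime q1
  have : IsLocalization.AtPrime T qF :=
    IsLocalization.isLocalization_isLocalization_atPrime_isLocalization
      (Submonoid.powers (AdjoinRoot.mk 𝓟.f 𝓟.g)) T q1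
  have hq1 : ∀ y : q1.primeCompl, IsUnit (algebraMap Ef S y) := fun y =>
    IsLocalRing.notMem_maximalIdeal.mp y.2
  let χ : T →+* S := IsLocalization.lift hq1
  let : Algebra T S := χ.toAlgebra
  have : IsScalarTower Ef T S := IsScalarTower.of_algebraMap_eq fun c =>
    (IsLocalization.lift_eq hq1 c).symm
  have : IsScalarTower R T S := IsScalarTower.of_algebraMap_eq fun c => by
    rw [IsScalarTower.algebraMap_apply R Ef T, ← IsScalarTower.algebraMap_apply Ef T S,
      ← IsScalarTower.algebraMap_apply R Ef S]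
  have hloc : IsLocalHom (algebraMap T S) := ⟨fun a ha => by
    obtain ⟨b, s, rfl⟩ := IsLocalization.exists_mk'_eq q1.primeCompl a
    rw [IsLocalization.AtPrime.isUnit_mk'_iff T q1]
    show algebraMap Ef S b ∉ IsLocalRing.maximalIdeal S
    rw [IsLocalRing.notMem_maximalIdeal]
    rw [IsScalarTower.algebraMap_apply Ef T S, ← IsLocalization.mk'_spec T b s, map_mul]
    exact ha.mul ((IsLocalization.map_units T s).map _)⟩
  have : Module.Flat T S := (Module.flat_iff_of_isLocalization T q1.primeCompl S).mpr hflat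
  have : Module.FaithfullyFlat T S := Module.FaithfullyFlat.of_flat_of_isLocalHom
  let ι : T ⊗[R] M →ₗ[T] S ⊗[R] M :=
    TensorProduct.AlgebraTensorModule.rTensor R M (Algebra.linearMap T S)
  have hι : Function.Injective ι := by
    have h1 := Module.FaithfullyFlat.tensorProduct_mk_injective (A := T) (B := S) (T ⊗[R] M)
    have : (ι : T ⊗[R] M → S ⊗[R] M) = TensorProduct.AlgebraTensorModule.cancelBaseChange R T T S M ∘
        TensorProduct.mk T S (T ⊗[R] M) 1 := by
      funext w
      induction w with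
      | zero => simp
      | tmul a b => simp [ι, Algebra.smul_def]
      | add a b ha hb => simp_all [tmul_add]
    rw [this]
    exact (LinearEquiv.injective _).comp h1
  let y : T ⊗[R] M := ∑ k : sm, algebraMap Ef T (algebraMap E Ef (r k)) ⊗ₜ k.1.2
  have hy : ι y = x := by
    rw [hsm, map_sum, ← Finset.sum_coe_sort sm (fun i => i.1 ⊗ₜ[R] i.2)]
    refine Finset.sum_congr rfl fun k _ => ?_
    show algebraMap T S _ ⊗ₜ _ = _
    rw [← IsScalarTower.algebraMap_apply Ef T S]
    show φf _ ⊗ₜ _ = _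
    rw [show φf (algebraMap E Ef (r k)) = k.1.1 by rw [← hr k]; simp [φf]]
    rfl
  refine exists_of_finite_free (AdjoinRoot 𝓟.f) qF T M
    (maximalIdeal_mem_weakAss_iff.mpr ⟨y, fun h0 => hx (by rw [← hy, h0, map_zero]), fun b hb => ?_⟩)
  obtain ⟨n, hn⟩ := hxa (algebraMap T S b) (map_nonunit (algebraMap T S) b hb)
  refine ⟨n, hι ?_⟩
  rw [map_zero, map_smul, hy, ← hn, ← map_pow, algebraMap_smul]

theorem weakAss_baseChange_of_radical {R S : Type u} [CommRing R] [IsLocalRing R] [CommRing S] [IsLocalRing S]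
    [Algebra R S] [Module.FaithfullyFlat R S]
    (hmax : IsLocalRing.maximalIdeal S ≤ ((IsLocalRing.maximalIdeal R).map (algebraMap R S)).radical)
    (M : Type u) [AddCommGroup M] [Module R M]
    (h : IsLocalRing.maximalIdeal R ∈ FlatCA.weakAss R M) :
    IsLocalRing.maximalIdeal S ∈ FlatCA.weakAss S (S ⊗[R] M) := by
  obtain ⟨m, hm, hma⟩ := maximalIdeal_mem_weakAss_iff.mp h
  refine maximalIdeal_mem_weakAss_iff.mpr ⟨1 ⊗ₜ m, fun h0 => hm
    (Module.FaithfullyFlat.tensorProduct_mk_injective (A := R) (B := S) M (by simpa using h0)), ?_⟩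
  intro b hb
  suffices IsLocalRing.maximalIdeal S ≤
      ((Submodule.span S {(1 : S) ⊗ₜ[R] m}).annihilator).radical by
    obtain ⟨n, hn⟩ := this hb
    exact ⟨n, (Submodule.mem_annihilator_span_singleton _ _).mp hn⟩
  refine hmax.trans (Ideal.radical_le_radical_iff.mpr ?_)
  rw [Ideal.map_le_iff_le_comap]
  intro a ha
  obtain ⟨n, hn⟩ := hma a ha
  refine ⟨n, (Submodule.mem_annihilator_span_singleton _ _).mpr ?_⟩
  rw [← map_pow, algebraMap_smul, ← tmul_smul, hn, tmul_zero]

theorem weakAss_baseChange {R S : Type u} [CommRing R] [IsLocalRing R] [CommRing S] [IsLocalRing S]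
    [Algebra R S] [Module.FaithfullyFlat R S]
    (hmax : (IsLocalRing.maximalIdeal R).map (algebraMap R S) = IsLocalRing.maximalIdeal S)
    (M : Type u) [AddCommGroup M] [Module R M]
    (h : IsLocalRing.maximalIdeal R ∈ FlatCA.weakAss R M) :
    IsLocalRing.maximalIdeal S ∈ FlatCA.weakAss S (S ⊗[R] M) :=
  weakAss_baseChange_of_radical (hmax.ge.trans Ideal.le_radical) M h

end Groth.Agent.HensPoint.WeakAssEt
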