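import Groth.Agent.HensPoint.WeakAssEt
import Groth.Agent.HensPoint.EtColimLoc
import Mathlib.RingTheory.Unramified.LocalRing

/-!
Weakly associated primes for base change along etale and finite flat algebras.
-/

set_option autoImplicit false

namespace Groth.Agent.HensPoint.WeakAssPrime

universe u v w

open TensorProduct

theorem weakAss_congr {S : Type u} [CommRing S] {N : Type v} {N' : Type w} [AddCommGroup N]
    [AddCommGroup N'] [Module S N] [Module S N'] (e : N ≃ₗ[S] N') :
    FlatCA.weakAss S N = FlatCA.weakAss S N' := by
  have h : ∀ z : N, (Submodule.span S {z}).annihilator = (Submodule.span S {e z}).annihilator :=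
    fun z => by
      ext r
      rw [Submodule.mem_annihilator_span_singleton, Submodule.mem_annihilator_span_singleton,
        ← map_smul, e.map_eq_zero_iff]
  ext q
  exact ⟨fun ⟨z, hz⟩ => ⟨e z, h z ▸ hz⟩, fun ⟨z, hz⟩ => ⟨e.symm z, by rwa [h, e.apply_symm_apply]⟩⟩

variable {A B : Type u} [CommRing A] [CommRing B] [Algebra A B]
    (M : Type u) [AddCommGroup M] [Module A M] (p : Ideal A) [p.IsPrime] (t : Ideal B) [t.IsPrime]

theorem local_reduction (R : Type u) [CommRing R] [IsLocalRing R] [Algebra A R]
    [IsLocalization.AtPrime R p] (S : Type u) [CommRing S] [IsLocalRing S] [Algebra B S]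
    [IsLocalization.AtPrime S t] [Algebra A S] [IsScalarTower A B S] [Algebra R S] [IsScalarTower A R S] :
    (t ∈ FlatCA.weakAss B (B ⊗[A] M) ↔
        IsLocalRing.maximalIdeal S ∈ FlatCA.weakAss S (S ⊗[R] (R ⊗[A] M))) ∧
      (p ∈ FlatCA.weakAss A M ↔ IsLocalRing.maximalIdeal R ∈ FlatCA.weakAss R (R ⊗[A] M)) := by
  constructor
  · let f : B ⊗[A] M →ₗ[B] S ⊗[A] M :=
      TensorProduct.AlgebraTensorModule.rTensor A M (Algebra.linearMap B S)
    have hb : IsBaseChange S f := by
      refine IsBaseChange.of_comp (TensorProduct.isBaseChange A M B) ?_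
      have : (f.restrictScalars A).comp (TensorProduct.mk A B M 1) = TensorProduct.mk A S M 1 := by
        ext m
        simp [f]
      rw [this]
      exact TensorProduct.isBaseChange A M S
    have := (isLocalizedModule_iff_isBaseChange t.primeCompl S f).mpr hb
    rw [weakAss_congr (TensorProduct.AlgebraTensorModule.cancelBaseChange A R S S M),
      WeakAssEt.weakAss_localization t S f]
  · exact (WeakAssEt.weakAss_localization p R (TensorProduct.mk A R M 1)).symm

theorem etale [Algebra.Etale A B] [t.LiesOver p] :
    t ∈ FlatCA.weakAss B (B ⊗[A] M) ↔ p ∈ FlatCA.weakAss A M := by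
  let S := Localization.AtPrime t
  let R := Localization.AtPrime p
  let : Algebra R S := Localization.AtPrime.algebraOfLiesOver p t
  have hloc : IsLocalHom (algebraMap R S) := ⟨fun a ha => by
    obtain ⟨b, s, rfl⟩ := IsLocalization.exists_mk'_eq p.primeCompl a
    rw [IsLocalization.AtPrime.isUnit_mk'_iff R p]
    intro hb
    have h1 : IsUnit (algebraMap A S b) := by
      rw [IsScalarTower.algebraMap_apply A R S, ← IsLocalization.mk'_spec R b s, map_mul]
      exact ha.mul ((IsLocalization.map_units R s).map _)
    rw [IsScalarTower.algebraMap_apply A B S, IsLocalization.AtPrime.isUnit_to_map_iff S t] at h1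
    exact h1 ((Ideal.mem_of_liesOver t p b).mp hb)⟩
  have hAS : EtColim.IsEtColim A S :=
    Trans.trans (DirColim.isEtColim_self (R := A) (E := B)) (EtColimLoc.isEtColim_localization t.primeCompl)
  have hRS : EtColim.IsEtColim R S :=
    Trans.cancel (EtColimLoc.isEtColim_localization p.primeCompl) hAS
  obtain ⟨h1, h2⟩ := local_reduction M p t R S
  rw [h1, h2]
  refine ⟨WeakAssEt.weakAss_of_isEtColim hRS _, fun h => ?_⟩
  have : Module.Flat R S := hRS.flat
  have : Module.FaithfullyFlat R S := Module.FaithfullyFlat.of_flat_of_isLocalHom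
  have : Algebra.FormallyUnramified A S := Algebra.FormallyUnramified.comp A B S
  have : Algebra.FormallyUnramified R S := Algebra.FormallyUnramified.of_restrictScalars A R S
  have : Algebra.EssFiniteType A S := Algebra.EssFiniteType.comp A B S
  have : Algebra.EssFiniteType R S := Algebra.EssFiniteType.of_comp A R S
  exact WeakAssEt.weakAss_baseChange Algebra.FormallyUnramified.map_maximalIdeal _ h

theorem finiteFlat [Module.Finite A B] [Module.Flat A B] [t.LiesOver p] :
    t ∈ FlatCA.weakAss B (B ⊗[A] M) ↔ p ∈ FlatCA.weakAss A M := by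
  let R := Localization.AtPrime p
  let F := Localization (Algebra.algebraMapSubmonoid B p.primeCompl)
  have hle : Algebra.algebraMapSubmonoid B p.primeCompl ≤ t.primeCompl := by
    rintro _ ⟨x, hx, rfl⟩ hb
    exact hx ((Ideal.mem_of_liesOver t p x).mpr hb)
  let q : Ideal F := t.map (algebraMap B F)
  have hdisj : Disjoint (Algebra.algebraMapSubmonoid B p.primeCompl : Set B) t :=
    Set.disjoint_left.mpr fun x hx => hle hx
  have hqp : q.IsPrime := IsLocalization.isPrime_of_isPrime_disjoint _ F t inferInstance hdisj
  have hqt : q.comap (algebraMap B F) = t := IsLocalization.comap_map_of_isPrime_disjoint _ F inferInstance hdisj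
  let S := Localization.AtPrime q
  have : IsLocalization.AtPrime S t := by
    have h := IsLocalization.isLocalization_isLocalization_atPrime_isLocalization
      (Algebra.algebraMapSubmonoid B p.primeCompl) S q
    have he : (q.comap (algebraMap B F)).primeCompl = t.primeCompl := by
      ext x
      show x ∉ q.comap (algebraMap B F) ↔ x ∉ t
      rw [hqt]
    show IsLocalization t.primeCompl S
    rw [← he]
    exact h
  have : Module.Finite R F := Module.Finite.of_isLocalization A B p.primeCompl
  have : Module.Flat R F := by
    have : Module.Flat A F := Module.Flat.trans A B F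
    exact (Module.flat_iff_of_isLocalization R p.primeCompl F).mpr this
  have : Module.Free R F := Module.free_of_flat_of_isLocalRing
  have hqR : q.comap (algebraMap R F) = IsLocalRing.maximalIdeal R := by
    rw [← Localization.AtPrime.map_eq_maximalIdeal,
      ← IsLocalization.map_comap p.primeCompl R (q.comap (algebraMap R F)), Ideal.under_def, Ideal.comap_comap, ← IsScalarTower.algebraMap_eq,
      IsScalarTower.algebraMap_eq A B F, ← Ideal.comap_comap, hqt, ← Ideal.under_def, ← Ideal.LiesOver.over (P := t) (p := p)]
  have : q.IsMaximal := Ideal.isMaximal_of_isIntegral_of_isMaximal_comap (R := R) q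
    (hqR ▸ IsLocalRing.maximalIdeal.isMaximal R)
  obtain ⟨h1, h2⟩ := local_reduction M p t R S
  rw [h1, h2]
  refine ⟨WeakAssEt.exists_of_finite_free F q S _, fun h => ?_⟩
  have : Module.Flat R S := Module.Flat.trans R F S
  have hloc : IsLocalHom (algebraMap R S) := ((IsLocalRing.local_hom_TFAE (algebraMap R S)).out 0 4).mpr (by
    rw [IsScalarTower.algebraMap_eq R F S, ← Ideal.comap_comap,
      show (IsLocalRing.maximalIdeal S).comap (algebraMap F S) = q from
        IsLocalization.AtPrime.comap_maximalIdeal S q, hqR])
  have : Module.FaithfullyFlat R S := Module.FaithfullyFlat.of_flat_of_isLocalHom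
  refine WeakAssEt.weakAss_baseChange_of_radical ?_ _ h
  rw [Ideal.radical_eq_sInf]
  refine le_sInf fun J ⟨hJ, hJp⟩ => ?_
  have hle' : J.comap (algebraMap F S) ≤ q :=
    (Ideal.comap_mono (IsLocalRing.le_maximalIdeal hJp.ne_top)).trans
      (IsLocalization.AtPrime.comap_maximalIdeal S q).le
  have hJR : (J.comap (algebraMap F S)).comap (algebraMap R F) = IsLocalRing.maximalIdeal R := by
    refine le_antisymm (hqR ▸ Ideal.comap_mono hle') ?_
    rw [Ideal.comap_comap, ← IsScalarTower.algebraMap_eq R F S, ← Ideal.map_le_iff_le_comap]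
    exact hJ
  have := Ideal.isMaximal_of_isIntegral_of_isMaximal_comap (R := R) (J.comap (algebraMap F S))
    (hJR ▸ IsLocalRing.maximalIdeal.isMaximal R)
  have h3 : J.comap (algebraMap F S) = q := this.eq_of_le Ideal.IsPrime.ne_top' hle'
  calc IsLocalRing.maximalIdeal S
      = q.map (algebraMap F S) := (Localization.AtPrime.map_eq_maximalIdeal).symm
    _ = (J.comap (algebraMap F S)).map (algebraMap F S) := by rw [h3]
    _ ≤ J := Ideal.map_comap_le

end Groth.Agent.HensPoint.WeakAssPrime
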